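import Cfsg.Agent.H19.A8C
import Cfsg.Agent.H49.CenCore
import Cfsg.Agent.H61.Platonic
import Cfsg.Agent.H2.Fitting

/-! The `3`-local characterization of `A₈`. -/

set_option autoImplicit false
set_option synthInstance.maxSize 5000

namespace H19.A8

open Cfsg Subgroup H98 H14 H56.L3 H42.L3 Equiv
open H42.Ree (Pair two_of_sq sq_of_two)

attribute [local instance 2000] List.decidableBAll List.decidableBEx

theorem conj_uA {x : A} (h : x * x = 1) (h1 : x.1.support.card = 4) : IsConj uA x :=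
  isConj_of_card ord_uA (two_of_sq h (by rintro rfl; simp at h1)) (h1.symm ▸ by decide)
    (t := swap 4 5) (by decide) (by decide)

universe u

variable {G : Type u} [Group G] [Finite G] {φ : K →* G} {ψ : A →* G}

namespace Hyp2

variable (h : Hyp2 φ ψ)
include h

theorem cen_u {a : A} (ha : IsConj uA a) : Ce (ψ a) ≤ ψ.range :=
  H49.cent_le_range_conj ha (h.eU ▸ h.cU)

theorem two_le {P : Subgroup G} (hP : IsPGroup 2 P) {a : A} (ha : IsConj uA a) (h1 : ψ a ∈ P) :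
    P ≤ ψ.range := by
  by_contra h2
  obtain ⟨g, hg, h3⟩ := SetLike.exists_of_lt (lt_inf_normalizer hP (inf_lt_left.2 h2))
  exact h3 ⟨hg.1, (H49.UF.of_hom h.inj ord_uA (h.cen_u (IsConj.refl _)) h.conj_u).mem_of_normalizes
    inf_le_right (ψ.map_isConj ha) ⟨h1, a, rfl⟩ hg.2⟩

omit [Finite G] in
theorem eY : ψ (g 0 * (g 4 * g 5)) = φ (z0 * z1) := by rw [map_mul, h.eZ, eZ' h.eq, map_mul]

theorem ft : FTHyp (Ce (ψ sA)) (zpowers (ψ sA)) (φ (z0 * z1)) := by
  refine ⟨zpowers_le_of_mem (mem_Ce.2 rfl), fun z hz g hg =>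
    mem_Ce.1 (zpowers_le_of_mem (Ce_symm hg) hz), by
    rw [Nat.card_zpowers, orderOf_injective ψ h.inj, ord_sA]; decide, Ce_symm h.hyp.sy,
    orderOf_eq_prime (map_cube (by decide +kernel)) fun e => z3.2.2.2.2.1 (h.hyp.inj (by
      rw [map_pow, e, one_pow, map_one])), fun x hx e => ?_⟩
  have key : ∀ d ∈ DD φ, d ∈ Ce (ψ sA) → d ∈ zpowers (φ (z0 * z1)) := fun d hd e => by
    have key : ∀ a ∈ [1, g 0, (g 0)⁻¹], ∀ b ∈ [1, g 4 * g 5, (g 4 * g 5)⁻¹],
      a * b * sA = sA * (a * b) → a * b ∈ [1, g 0 * (g 4 * g 5), (g 0 * (g 4 * g 5))⁻¹] := by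
      decide +kernel
    have k2 : ∀ {z : K} {w : A}, ψ w = φ z → ∀ a ∈ [1, z, z⁻¹], ∃ c ∈ [1, w, w⁻¹], φ a = ψ c :=
      fun {z w} e a ha => by
        simp only [List.mem_cons, List.not_mem_nil, or_false] at ha
        rcases ha with rfl | rfl | rfl <;> simp [e]
    obtain ⟨a, ha, b, hb, rfl⟩ := mem_DD h.hyp.inj h.hyp.nor hd
    rw [map_mul φ a b] at e ⊢
    obtain ⟨a, ha, e1⟩ := k2 h.eZ a ha
    obtain ⟨b, hb, e2⟩ := k2 (eZ' h.eq) b hb
    rw [e1, e2, ← map_mul] at e ⊢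
    have := key a ha b hb (h.inj (by rw [map_mul, map_mul ψ sA]; exact mem_Ce.1 e))
    rw [mem_zp3 (map_cube (by decide +kernel)), ← h.eY, ← map_inv, ← ψ.map_one]
    simpa only [List.mem_cons, List.not_mem_nil, or_false, h.inj.eq_iff] using this
  rcases h.hyp.cy_mem (mem_Ce.2 e) with f | f
  · exact mem_sup_right (key x f hx)
  · exact (mul_mem_cancel_right (mem_sup_left (mem_zpowers _))).1
      (mem_sup_right (key _ f (mul_mem hx (mem_Ce.2 rfl))))

theorem cS : Ce (ψ sA) ≤ ψ.range := by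
  have ft := h.ft
  have yH : φ (z0 * z1) ∈ ψ.range := ⟨_, h.eY⟩
  have cs : ∀ {a : A}, a * sA = sA * a → ψ a ∈ Ce (ψ sA) := fun e =>
    mem_Ce.2 (by rw [← map_mul, e, map_mul])
  have t1 : IsConj uA (g 4) := conj_uA (by decide +kernel) (by decide +kernel)
  have t2 : ψ (g 4) ∈ Ce (ψ sA) := cs (by decide +kernel)
  have t3 : IsPGroup 2 (zpowers (ψ (g 4))) := isPGroup_zpowers (k := 1) (by
    rw [← map_pow, show g 4 ^ 2 ^ 1 = 1 by decide +kernel, map_one])
  rcases jobFT0 G _ _ _ ft with ⟨N, -, h1, h2, -, hN, h3⟩ | ⟨f, hf, -, h2⟩ | ⟨f, hf, h1⟩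
  · intro x hx
    obtain ⟨n, hn, c, -, e, rfl⟩ := h3 x hx
    refine mul_mem (le_of_forall_prime_pow_mem (fun q hq _ y hy ⟨k, hk⟩ => ?_) hn)
      (h.se yH ft.ord (e.elim (·.symm ▸ yH) (·.symm ▸ inv_mem yH)))
    have := Fact.mk hq
    have hQ : Ce (ψ sA) ≤ nr (pCoreOf q N) := le_trans (fun x hx => mem_normalizer_of_cj_le (by
      rintro _ ⟨y, hy, rfl⟩; exact h2 x (le_normalizer hx) y hy))
      (normalizer_le_normalizer_pCoreOf N)
    refine (?_ : pCoreOf q N ≤ _) ⟨⟨y, hy⟩, H2.le_pCore_of_isNilpotent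
      (isPGroup_zpowers (k := k) (Subtype.ext hk)) (mem_zpowers _), rfl⟩
    rcases hq.eq_two_or_odd' with rfl | ho
    · exact le_sup_left.trans (h.two_le ((isPGroup_pCoreOf N).to_sup_of_normal_left' t3
        (zpowers_le_of_mem (hQ t2))) t1 (mem_sup_right (mem_zpowers _)))
    let a : A := ⟨swap 0 5 * swap 1 6, Perm.mem_alternatingGroup.2 (by decide)⟩
    let b : A := ⟨swap 0 5 * swap 2 7, Perm.mem_alternatingGroup.2 (by decide)⟩
    have hp : Pair (ψ a) (ψ b) := ⟨(orderOf_injective ψ h.inj _).trans (two_of_sq (by decide)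
      (by decide)), (orderOf_injective ψ h.inj _).trans (two_of_sq (by decide) (by decide)),
      h.inj.ne (by decide), by rw [← map_mul, ← map_mul, show a * b = b * a by decide]⟩
    obtain ⟨n, hn⟩ := IsPGroup.iff_card.1 (isPGroup_pCoreOf (p := q) N)
    exact hp.le_of_cen (hn ▸ ho.pow) (hQ (cs (by decide))) (hQ (cs (by decide)))
      (inf_le_right.trans (h.cen_u (conj_uA (by decide) (by decide))))
      (inf_le_right.trans (h.cen_u (conj_uA (by decide) (by decide))))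
      (inf_le_right.trans (map_mul ψ a b ▸ h.cen_u (conj_uA (by decide) (by decide))))
  · obtain ⟨T, hT, h3⟩ := exists_isSyl_le t3 (zpowers_le_of_mem t2)
    have TH := h.two_le hT.isPGroup t1 (h3 (mem_zpowers _))
    have k4 : ∀ n, f n = 1 → n ^ 2 ^ 2 = 1 := fun n hn => Subtype.ext (by
      rcases (H42.Ree.mem_zpowers_two h.hyp.ss).1 (h2 n n hn hn).1 with e | e <;>
        simp [pow_succ, mul_assoc, ← mul_assoc n.1 n.1, e, h.hyp.ss])
    have hk : f.ker ≤ T.subgroupOf _ := hT.subgroupOf_top.le_of_le_normalizer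
      (isPGroup_iff_forall.2 fun n hn => ⟨2, k4 n hn⟩) le_top le_normalizer_of_normal
    have c60 : Nat.card (alternatingGroup (Fin 5)) = 60 := by
      rw [nat_card_alternatingGroup]; simp [Nat.factorial]
    have c4 : Nat.card ((T.subgroupOf _).map f) = 4 := by
      rw [(hT.subgroupOf_top.map f).card_eq, map_top_of_surjective f hf, card_top, c60]
      decide +kernel
    have le : (T.subgroupOf _).map f ≤ (ψ.range.subgroupOf _).map f := map_mono fun _ hx => TH hx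
    have tT : f ⟨_, t2⟩ ∈ (T.subgroupOf _).map f := ⟨_, h3 (mem_zpowers _), rfl⟩
    have p4 : ∀ b ∈ (T.subgroupOf _).map f, b ^ 4 = 1 := fun b hb =>
      orderOf_dvd_iff_pow_eq_one.1 (c4 ▸ orderOf_dvd_natCard _ hb)
    have tt : f ⟨_, t2⟩ * f ⟨_, t2⟩ = 1 := by
      rw [← map_mul, ← f.map_one]
      exact congrArg f (Subtype.ext ((map_mul ψ _ _).symm.trans (by
        rw [show g 4 * g 4 = 1 by decide +kernel, map_one]; rfl)))
    obtain ⟨b, hb, hb'⟩ : ∃ b ∈ (T.subgroupOf _).map f, b ∉ zpowers (f ⟨_, t2⟩) :=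
      SetLike.not_le_iff_exists.1 fun e => by
        have := card_dvd_of_le e
        rw [c4, Nat.card_zpowers] at this
        exact absurd (this.trans (orderOf_dvd_of_pow_eq_one ((sq _).trans tt))) (by decide)
    rw [H42.Ree.mem_zpowers_two tt, not_or] at hb'
    have y3 : (⟨_, ft.mem⟩ : Ce (ψ sA)) ^ 3 = 1 := Subtype.ext (map_cube (by decide +kernel))
    have y1 : f ⟨_, ft.mem⟩ ≠ 1 := fun e => by
      have := orderOf_dvd_of_pow_eq_one (k4 _ e)
      rw [← orderOf_coe, ft.ord] at this; exact absurd this (by decide)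
    have y4 : f ⟨_, ft.mem⟩ ^ 3 = 1 := by rw [← map_pow, y3, map_one]
    have yM : f ⟨_, ft.mem⟩ ∈ (ψ.range.subgroupOf _).map f := ⟨_, yH, rfl⟩
    obtain ⟨a1, a2⟩ := a5 _ y4 y1 (f ⟨_, t2⟩) (by
      rw [← map_inv, ← map_mul, ← map_mul, ← map_inv]
      refine congrArg f (Subtype.ext ?_)
      simp only [coe_mul, coe_inv, ← h.eY, ← map_inv, ← map_mul]
      exact congrArg ψ (by decide +kernel)) b (p4 b hb) (p4 _ (mul_mem hb tT)) hb'.1 hb'.2
    have := Fact.mk Nat.prime_five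
    have d3 := orderOf_eq_prime y4 y1 ▸ orderOf_dvd_natCard _ yM
    have d4 := c4 ▸ card_dvd_of_le le
    have d5 := orderOf_eq_prime a1 a2 ▸ orderOf_dvd_natCard _ (mul_mem yM (le hb))
    have top : (ψ.range.subgroupOf _).map f = ⊤ := eq_top_of_card_eq _ (Nat.dvd_antisymm
      (card_subgroup_dvd_card _) (by rw [c60]; omega))
    intro x hx
    obtain ⟨c, hc, e⟩ := top.ge (mem_top (f ⟨x, hx⟩))
    exact (mul_mem_cancel_left (inv_mem hc)).1 (TH (hk (x := c⁻¹ * ⟨x, hx⟩) (by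
      simp [MonoidHom.mem_ker, e])))
  · have := Fact.mk (show Nat.Prime 7 by norm_num)
    have h2 := f.ker.card_mul_index
    have h3 := H61.card_psl_dvd (F := ZMod 7)
    rw [index_ker, MonoidHom.range_eq_top.2 hf, card_top,
      show f.ker = (zpowers (ψ sA)).subgroupOf _ from Subgroup.ext h1,
      Nat.card_congr (subgroupOfEquivOfLe ft.le).toEquiv, Nat.card_zpowers,
      orderOf_injective ψ h.inj, ord_sA] at h2
    have h4 := card_cen_sA.trans (card_map_of_injective h.inj ▸ card_dvd_of_le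
      (show (Ce sA).map ψ ≤ Ce (ψ sA) by rintro _ ⟨a, ha, rfl⟩; exact cs (mem_Ce.1 ha)))
    rw [Nat.card_zmod] at h3
    exact absurd ((h2 ▸ h4).trans (Nat.mul_dvd_mul_left 2 h3)) (by decide)

theorem surj : Function.Surjective ψ :=
  H49.surj_of_two_classes h.inj ord_uA h.conj_u
    (fun _ hu => (inv_cases hu).elim h.cen_u (H49.cent_le_range_conj · h.cS))
    (fun u hu => (inv_cases hu).elim (⟨u, ·, rfl⟩) fun e =>
      let ⟨c, hc⟩ := isConj_iff.1 e
      ⟨c * g 4 * c⁻¹, (conj_uA (by decide +kernel) (by decide +kernel)).trans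
        (isConj_iff.2 ⟨c, rfl⟩), hc ▸ mem_Ce.1 (conj_mem_Ce (mem_Ce.2 (by decide +kernel)) c)⟩)
    ord_sA fun e => h.hyp.not_conj_us (h.eU ▸ ψ.map_isConj e)

end Hyp2

theorem Hyp.main {s : G} (h : Hyp φ s) : Nonempty (G ≃* A) :=
  let ⟨ψ, h⟩ := h.exists_psi
  ⟨(MulEquiv.ofBijective ψ ⟨h.inj, h.surj⟩).symm⟩

end H19.A8
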