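import Cfsg.Agent.H19.S8Spec
import Cfsg.Agent.H21.S3S3

/-! The `3`-local data of `S₈`: common facts. -/

set_option autoImplicit false
set_option synthInstance.maxSize 5000
set_option synthInstance.maxHeartbeats 200000

namespace H19.S8

open Subgroup H98 H14 H56.L3 H42.L3 Equiv
open H19.A8 (mem_zp3 Ce_inv Ce_symm pow_of_six Ce_le_Nz)

attribute [local instance 2000] List.decidableBAll List.decidableBEx

theorem z3 : z0 ^ 3 = 1 ∧ z1 ^ 3 = 1 ∧ z0 * z1 = z1 * z0 ∧ z0 ≠ 1 ∧ (z0 * z1) ^ 3 = 1 ∧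
    t0 * z0 * t0⁻¹ = z0⁻¹ ∧ t0 * z1 * t0⁻¹ = z1 ∧ τ0 * z0 = z0 * τ0 ∧ τ0 * z1 = z1 * τ0 ∧
    τ0 * τ0 = 1 ∧ τ0 ≠ 1 ∧ z0 * u0 = u0 * z0 ∧ z0 * z1 ≠ 1 := by decide +kernel

theorem l_all : ∀ k : L, (k * z0 = z0 * k → k * z1 = z1 * k → (k * k = 1 → k = 1 ∨ k = τ0) ∧
    k ^ 6 = 1 ∧ ∃ a ∈ [1, z0, z0⁻¹], ∃ b ∈ [1, z1, z1⁻¹],
      k = a * b ∨ Perm.sign k.2 ≠ 1 ∧ k * τ0 = a * b) ∧
    (k * (z0 * z1) = z0 * z1 * k → k * z0 = z0 * k ∧ k * z1 = z1 * k) ∧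
    (k * u0 = u0 * k → k * z0 = z0 * k → k ^ 12 = 1 ∧ (k ^ 3 = 1 → k = 1 ∨ k = z0 ∨ k = z0⁻¹)) := by
  decide +kernel

theorem l_five : ∃ k : L, k * z0 = z0 * k ∧ k * t0 = t0 * k ∧ k ^ 5 = 1 ∧ k ≠ 1 :=
  ⟨(1, finRotate 5), by decide +kernel⟩

variable {G : Type*} [Group G] {φ : L →* G} {s : G}

theorem map_cube {k : L} (h : k ^ 3 = 1) : φ k ^ 3 = 1 := by rw [← map_pow, h, map_one]

theorem map_sq {k : L} (h : k * k = 1) : φ k * φ k = 1 := by rw [← map_mul, h, map_one]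

theorem map_mem_Ce {a b : L} (h : a * b = b * a) : φ a ∈ Ce (φ b) :=
  mem_Ce.2 (by rw [← map_mul, h, map_mul])

theorem map_conj (a b : L) : φ a * φ b * (φ a)⁻¹ = φ (a * b * a⁻¹) := by simp

theorem z0_mem : φ z0 ∈ DD φ := mem_sup_left (mem_zpowers _)

theorem z1_mem : φ z1 ∈ DD φ := mem_sup_right (mem_zpowers _)

theorem mem_DD {g : G} : g ∈ DD φ ↔ ∃ a ∈ [1, z0, z0⁻¹], ∃ b ∈ [1, z1, z1⁻¹], g = φ (a * b) := by
  refine ⟨fun hg => ?_, ?_⟩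
  · obtain ⟨k, ⟨⟨h0, h1⟩, h2⟩, rfl⟩ := (sup_le (zpowers_le_of_mem ⟨z0, ⟨⟨mem_Ce.2 rfl,
      mem_Ce.2 z3.2.2.1⟩, MonoidHom.mem_ker.2 (by decide)⟩, rfl⟩) (zpowers_le_of_mem ⟨z1, ⟨⟨mem_Ce.2
      z3.2.2.1.symm, mem_Ce.2 rfl⟩, MonoidHom.mem_ker.2 (by decide)⟩, rfl⟩) : DD φ ≤ (Ce z0 ⊓ Ce z1 ⊓ (Perm.sign.comp
        (MonoidHom.snd _ _)).ker).map φ) hg
    obtain ⟨a, ha, b, hb, rfl | e⟩ := ((l_all k).1 (mem_Ce.1 h0) (mem_Ce.1 h1)).2.2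
    exacts [⟨a, ha, b, hb, rfl⟩, absurd h2 e.1]
  rintro ⟨a, ha, b, hb, rfl⟩
  simp only [List.mem_cons, List.not_mem_nil, or_false] at ha hb
  refine map_mul φ a b ▸ mul_mem ?_ ?_
  · rcases ha with rfl | rfl | rfl
    exacts [by simp, z0_mem, map_inv φ _ ▸ inv_mem z0_mem]
  · rcases hb with rfl | rfl | rfl
    exacts [by simp, z1_mem, map_inv φ _ ▸ inv_mem z1_mem]

theorem DD_le {H : Subgroup G} (h0 : φ z0 ∈ H) (h1 : φ z1 ∈ H) : DD φ ≤ H :=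
  sup_le (zpowers_le_of_mem h0) (zpowers_le_of_mem h1)

theorem D_comm {x : G} (hx : x ∈ DD φ) : DD φ ≤ Ce x := fun _ hy => Ce_symm
  (DD_le (Ce_symm (DD_le (map_mem_Ce rfl) (map_mem_Ce z3.2.2.1.symm) hy))
    (Ce_symm (DD_le (map_mem_Ce z3.2.2.1) (map_mem_Ce rfl) hy)) hx)

theorem D_tau : DD φ ≤ Ce (φ τ0) :=
  DD_le (map_mem_Ce z3.2.2.2.2.2.2.2.1.symm) (map_mem_Ce z3.2.2.2.2.2.2.2.2.1.symm)

variable [Finite G]

theorem mem_nr_DD {g : G} (h0 : g * φ z0 * g⁻¹ ∈ DD φ) (h1 : g * φ z1 * g⁻¹ ∈ DD φ) :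
    g ∈ nr (DD φ) := mem_normalizer_of_cj_le (by
  rw [cj_sup, H42.Ree.cj_zpowers, H42.Ree.cj_zpowers]
  exact sup_le (zpowers_le_of_mem h0) (zpowers_le_of_mem h1))

theorem t0_nr : φ t0 ∈ nr (DD φ) := mem_nr_DD
  (by rw [map_conj, z3.2.2.2.2.2.1, map_inv]; exact inv_mem z0_mem)
  (by rw [map_conj, z3.2.2.2.2.2.2.1]; exact z1_mem)

theorem cases_D (cy : Ce (φ (z0 * z1)) ≤ nr (DD φ)) {x : G} (hx : x ∈ DD φ) : x ^ 3 = 1 ∧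
    (x ≠ 1 → Ce x = Ce (φ z0) ∨ Ce x = Ce (φ z1) ∨ Ce x ≤ nr (DD φ)) := by
  have key : ∀ a ∈ [1, z0, z0⁻¹], ∀ b ∈ [1, z1, z1⁻¹], (a * b) ^ 3 = 1 ∧ (a * b = 1 ∨
      ∃ c ∈ [a * b, (a * b)⁻¹], c = z0 ∨ c = z1 ∨ c = z0 * z1 ∨ c = t0 * (z0 * z1) * t0⁻¹) := by
    decide +kernel
  obtain ⟨a, ha, b, hb, rfl⟩ := mem_DD.1 hx
  refine ⟨map_cube (key a ha b hb).1, fun h1 => ?_⟩
  obtain ⟨c, hc, e⟩ := (key a ha b hb).2.resolve_left fun e => h1 (by rw [e, map_one])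
  have : Ce (φ (a * b)) = Ce (φ c) := by
    rcases List.mem_pair.1 hc with rfl | rfl
    exacts [rfl, by rw [map_inv, Ce_inv]]
  rw [this]
  rcases e with rfl | rfl | rfl | rfl
  exacts [.inl rfl, .inr (.inl rfl), .inr (.inr cy), .inr (.inr (by
    rw [← map_conj, Ce, ← cj_centralizer_singleton]
    exact cj_le_of_le_of_mem cy t0_nr))]

namespace Hyp

variable (h : Hyp φ s)
include h

theorem pull {g : G} (hg : g ∈ Ce (φ z0)) : ∃ k, φ k = g := h.nor.le (Ce_le_Nz _ hg)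

omit [Finite G] in
theorem comm {a b : L} (e : φ a ∈ Ce (φ b)) : a * b = b * a := h.inj (by simpa using mem_Ce.1 e)

omit [Finite G] in
theorem sinv : s⁻¹ = s := inv_eq_of_mul_eq_one_right h.ss

omit [Finite G] in
theorem swap {a b : G} (e : s * a * s⁻¹ = b) : s * b * s⁻¹ = a := by
  simp [← e, mul_assoc, h.sinv, ← mul_assoc s s, h.ss]

omit [Finite G] in
theorem sz' : s * φ z1 * s⁻¹ = φ z0 := h.swap h.sz

omit [Finite G] in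
theorem sy : s ∈ Ce (φ (z0 * z1)) := mem_Ce'.2 (by
  rw [map_mul, ← conj_mul, h.sz, h.sz', ← map_mul, ← z3.2.2.1, map_mul])

omit [Finite G] in
theorem ordZ : orderOf (φ z0) = 3 :=
  orderOf_eq_prime (map_cube z3.1) fun e => z3.2.2.2.1 (h.inj (by rw [e, map_one]))

omit [Finite G] in
theorem ordY : orderOf (φ (z0 * z1)) = 3 := orderOf_eq_prime (map_cube z3.2.2.2.2.1)
  fun e => z3.2.2.2.2.2.2.2.2.2.2.2.2 (h.inj (by rw [e, map_one]))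

omit [Finite G] in
theorem tau_ne : φ τ0 ≠ 1 := fun e => z3.2.2.2.2.2.2.2.2.2.2.1 (h.inj (by rw [e, map_one]))

omit [Finite G] h in
theorem tau_sq : φ τ0 * φ τ0 = 1 := map_sq z3.2.2.2.2.2.2.2.2.2.1

theorem s_not_mem : s ∉ φ.range := fun e => by
  have := (mem_zp3 (map_cube z3.1)).1 (h.sz ▸ mem_Nz.1 (h.nor.ge e))
  simp only [← map_inv, h.inj.eq_iff, map_eq_one_iff φ h.inj] at this
  exact absurd this (by decide +kernel)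

omit [Finite G] in
theorem s_nr : s ∈ nr (DD φ) := h.cy h.sy

/-- `C(D) = D⟨τ⟩` -/
theorem cD {g : G} (h0 : g ∈ Ce (φ z0)) (h1 : g ∈ Ce (φ z1)) :
    (g * g = 1 → g = 1 ∨ g = φ τ0) ∧ g ^ 6 = 1 ∧ (g ∈ DD φ ∨ g * φ τ0 ∈ DD φ) := by
  obtain ⟨k, rfl⟩ := h.pull h0
  obtain ⟨a1, a2, a, ha, b, hb, e⟩ := (l_all k).1 (h.comm h0) (h.comm h1)
  exact ⟨fun e => (a1 (h.inj (by simpa using e))).imp (by rintro rfl; simp) (congrArg φ),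
    by rw [← map_pow, a2, map_one], e.imp (fun e => mem_DD.2 ⟨a, ha, b, hb, congrArg φ e⟩)
      fun e => mem_DD.2 ⟨a, ha, b, hb, by rw [← e.2, map_mul]⟩⟩

theorem nr_le : nr (DD φ) ≤ Ce (φ τ0) := fun g hg => by
  have : ∀ z ∈ DD φ, g * φ τ0 * g⁻¹ ∈ Ce z := fun z hz => by
    simpa [mul_assoc] using
      conj_mem_Ce (Ce_symm (D_tau (conj_mem_of_mem_normalizer' hg hz))) g
  exact mem_Ce'.2 (((h.cD (this _ z0_mem) (this _ z1_mem)).1 (by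
    rw [conj_mul, tau_sq]; simp)).resolve_left (by simpa using h.tau_ne))

theorem st : s ∈ Ce (φ τ0) := h.nr_le h.s_nr

omit [Finite G] in
theorem cy_mem {g : G} (hg : g ∈ Ce (φ (z0 * z1))) :
    g ∈ Ce (φ z0) ⊓ Ce (φ z1) ∨ g * s ∈ Ce (φ z0) ⊓ Ce (φ z1) := by
  have key : ∀ x ∈ Ce (φ (z0 * z1)), x ∈ φ.range → x ∈ Ce (φ z0) ⊓ Ce (φ z1) := by
    rintro _ hx ⟨k, rfl⟩
    exact ((l_all k).2.1 (h.comm hx)).imp map_mem_Ce map_mem_Ce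
  exact (h.nD g (h.cy hg)).imp (key g hg) (key _ (mul_mem hg h.sy))

theorem cy_pow {g : G} (hg : g ∈ Ce (φ (z0 * z1))) : g ^ 12 = 1 := by
  have : g ^ 2 ∈ Ce (φ z0) ⊓ Ce (φ z1) := (h.cy_mem hg).elim (pow_mem · 2) fun e => by
    have : s * (g * s) * s⁻¹ ∈ Ce (φ z0) ⊓ Ce (φ z1) :=
      ⟨h.sz' ▸ conj_mem_Ce e.2 s, h.sz ▸ conj_mem_Ce e.1 s⟩
    simpa [sq, mul_assoc, ← mul_assoc s s, h.ss] using mul_mem e this
  exact (pow_mul g 2 6).trans (h.cD this.1 this.2).2.1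

theorem not_conj_y (g : G) : g * φ (z0 * z1) * g⁻¹ ∉ zpowers (φ z0) := fun e => by
  obtain ⟨k, h1, -, h2, h3⟩ := l_five
  have h4 := h.cy_pow (g := g⁻¹ * φ k * g⁻¹⁻¹) (by
    simpa [mul_assoc] using
      conj_mem_Ce (Ce_symm (zpowers_le_of_mem (Ce_symm (map_mem_Ce h1)) e)) g⁻¹)
  rw [conj_pow, conj_eq_one_iff, ← map_pow, map_eq_one_iff φ h.inj] at h4
  exact h3 ((pow_eq_one_iff_of_coprime (show Nat.Coprime 5 12 by decide)).1 ⟨h2, h4⟩)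

theorem sylU : IsSyl 3 (zpowers (φ z0)) (Ce (φ u0)) := by
  refine isSyl_zpowers (map_mem_Ce z3.2.2.2.2.2.2.2.2.2.2.2.1) h.ordZ fun g hg ⟨n, hn⟩ => ?_
  obtain ⟨k, rfl⟩ := h.pull hg.2
  obtain ⟨h1, h2⟩ := (l_all k).2.2 (h.comm hg.1) (h.comm hg.2)
  simpa [mem_zp3 (map_cube z3.1), ← h.inj.eq_iff] using
    h2 (pow_of_six (q := 4) h1 (h.inj (by rw [map_pow, hn, map_one])) (by decide))

/-- No conjugate of `U` centralizes `Y`. -/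
theorem no_uy (g : G) : g * φ u0 * g⁻¹ ∉ Ce (φ (z0 * z1)) := fun e => by
  have h1 : g⁻¹ * φ (z0 * z1) * g⁻¹⁻¹ ∈ Ce (φ u0) := by
    simpa [mul_assoc] using conj_mem_Ce (Ce_symm e) g⁻¹
  obtain ⟨c, -, hc⟩ := h.sylU.exists_cj_le (isPGroup_zpowers (k := 1) (by
    rw [pow_one, conj_pow, map_cube z3.2.2.2.2.1]; simp)) (zpowers_le_of_mem h1)
  exact h.not_conj_y (c * g⁻¹) (by simpa [mul_assoc] using hc (conj_mem_cj (mem_zpowers _)))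

theorem not_conj_u {x ρ : G} (hρ : IsConj (φ (z0 * z1)) ρ) (hx : x ∈ Ce ρ) :
    ¬ IsConj (φ u0) x := fun e => by
  obtain ⟨g, rfl⟩ := isConj_iff.1 e
  obtain ⟨c, rfl⟩ := isConj_iff.1 hρ
  exact h.no_uy (c⁻¹ * g) (by simpa [mul_assoc] using conj_mem_Ce hx c⁻¹)

omit [Finite G] h in
theorem tau_y : φ τ0 ∈ Ce (φ (z0 * z1)) := Ce_symm (D_tau (map_mul φ _ _ ▸ mul_mem z0_mem z1_mem))

theorem not_ut : ¬ IsConj (φ u0) (φ τ0) := h.not_conj_u (IsConj.refl _) tau_y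

theorem not_us : ¬ IsConj (φ u0) s := h.not_conj_u (IsConj.refl _) h.sy

theorem not_uts : ¬ IsConj (φ u0) (φ τ0 * s) := h.not_conj_u (IsConj.refl _) (mul_mem tau_y h.sy)

/-- `τ` is the only conjugate of `τ` in `C(Y)`. -/
theorem eq_tau0 {x : G} (hx : IsConj (φ τ0) x) (hy : x ∈ Ce (φ (z0 * z1))) : x = φ τ0 := by
  obtain ⟨g, rfl⟩ := isConj_iff.1 hx
  have h1 : IsSyl 3 (cj g (DD φ)) (Ce (g * φ τ0 * g⁻¹)) := (h.syl.cj_of_mem (mem_top g)).of_le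
    (by rw [Ce, ← cj_centralizer_singleton]; exact cj_mono g D_tau) le_top
  obtain ⟨a, ha, e⟩ := h1.exists_cj_le (isPGroup_zpowers (k := 1) ((pow_one 3).symm ▸
    map_cube z3.2.2.2.2.1)) (zpowers_le_of_mem (Ce_symm hy))
  have h2 : cj (a⁻¹ * g) (DD φ) ≤ Ce (φ (z0 * z1)) := by
    rintro _ ⟨d, hd, rfl⟩
    simpa [mul_assoc] using
      conj_mem_Ce (D_comm (mem_cj.1 (e (conj_mem_cj (mem_zpowers _)))) hd) (a⁻¹ * g)
  have h3 := eq_of_le_of_card_ge (h.syl.le_of_le_normalizer' (h.syl.isPGroup.map _) le_top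
    (h2.trans h.cy)) (card_cj _ _).ge
  have h4 : DD φ ≤ Ce (g * φ τ0 * g⁻¹) :=
    h3.ge.trans ((cj_cj a⁻¹ g _).ge.trans (cj_le_of_le_of_mem h1.le (inv_mem ha)))
  exact ((h.cD (Ce_symm (h4 z0_mem)) (Ce_symm (h4 z1_mem))).1 (by
    rw [conj_mul, tau_sq]; simp)).resolve_left (by simpa using h.tau_ne)

theorem eq_tau {x ρ : G} (hx : IsConj (φ τ0) x) (hρ : IsConj (φ (z0 * z1)) ρ) (h1 : x ∈ Ce ρ)
    (h2 : φ τ0 ∈ Ce ρ) : x = φ τ0 := by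
  obtain ⟨c, rfl⟩ := isConj_iff.1 hρ
  have key : ∀ y, IsConj (φ τ0) y → y ∈ Ce (c * φ (z0 * z1) * c⁻¹) → c⁻¹ * y * c⁻¹⁻¹ = φ τ0 :=
    fun y a b => h.eq_tau0 (a.trans (isConj_iff.2 ⟨_, rfl⟩))
      (by simpa [mul_assoc] using conj_mem_Ce b c⁻¹)
  simpa using (key x hx h1).trans (key _ (IsConj.refl _) h2).symm

theorem not_ts : ¬ IsConj (φ τ0) s := fun e => h.s_not_mem ⟨_, (h.eq_tau0 e h.sy).symm⟩

theorem not_tts : ¬ IsConj (φ τ0) (φ τ0 * s) := fun e =>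
  h.s_not_mem (mul_eq_left.1 (h.eq_tau0 e (mul_mem tau_y h.sy)) ▸ one_mem _)

omit [Finite G] in
theorem nr_le_of {H : Subgroup G} (h1 : φ.range ≤ H) (h2 : s ∈ H) : nr (DD φ) ≤ H := fun g hg =>
  (h.nD g hg).elim (h1 ·) fun e => (mul_mem_cancel_right h2).1 (h1 e)

theorem se {H : Subgroup G} (h1 : φ.range ≤ H) (h2 : s ∈ H) : H21.L3.SE 3 ⊤ H :=
  fun _ hx ho _ hg hy => se_ab h.syl (fun _ ha _ hb => mem_Ce.1 (D_comm ha hb)) le_top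
    (inf_le_right.trans (h.nr_le_of h1 h2)) (fun a ha a1 => inf_le_right.trans (by
      rcases (cases_D h.cy ha).2 a1 with e | e | e
      · exact e ▸ fun _ hg => h1 (h.pull hg)
      · rw [e, ← h.sz, Ce, ← cj_centralizer_singleton]
        exact cj_le_of_le_of_mem (fun _ hg => h1 (h.pull hg)) h2
      · exact e.trans (h.nr_le_of h1 h2))) hx ho hg hy

/-- Coprime generation under `D`. -/
theorem gen_D {R M : Subgroup G} (h1 : (Nat.card R).Coprime 3) (h2 : DD φ ≤ nr R)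
    (h3 : R ⊓ Ce (φ z0) ≤ M) (h4 : R ⊓ Ce (φ z1) ≤ M) : R ≤ M := by
  have : IsMulCommutative (DD φ) := ⟨⟨fun a b => Subtype.ext (mem_Ce.1 (D_comm b.2 a.2))⟩⟩
  obtain ⟨n, hn⟩ := IsPGroup.iff_card.1 h.syl.isPGroup
  have hc : (Nat.card (DD φ)).Coprime (Nat.card R) := hn ▸ h1.symm.pow_left n
  refine H1.le_of_noncyclic_centralizer_le (fun e => ?_) h2 hc M fun a ha a1 => ?_
  · obtain ⟨⟨g, hg⟩, e⟩ := e.exists_generator
    have key : ∀ a ∈ [1, z0, z0⁻¹], ∀ b ∈ [1, z1, z1⁻¹],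
      ¬ (z0 ∈ [1, a * b, (a * b)⁻¹] ∧ z1 ∈ [1, a * b, (a * b)⁻¹]) := by decide +kernel
    obtain ⟨a, ha, b, hb, rfl⟩ := mem_DD.1 hg
    have : ∀ z : L, φ z ∈ DD φ → z ∈ [1, a * b, (a * b)⁻¹] := fun z hz => by
      obtain ⟨n, hn⟩ := e ⟨_, hz⟩
      simpa [← h.inj.eq_iff] using (mem_zp3 (cases_D h.cy hg).1).1 ⟨n, congrArg Subtype.val hn⟩
    exact key a ha b hb ⟨this _ z0_mem, this _ z1_mem⟩
  rcases (cases_D h.cy ha).2 a1 with e | e | e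
  · exact (inf_le_inf_left R e.le).trans h3
  · exact (inf_le_inf_left R e.le).trans h4
  · refine fun r hr => h3 ⟨hr.1, mem_Ce'.2 (mul_inv_eq_one.1 ?_)⟩
    refine mem_bot.1 ((Subgroup.disjoint_of_coprime_natCard hc).le_bot ⟨(DD φ).mul_mem
      (conj_mem_of_mem_normalizer (e hr.2) z0_mem) (inv_mem z0_mem), ?_⟩)
    simpa [mul_assoc] using mul_mem hr.1 (conj_mem_of_mem_normalizer (h2 z0_mem) (inv_mem hr.1))

end Hyp

end H19.S8
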