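import Cfsg.Agent.H19.A8C

/-! Interface for S3330 (`blueprints/S8.md`). -/

set_option autoImplicit false

namespace H19.S8

open Cfsg Subgroup H98 H56.L3 H42.L3 Equiv

universe u

/-- `S₃ × S₅` -/
abbrev L := Perm (Fin 3) × Perm (Fin 5)

/-- the `3`-cycle of the first factor -/
def z0 : L := (swap 0 1 * swap 1 2, 1)

/-- the `3`-cycle `(2 3 4)` of the second factor -/
def z1 : L := (1, swap 2 3 * swap 3 4)

/-- the involution centralizing the Sylow `3`-subgroup -/
def τ0 : L := (1, swap 0 1)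

/-- a transposition of the first factor -/
def t0 : L := (swap 0 1, 1)

/-- a transposition inverting `z1` -/
def t6 : L := (1, swap 2 3)

/-- `(1 2)(3 4)` -/
def u0 : L := (1, swap 1 2 * swap 3 4)

/-- `(1 3)(2 4)` -/
def v0 : L := (1, swap 1 3 * swap 2 4)

variable {G : Type*} [Group G]

/-- The Sylow `3`-subgroup. -/
abbrev DD (φ : L →* G) : Subgroup G := zpowers (φ z0) ⊔ zpowers (φ z1)

/-- The hypotheses of S3330 in normal form. -/
structure Hyp (φ : L →* G) (s : G) : Prop where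
  inj : Function.Injective φ
  nor : Nz (φ z0) = φ.range
  syl : IsSyl 3 (DD φ) ⊤
  ss : s * s = 1
  sz : s * φ z0 * s⁻¹ = φ z1
  nD : ∀ g ∈ nr (DD φ), g ∈ φ.range ∨ g * s ∈ φ.range
  cy : Ce (φ (z0 * z1)) ≤ nr (DD φ)

/-- The exceptional conclusion. -/
def Concl (G : Type*) [Group G] : Prop :=
  ∃ N : Subgroup G, N.Normal ∧ generalizedFittingSubgroup G = N ∧
    Nonempty (N ≃* alternatingGroup (Fin 5) × alternatingGroup (Fin 5)) ∧
    (∀ K : Subgroup G, K.Normal → K ≤ N → K = ⊥ ∨ K = N) ∧ N.index = 4 ∧ ∀ g : G, g ^ 2 ∈ N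

/-- Case II with `C(τ) = N(D)`. -/
def JobII : Prop :=
  ∀ (G : Type u) [Group G] [Finite G] (φ : L →* G) (s : G), Hyp φ s →
    s * φ t0 * s⁻¹ = φ (τ0 * t6) → Ce (φ τ0) ≤ nr (DD φ) → Concl G

/-- Two commuting copies of `A₅`, interchanged by `s`, with a common outer involution. -/
structure Two (l : Perm (Fin 5) →* G) (s : G) : Prop where
  inj : Function.Injective l
  ss : s * s = 1
  st : s * l (swap 0 1) = l (swap 0 1) * s
  comm : ∀ a b, Perm.sign a = 1 → Perm.sign b = 1 →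
    l a * (s * l b * s⁻¹) = s * l b * s⁻¹ * l a

/-- The last step of case II: `G = (L₁ × L₂)⟨τ, s⟩`. -/
def JobFin : Prop :=
  ∀ (G : Type u) [Group G] [Finite G] (l : Perm (Fin 5) →* G) (s : G), Two l s →
    l.range ⊔ zpowers s = ⊤ → Concl G

end H19.S8
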