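import Cfsg.Agent.H19.S8D
import Cfsg.Agent.H19.A8D
import Cfsg.Agent.H67.S8Fin
import Cfsg.Agent.H85.FZMain

/-! The `3`-local characterization of `S₈`. -/

set_option autoImplicit false
set_option synthInstance.maxSize 5000
set_option synthInstance.maxHeartbeats 200000

namespace H19.S8

open Subgroup H98 H14 H56.L3 H42.L3 Equiv H75
open H19.A8 (mem_zp3 Ce_inv Ce_symm Ce_le_Nz)

attribute [local instance 2000] List.decidableBAll List.decidableBEx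

universe u

variable {G : Type u} [Group G] [Finite G] {φ : L →* G} {s : G} {μ : M6 →* G}

/-- `(0 3 2)(1 4 5)` -/
def r6 : M6 := (1, swap 1 3) * (1, c0 * c1) * (1, swap 1 3)⁻¹

theorem Mod.false_II (m : Mod φ s μ) (h : Hyp φ s) (e : s * φ t0 * s⁻¹ = φ (τ0 * t6)) : False := by
  let v : L := (1, swap 0 2 * swap 1 3)
  have kv : v * τ0 * v⁻¹ = t6 ∧ v * t0 * v⁻¹ = t0 ∧ v * (τ0 * t6) * v⁻¹ = τ0 * t6 := by
    decide +kernel
  have e1 : μ (ε, swap 3 4) = φ (τ0 * t6) := by rw [map_mul, ← m.eτ, ← m.e6, ← map_mul]; rfl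
  have e0 : μ (ε, swap 0 1) = φ t0 := by
    rw [← h.swap e, map_mul, ← conj_mul, mem_Ce'.1 h.st, ← m.eτ, ← m.es, ← map_mul]; rfl
  have v1 : φ v * μ (ε, 1) * (φ v)⁻¹ = μ (1, swap 3 4) := by rw [m.eτ, map_conj, kv.1, m.e6]
  have v2 : φ v * μ (ε, swap 0 1) * (φ v)⁻¹ = μ (ε, swap 0 1) := by rw [e0, map_conj, kv.2.1]
  have v3 : φ v * μ (ε, swap 3 4) * (φ v)⁻¹ = μ (ε, swap 3 4) := by rw [e1, map_conj, kv.2.2]
  have cm : ∀ x y z : M6, x * y = y * x → φ v * μ y * (φ v)⁻¹ = μ z →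
      φ v * μ x * (φ v)⁻¹ ∈ Ce (μ z) := fun x y z a b =>
    b ▸ conj_mem_Ce (mem_Ce.2 (by rw [← map_mul, a, map_mul])) _
  have c1 := cm (ε, swap 2 5) _ _ (by decide) v1
  have c2 := cm (ε, swap 2 5) _ _ (by decide) v2
  have c3 := cm (ε, swap 2 5) _ _ (by decide) v3
  obtain ⟨⟨a, k⟩, hk⟩ := m.range.ge (show φ v * μ (ε, swap 2 5) * (φ v)⁻¹ ∈ _ from Ce_symm (by
    rw [← m.eτ, show ((ε, 1) : M6) = (ε, swap 3 4) * (1, swap 3 4) by decide, map_mul]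
    exact mul_mem (Ce_symm c3) (Ce_symm c1)))
  have cj : ∀ c x : M6, IsConj (μ x) (μ (c * x * c⁻¹)) := fun c x =>
    μ.map_isConj (isConj_iff.2 ⟨c, rfl⟩)
  have eq : ∀ {x y : M6}, x = y → IsConj (μ x) (μ y) := fun e => e ▸ IsConj.refl _
  have hv : ∀ i j l : ℕ, IsConj (μ ((ε, 1) ^ i * (ε, swap 0 1) ^ j * (ε, swap 3 4) ^ l *
      (ε, swap 2 5))) (μ ((1, swap 3 4) ^ i * (ε, swap 0 1) ^ j * (ε, swap 3 4) ^ l * (a, k))) :=
    fun i j l => isConj_iff.2 ⟨φ v, by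
      simp only [map_mul, map_pow, hk]
      rw [← conj_mul, ← conj_mul, ← conj_mul, ← conj_pow, ← conj_pow, ← conj_pow, v1, v2, v3]⟩
  have t1 : IsConj (φ τ0) (μ (r6 * (1, swap 3 4) * r6⁻¹)) := (m.e6 ▸ tau_t6).trans (cj _ _)
  have t2 : IsConj (φ τ0) (μ ((1, swap 3 4) * (ε, swap 0 1))) :=
    (tau_t6.trans (isConj_iff.2 ⟨s, m.es.symm⟩)).trans (isConj_iff.2 ⟨φ v, by
      rw [map_mul, ← v1, ← v2, conj_mul, ← map_mul]; rfl⟩)
  have u1 : IsConj (φ u0) (μ (a, k)) := ((e1 ▸ u_t6).trans (cj r6 _)).trans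
    (isConj_iff.2 ⟨φ v, by rw [hk]; exact congrArg (φ v * μ · * _) (by decide)⟩)
  have y : IsConj (φ (z0 * z1)) (μ r6) := by
    rw [map_mul, ← m.e0, ← m.e1, ← map_mul]; exact cj _ _
  have nu : ∀ x, x * r6 = r6 * x → ¬ IsConj (φ u0) (μ x) := fun x b =>
    h.not_conj_u y (mem_Ce.2 (by rw [← map_mul, b, map_mul]))
  have nt : ∀ x, x * r6 = r6 * x → x ≠ (ε, 1) → ¬ IsConj (φ τ0) (μ x) := fun x b c d =>
    c (m.inj ((h.eq_tau d y (mem_Ce.2 (by rw [← map_mul, b, map_mul]))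
      (Ce_symm (m.range.le ⟨_, rfl⟩))).trans m.eτ.symm))
  have key : ∀ k : P6, k * swap 0 1 = swap 0 1 * k → k * swap 3 4 = swap 3 4 * k →
      ∀ a : Multiplicative (ZMod 2), (∃ i ∈ [0, 1], ∃ j ∈ [0, 1], ∃ l ∈ [0, 1],
        (a, k) = (ε, 1) ^ i * (ε, swap 0 1) ^ j * (ε, swap 3 4) ^ l) ∨
      (a, k) * r6 = r6 * (a, k) ∨ (a, k) = r6 * (1, swap 3 4) * r6⁻¹ ∨
      (∃ c ∈ [r6, r6⁻¹], (a, k) = c * ((1, swap 3 4) * (ε, swap 0 1)) * c⁻¹) ∨
      (a, k) = (ε, swap 2 5) ∨ (a, k) = (1, swap 0 1 * swap 2 5) ∨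
      (a, k) = (1, swap 3 4 * swap 2 5) := by decide +kernel
  rcases key k (congrArg Prod.snd (m.inj (by rw [map_mul, map_mul, hk]; exact mem_Ce.1 c2) :
      (a, k) * (ε, swap 0 1) = (ε, swap 0 1) * (a, k)))
    (congrArg Prod.snd (m.inj (by rw [map_mul, map_mul, hk]; exact mem_Ce.1 c3) :
      (a, k) * (ε, swap 3 4) = (ε, swap 3 4) * (a, k))) a with
    ⟨i, -, j, -, l, -, f⟩ | f | f | ⟨c, -, f⟩ | f | f | f
  · have h1 : μ (a, k) ∈ φ.range := by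
      rw [f, map_mul, map_mul, map_pow, map_pow, map_pow, m.eτ, e0, e1]
      simp only [← map_pow, ← map_mul]; exact ⟨_, rfl⟩
    rw [hk, φ.range.mul_mem_cancel_right (inv_mem ⟨v, rfl⟩), φ.range.mul_mem_cancel_left ⟨v, rfl⟩,
      ← h.nor, mem_Nz, mem_zp3 (map_cube z3.1), ← m.e0] at h1
    simp only [← map_inv, ← map_mul, m.inj.eq_iff, map_eq_one_iff μ m.inj] at h1
    exact absurd h1 (by decide)
  · exact nu _ f u1
  · exact h.not_ut (u1.trans (f ▸ t1.symm))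
  · exact h.not_ut (u1.trans (f ▸ (t2.trans (cj c _)).symm))
  · exact nt _ (by rw [f]; decide) (by rw [f]; decide)
      (((t2.trans (cj r6⁻¹ _)).trans (eq (by decide))).trans (hv 1 1 0))
  · exact nt _ (by rw [f]; decide) (by rw [f]; decide) ((t1.trans (eq (by decide))).trans (hv 1 0 0))
  · exact nu _ (by decide) (((u1.trans (cj r6 _)).trans (eq (by rw [f]; decide))).trans
      (hv 0 1 1).symm)

omit [Finite G] in
theorem Hyp.tw (h : Hyp φ s) (hs : s ∈ Ce (φ τ0)) : Hyp φ (φ τ0 * s) := by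
  refine ⟨h.inj, h.nor, h.syl, ?_, ?_, fun g hg => (h.nD g hg).imp id fun e => ?_, h.cy⟩
  · rw [mul_assoc, ← mul_assoc s, mem_Ce.1 hs, mul_assoc, h.ss, mul_one, Hyp.tau_sq]
  · rw [← mem_Ce'.1 (Ce_symm (D_tau (φ := φ) z1_mem)), ← h.sz]; group
  · rw [← mem_Ce.1 hs, ← mul_assoc]; exact mul_mem e ⟨_, rfl⟩

theorem l_gen (H : Subgroup L) (h0 : z0 ∈ H) (h1 : t0 ∈ H) (h2 : ∀ i, (1, adjSwap i) ∈ H) (k : L) :
    k ∈ H := by
  have e : (1, k.2) ∈ H := (closure_le (H.comap (MonoidHom.inr _ _))).2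
    (by rintro _ ⟨i, rfl⟩; exact h2 i) (adjSwap_closure 4 ▸ mem_top k.2)
  have key : ∀ a : Perm (Fin 3), ∃ i ∈ [0, 1, 2], ∃ j ∈ [0, 1], ((a, 1) : L) = z0 ^ i * t0 ^ j := by
    decide +kernel
  obtain ⟨i, -, j, -, f⟩ := key k.1
  simpa using mul_mem (f ▸ mul_mem (pow_mem h0 i) (pow_mem h1 j) : (k.1, 1) ∈ H) e

theorem Hyp.alt (h : Hyp φ s) {N : Subgroup G} (h2 : N.index = 2) (hs : s ∈ N)
    (h0 : φ t0 ∉ N) (h1 : ∀ i, φ (1, adjSwap i) ∉ N) : Nonempty (G ≃* Perm (Fin 8)) := by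
  have := normal_of_index_eq_two h2
  have c3 : ∀ x : G, x ^ 3 = 1 → x ∈ N := fun x e => (mul_mem_cancel_left
    (sq_mem_of_index_two h2 x)).1 (by rw [← pow_succ, e]; exact one_mem _)
  have hK : ∀ k : A8.K, φ k ∈ N := A8.k_gen (N.comap (φ.comp A8.K.subtype))
    (c3 _ (map_cube z3.1)) fun i => by
      have := (mul_mem_iff_of_index_two h2).2 (iff_of_false h0 (h1 i))
      rw [← map_mul] at this; exact this
  have hK' : ∀ k, φ k ∈ N → k ∈ A8.K := fun k hk => by_contra fun e => h1 0 (by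
    have := hK ⟨k * (1, adjSwap 0), by
      rcases Int.units_eq_one_or (Perm.sign k.1) with a | a <;>
        rcases Int.units_eq_one_or (Perm.sign k.2) with b | b <;> simp_all [adjSwap]⟩
    rwa [map_mul, mul_mem_cancel_left hk] at this)
  let ψ : A8.K →* N := (φ.comp A8.K.subtype).codRestrict N hK
  have e0 : (ψ A8.z0 : G) = φ z0 := rfl
  have e1 : (ψ A8.z1 : G) = φ z1 := congrArg φ (by decide)
  have DN : DD φ ≤ N := DD_le (hK A8.z0) (e1 ▸ hK A8.z1)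
  have ce : ∀ g x : N, g ∈ Ce x ↔ (g : G) ∈ Ce (x : G) := fun g x => by
    simp only [mem_Ce, ← coe_mul, Subtype.coe_inj]
  have rg : ∀ g : N, (g : G) ∈ φ.range → g ∈ ψ.range := by
    rintro ⟨_, hg⟩ ⟨k, rfl⟩; exact ⟨⟨k, hK' k hg⟩, rfl⟩
  have eD : A8.DD ψ = (DD φ).subgroupOf N := Subgroup.ext fun g => by
    rw [mem_inf, ce, ce, e0, e1, mem_subgroupOf]
    exact ⟨fun e => (h.cD e.1 e.2).2.2.resolve_right fun f =>
      h1 0 ((mul_mem_cancel_left g.2).1 (DN f)), fun e => ⟨D_comm z0_mem e, D_comm z1_mem e⟩⟩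
  have nD : ∀ g : N, g ∈ nr (A8.DD ψ) ↔ (g : G) ∈ nr (DD φ) := fun g => by
    rw [eD, nr, ← subgroupOf_normalizer_eq DN, mem_subgroupOf]
  obtain ⟨e⟩ := (⟨fun a b e => Subtype.ext (h.inj (congrArg Subtype.val e)), Subgroup.ext fun g => by
      rw [mem_Nz, mem_zp3 (A8.map_cube A8.z3.1)]
      simp only [← Subtype.coe_inj, coe_mul, coe_inv, coe_one, e0]
      rw [← mem_zp3 (map_cube z3.1), ← mem_Nz, h.nor]
      exact ⟨rg g, by rintro ⟨k, rfl⟩; exact ⟨_, rfl⟩⟩,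
    eD ▸ (h.syl.of_le DN le_top).subgroupOf_top, Subtype.ext h.ss, Subtype.ext (h.sz.trans e1.symm),
    fun g hg => (h.nD g ((nD g).1 hg)).imp (rg g) (rg (g * ⟨s, hs⟩)),
    fun g hg => (nD g).2 (h.cy (by rwa [ce, map_mul, coe_mul, e0, e1, ← map_mul] at hg))⟩ :
      A8.Hyp ψ ⟨s, hs⟩).main
  let Φ : Perm (Fin 8) ≃* MulAut A8.A := MulEquiv.ofBijective MulAut.conjNormal
    ⟨H86.conjNormal_injective (by simp), fun φ =>
      H86.exists_conjNormal_eq (by simp) φ (H86.isThreeCycle_aut (by simp) φ)⟩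
  refine ⟨MulEquiv.ofBijective (Φ.symm.toMonoidHom.comp ((MulAut.congr e).toMonoidHom.comp
    MulAut.conjNormal)) ((Nat.bijective_iff_injective_and_card _).2 ⟨(injective_iff_map_eq_one _).2
      fun g hg => ?_, ?_⟩)⟩
  · have hg : ∀ k : A8.K, g ∈ Ce (φ k) := fun k => mem_Ce'.2 (congrArg Subtype.val
      (DFunLike.congr_fun ((MulAut.congr e).map_eq_one_iff.1 (Φ.symm.map_eq_one_iff.1 hg)) (ψ k)))
    obtain ⟨k, rfl⟩ := h.pull (hg A8.z0)
    have key : ∀ k : L, k * A8.z1 = A8.z1 * k → k * A8.u0 = A8.u0 * k → k * A8.z0 = A8.z0 * k →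
      k * A8.xx 0 = A8.xx 0 * k → k = 1 := by decide +kernel
    rw [key k (h.comm (hg _)) (h.comm (hg _)) (h.comm (hg _)) (h.comm (hg _)), map_one]
  · rw [← N.card_mul_index, h2, Nat.card_congr e.toEquiv, nat_card_alternatingGroup, Nat.card_perm]
    simp [Nat.factorial]

theorem Mod.case_I (m : Mod φ s μ) (h : Hyp φ s) (e : s * φ t0 * s⁻¹ = φ t6) :
    Nonempty (G ≃* Perm (Fin 8)) := by
  have o := H42.Ree.two_of_sq Hyp.tau_sq h.tau_ne
  obtain ⟨N, h2⟩ := H85.FZ.main _ o 6 (.inl rfl)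
    ⟨(MulEquiv.subgroupCongr m.range.symm).trans (MonoidHom.ofInjective m.inj).symm⟩
  have hn := normal_of_index_eq_two h2
  have cj : ∀ {x y : G}, IsConj x y → x ∈ N → y ∈ N := fun a b =>
    let ⟨c, e⟩ := isConj_iff.1 a; e ▸ hn.conj_mem _ b c
  have t0 : IsConj (φ τ0) (φ t0) := tau_t6.trans (isConj_iff.2 ⟨s, h.swap e⟩)
  have t1 : ∀ i, IsConj (φ τ0) (φ (1, adjSwap i)) := fun i => (φ.comp (MonoidHom.inr _ _)).map_isConj
    (Perm.isConj_swap (by decide) (Fin.castSucc_lt_succ (i := i)).ne)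
  have hτ : φ τ0 ∉ N := fun ht => by
    have h3 : Ce (φ τ0) ≤ N := by
      rw [← m.range]
      rintro _ ⟨⟨a, k⟩, rfl⟩
      have h4 : μ (1, k) ∈ N := (closure_le (N.comap (μ.comp (MonoidHom.inr _ _)))).2 (by
        rintro _ ⟨i, rfl⟩
        exact cj ((m.e6 ▸ tau_t6).trans ((μ.comp (MonoidHom.inr _ _)).map_isConj (Perm.isConj_swap
          (by decide) (Fin.castSucc_lt_succ (i := i)).ne))) ht) (adjSwap_closure 5 ▸ mem_top k)
      rcases (by decide : ∀ a : Multiplicative (ZMod 2), a = 1 ∨ a = ε) a with rfl | rfl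
      exacts [h4, by have := mul_mem (m.eτ ▸ ht) h4; rw [← map_mul] at this; exact this]
    have h4 : φ.range ≤ N := by
      rintro _ ⟨k, rfl⟩
      exact l_gen (N.comap φ) (h3 (D_tau z0_mem)) (cj t0 ht) (fun i => cj (t1 i) ht) k
    rw [(eq_top_iff' N).2 fun g => h.se h4 (h3 h.st) _ (h4 ⟨z0, rfl⟩) h.ordZ g (mem_top g)
      (hn.conj_mem _ (h4 ⟨z0, rfl⟩) g), index_top] at h2
    exact absurd h2 (by decide)
  by_cases hs : s ∈ N
  · exact h.alt h2 hs (hτ <| cj t0.symm ·) fun i e => hτ (cj (t1 i).symm e)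
  · exact (h.tw h.st).alt h2 ((mul_mem_iff_of_index_two h2).2 (iff_of_false hτ hs))
      (hτ <| cj t0.symm ·) fun i e => hτ (cj (t1 i).symm e)

theorem Hyp.main (h : Hyp φ s) (h9 : Nat.card (DD φ) = 9) (hN : Nat.card (nr (DD φ)) = 144) :
    Nonempty (G ≃* Perm (Fin 8)) ∨ Concl G := by
  obtain ⟨s, h, c, hc, e⟩ := h.norm
  rcases h.dich h9 hN hc e with f | ⟨θ, h1, h2⟩
  · refine .inr (H67.S8.jobII G φ s h ((hc.resolve_left ?_) ▸ e) f)
    rintro rfl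
    obtain ⟨k, -, k1, k2, k3⟩ := l_five
    obtain ⟨g, hg⟩ := isConj_iff.1 (tau_t6.trans (isConj_iff.2 ⟨s, h.swap e⟩)).symm
    have := congrArg Subtype.val (hN ▸ pow_card_eq_one' (x := (⟨_, f (hg ▸ conj_mem_Ce
      (map_mem_Ce k1) g)⟩ : nr (DD φ))))
    exact k3 ((pow_eq_one_iff_of_coprime (show Nat.Coprime 5 144 by decide)).1
      ⟨k2, h.inj (by simpa [conj_pow] using this)⟩)
  obtain ⟨μ, m⟩ := h.exists_mod θ h1 h2
  rcases hc with rfl | rfl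
  exacts [.inl (m.case_I h e), (m.false_II h e).elim]

end H19.S8
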