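import Cfsg.Agent.H91.AltSpectrum
import Cfsg.Agent.H86.AltAut
import Cfsg.Agent.H57.SLGen

/-! Classes, generators and automorphisms of `A₆`, `A₇` and `SL₃(2)`. -/

set_option autoImplicit false
set_option maxRecDepth 100000

namespace H19

open Equiv Equiv.Perm Matrix
open scoped MatrixGroups

attribute [local instance 2000] List.decidableBAll List.decidableBEx

/-- The power maps of a small group. -/
def Sm (Γ : Type*) [Group Γ] (c5 c6 c7 : Prop) : Prop :=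
  ∀ x : Γ, (IsConj x x⁻¹ ∧ (x ^ 3 = 1 ∨ x ^ 4 = 1 ∨ (c5 ∧ x ^ 5 = 1) ∨ (c6 ∧ x ^ 6 = 1))) ∨
    (c7 ∧ x ^ 7 = 1 ∧ IsConj x (x ^ 2))

/-- Every automorphism is inner or inverts the class of an element of order seven. -/
def Rig7 (Γ : Type*) [Group Γ] (c : Γ) : Prop :=
  c ^ 7 = 1 ∧ c ≠ 1 ∧ IsConj c (c ^ 2) ∧
    ∀ θ : MulAut Γ, (∃ y, ∀ x, θ x = y * x * y⁻¹) ∨ IsConj (θ c) c⁻¹

/-- A word in two elements. -/
def wd {G : Type*} [Group G] (a b : G) (l : List Bool) : G :=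
  l.foldr (fun t x => (if t then a else b) * x) 1

theorem wd_mem {G : Type*} [Group G] {H : Subgroup G} {a b : G} (ha : a ∈ H) (hb : b ∈ H)
    (l : List Bool) : wd a b l ∈ H := by
  induction l with
  | nil => exact H.one_mem
  | cons t l ih => exact H.mul_mem (by cases t <;> simpa) ih

theorem inner_of_gen {Γ : Type*} [Group Γ] {a b y : Γ} (h : Subgroup.closure {a, b} = ⊤)
    (θ : MulAut Γ) (ha : θ a = y * a * y⁻¹) (hb : θ b = y * b * y⁻¹) (x : Γ) :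
    θ x = y * x * y⁻¹ := by
  have : θ.toMonoidHom = (MulAut.conj y).toMonoidHom :=
    MonoidHom.eq_of_eqOn_dense h (by rintro _ (rfl | rfl); exacts [ha, hb])
  exact DFunLike.congr_fun this x

theorem conj_eq_of_mul {G : Type*} [Group G] {x y z w r : G} (h : x = y⁻¹ * z * y)
    (e : x * w = w * r) : z = y * w * r * (y * w)⁻¹ := by
  rw [mul_assoc y, ← e, h]; group

section alt

variable {n : ℕ}

theorem exists_rep {β : Type*} (reps : List β) (f : β → Perm (Fin n))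
    (h : ∀ l ∈ H91.comps (n / 2) n, (l.sum + l.length) % 2 = 0 →
      ∃ r ∈ reps, (f r).cycleType = (l : Multiset ℕ)) (x : alternatingGroup (Fin n)) :
    ∃ r ∈ reps, ∃ s : Perm (Fin n), (x : Perm (Fin n)) = s * f r * s⁻¹ := by
  have h1 := (H91.mem_alternatingGroup_iff_even _).1 x.2
  have h2 : (x : Perm (Fin n)).cycleType.sum ≤ n := by
    simpa using (x : Perm (Fin n)).sum_cycleType_le
  have h3 : ∀ a ∈ (x : Perm (Fin n)).cycleType, 2 ≤ a := fun a => two_le_of_mem_cycleType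
  obtain ⟨l, hl⟩ := Quotient.exists_rep (x : Perm (Fin n)).cycleType
  rw [← hl] at h1 h2 h3
  simp only [Multiset.quot_mk_to_coe, Multiset.sum_coe, Multiset.mem_coe, Multiset.coe_card,
    Nat.even_iff] at h1 h2 h3 hl
  have h4 := H91.length_le_of_two_le l h3
  obtain ⟨r, hr, e⟩ := h l ((H91.mem_comps _ _ _).2 ⟨by omega, h3, h2⟩) h1
  obtain ⟨s, hs⟩ := isConj_iff.1 (isConj_iff_cycleType_eq.2 (e.trans hl))
  exact ⟨r, hr, s, hs.symm⟩

theorem isConj_alt {x y : alternatingGroup (Fin n)} {t : Perm (Fin n)} (ht : sign t = 1)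
    (h : t * x = y * t) : IsConj x y :=
  isConj_iff.2 ⟨⟨t, ht⟩, Subtype.ext (mul_inv_eq_iff_eq_mul.2 h)⟩

theorem sm_alt (reps : List (Perm (Fin n) × Perm (Fin n))) (c5 c6 c7 : Prop)
    (h : ∀ l ∈ H91.comps (n / 2) n, (l.sum + l.length) % 2 = 0 →
      ∃ r ∈ reps, r.1.cycleType = (l : Multiset ℕ))
    (h' : ∀ r ∈ reps, sign r.2 = 1 ∧ ((r.2 * r.1 = r.1⁻¹ * r.2 ∧ (r.1 ^ 3 = 1 ∨ r.1 ^ 4 = 1 ∨
      (c5 ∧ r.1 ^ 5 = 1) ∨ (c6 ∧ r.1 ^ 6 = 1))) ∨ (c7 ∧ r.1 ^ 7 = 1 ∧ r.2 * r.1 = r.1 ^ 2 * r.2))) :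
    Sm (alternatingGroup (Fin n)) c5 c6 c7 := fun x => by
  obtain ⟨r, hr, s, hs⟩ := exists_rep reps Prod.fst h x
  obtain ⟨h1, h2⟩ := h' r hr
  have e : ∀ k, r.1 ^ k = 1 → x ^ k = 1 := fun k hk =>
    Subtype.ext (by rw [Subgroup.coe_pow, hs, conj_pow, hk]; simp)
  have h3 : sign (s * r.2 * s⁻¹) = 1 := by simp [h1]
  refine h2.imp (fun ⟨a, b⟩ => ⟨isConj_alt h3 ?_, b.imp (e 3) (Or.imp (e 4)
    (Or.imp (And.imp_right (e 5)) (And.imp_right (e 6))))⟩) fun ⟨a, b, c⟩ =>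
      ⟨a, e 7 b, isConj_alt h3 ?_⟩
  · rw [Subgroup.coe_inv, hs]
    calc _ = s * (r.2 * r.1) * s⁻¹ := by group
      _ = _ := by rw [a]; group
  · rw [Subgroup.coe_pow, hs, conj_pow]
    calc _ = s * (r.2 * r.1) * s⁻¹ := by group
      _ = _ := by rw [c]; group

end alt

/-- Representatives of the even classes of `S₆`. -/
def reps6 : List (Perm (Fin 6) × Perm (Fin 6)) :=
  [(1, 1), (c[0, 1] * c[2, 3], 1), (c[0, 1, 2], c[1, 2] * c[4, 5]),
    (c[0, 1, 2] * c[3, 4, 5], c[1, 2] * c[4, 5]), (c[0, 1, 2, 3] * c[4, 5], c[1, 3] * c[4, 5]),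
    (c[0, 1, 2, 3, 4], c[1, 4] * c[2, 3])]

/-- Representatives of the even classes of `S₇`. -/
def reps7 : List (Perm (Fin 7) × Perm (Fin 7)) :=
  [(1, 1), (c[0, 1] * c[2, 3], 1), (c[0, 1, 2], c[1, 2] * c[5, 6]),
    (c[0, 1, 2] * c[3, 4, 5], c[1, 2] * c[4, 5]), (c[0, 1, 2, 3] * c[4, 5], c[1, 3] * c[4, 5]),
    (c[0, 1, 2, 3, 4], c[1, 4] * c[2, 3]), (c[0, 1, 2] * c[3, 4] * c[5, 6], c[1, 2] * c[5, 6]),
    (c[0, 1, 2, 3, 4, 5, 6], c[1, 2, 4] * c[3, 6, 5])]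

theorem reps6_all : ∀ l ∈ H91.comps (6 / 2) 6, (l.sum + l.length) % 2 = 0 →
    ∃ r ∈ reps6, r.1.cycleType = (l : Multiset ℕ) := by decide +kernel

theorem sm_alt6 : Sm (alternatingGroup (Fin 6)) True False False :=
  sm_alt reps6 _ _ _ reps6_all (by decide +kernel)

theorem sm_alt7 : Sm (alternatingGroup (Fin 7)) True True True :=
  sm_alt reps7 _ _ _ (by decide +kernel) (by decide +kernel)

/-- A seven-cycle. -/
def c7 : alternatingGroup (Fin 7) := ⟨c[0, 1, 2, 3, 4, 5, 6], mem_alternatingGroup.2 (by decide +kernel)⟩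

theorem rig7_alt7 : Rig7 (alternatingGroup (Fin 7)) c7 := by
  refine ⟨by decide +kernel, by decide +kernel,
    isConj_alt (t := c[1, 2, 4] * c[3, 6, 5]) (by decide +kernel) (by decide +kernel), fun θ => ?_⟩
  obtain ⟨σ, rfl⟩ := H86.exists_conjNormal_eq (by simp) θ (H86.isThreeCycle_aut (by simp) θ)
  rcases Int.units_eq_one_or (sign σ) with h | h
  · exact Or.inl ⟨⟨σ, h⟩, fun x => rfl⟩
  · refine Or.inr (isConj_alt (t := c[1, 6] * c[2, 5] * c[3, 4] * σ⁻¹) ?_ ?_)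
    · rw [Perm.sign_mul, sign_inv, h]; decide +kernel
    · change _ * (σ * c7 * σ⁻¹) = _
      have : (c[1, 6] * c[2, 5] * c[3, 4] : Perm (Fin 7)) * (c7 : Perm (Fin 7)) =
        ((c7⁻¹ : alternatingGroup (Fin 7)) : Perm (Fin 7)) * (c[1, 6] * c[2, 5] * c[3, 4]) := by
        decide +kernel
      rw [← mul_assoc (_ : Perm (Fin 7)) _ σ⁻¹, ← mul_assoc (_ : Perm (Fin 7)) _ σ⁻¹, ← this]
      group

/-- First generator of `A₆`. -/
def a6 : alternatingGroup (Fin 6) := ⟨c[1, 2] * c[3, 4], mem_alternatingGroup.2 (by decide +kernel)⟩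

/-- Second generator of `A₆`. -/
def b6 : alternatingGroup (Fin 6) :=
  ⟨c[0, 1, 2, 3] * c[4, 5], mem_alternatingGroup.2 (by decide +kernel)⟩

theorem ab6_rel : a6 ^ 2 = 1 ∧ a6 ≠ 1 ∧ b6 ^ 4 = 1 ∧ b6 ^ 2 ≠ 1 ∧ (a6 * b6) ^ 5 = 1 ∧ a6 * b6 ≠ 1 ∧
    (a6 * b6 ^ 2) ^ 5 = 1 ∧ a6 * b6 ^ 2 ≠ 1 := by decide +kernel

theorem closure_ab6 : Subgroup.closure {a6, b6} = ⊤ := by
  have ha : a6 ∈ Subgroup.closure {a6, b6} := Subgroup.subset_closure (by simp)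
  have hb : b6 ∈ Subgroup.closure {a6, b6} := Subgroup.subset_closure (by simp)
  have h : ∀ x : Fin 6, 0 ≠ x → 1 ≠ x → ∃ l ∈ [[false, false, true, false, true, false, false,
      false, true, false, true, false, true], [false, true, false, true, false, false, true, false,
      false, false, true], [false, true, false, false, true, false, false, false, true, false, true],
      [true, false, true, false, false, true, false, true, false, false, true, false, false, false]],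
      ((wd a6 b6 l : alternatingGroup (Fin 6)) : Perm (Fin 6)) = H86.cyc 0 1 x := by decide +kernel
  have h1 := H86.alternating_le_of_cyc (a := (0 : Fin 6)) (b := 1) (by decide)
    (H := (Subgroup.closure {a6, b6}).map (alternatingGroup (Fin 6)).subtype) fun x h0 h1 => by
      obtain ⟨l, -, hl⟩ := h x h0 h1
      exact ⟨_, wd_mem ha hb l, hl⟩
  refine eq_top_iff.2 fun x _ => ?_
  obtain ⟨y, hy, e⟩ := h1 x.2
  exact Subtype.ext e ▸ hy

theorem not_isConj_ab6 : ¬ IsConj (a6 * b6) ((a6 * b6) ^ 2) := fun h => by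
  obtain ⟨y, hy⟩ := isConj_iff.1 h
  have h1 : ∀ y : Perm (Fin 6), y * (a6 * b6) = (a6 * b6) ^ 2 * y → sign y ≠ 1 := by decide +kernel
  exact h1 y (mul_inv_eq_iff_eq_mul.1 (congrArg Subtype.val hy)) y.2

theorem rig_alt6 (θ : MulAut (alternatingGroup (Fin 6))) : (∃ y, ∀ x, θ x = y * x * y⁻¹) ∨
    (∃ y, θ a6 = y * a6 * y⁻¹ ∧ θ b6 = y * b6⁻¹ * y⁻¹) ∨ IsConj (θ (a6 * b6)) ((a6 * b6) ^ 2) := by
  obtain ⟨h1, -, h3, h4, h5, -⟩ := ab6_rel
  obtain ⟨y, hy⟩ : ∃ y, θ b6 = y * b6 * y⁻¹ := by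
    obtain ⟨r, hr, s, hs⟩ := exists_rep reps6 Prod.fst reps6_all (θ b6)
    have e : ∀ k, r.1 ^ k = 1 ↔ b6 ^ k = 1 := fun k => by
      rw [← θ.map_eq_one_iff, map_pow, Subtype.ext_iff, Subgroup.coe_pow, hs, conj_pow]
      simp
    have h6 : ∀ r ∈ reps6, r.1 ^ 4 = 1 → r.1 ^ 2 ≠ 1 → r.1 = b6 := by decide +kernel
    rw [h6 r hr ((e 4).2 h3) (mt (e 2).1 h4)] at hs
    rcases Int.units_eq_one_or (sign s) with h | h
    · exact ⟨⟨s, h⟩, Subtype.ext hs⟩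
    · refine ⟨⟨s * c[4, 5], mem_alternatingGroup.2 (by rw [Perm.sign_mul, h]; decide +kernel)⟩,
        Subtype.ext (hs.trans ?_)⟩
      have : (b6 : Perm (Fin 6)) = c[4, 5] * (b6 : Perm (Fin 6)) * c[4, 5]⁻¹ := by decide +kernel
      conv_lhs => rw [this]
      simp [mul_assoc]
  have key : ∀ x : Perm (Fin 6), x ^ 2 = 1 → (x * b6) ^ 5 = 1 → ∃ w ∈ ([1, c[2, 4] * c[3, 5],
      c[1, 2] * c[3, 5], c[1, 3] * c[4, 5], c[0, 1] * c[2, 5, 3, 4], c[0, 2] * c[4, 5],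
      c[0, 1] * c[3, 5], c[0, 3, 2, 1] * c[4, 5], c[0, 1] * c[2, 3], c[1, 3, 5, 2, 4],
      c[0, 2] * c[1, 3], c[1, 3, 4, 5, 2], c[1, 2, 4], c[0, 3] * c[1, 2], c[0, 1, 2, 3] * c[4, 5],
      c[2, 5, 4]] : List (Perm (Fin 6))), sign w = 1 ∧ ((x * w = w * a6 ∧
        (b6 * w = w * b6 ∨ b6 * w = w * (b6 : Perm (Fin 6))⁻¹)) ∨
        x * b6 * w = w * (a6 * b6) ^ 2) := by
    decide +kernel
  have e1 : b6 = y⁻¹ * θ b6 * y := by rw [hy]; group
  have e2 : y⁻¹ * θ a6 * y * b6 = y⁻¹ * θ (a6 * b6) * y := by rw [map_mul, hy]; group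
  have e3 : ∀ (z : alternatingGroup (Fin 6)) (k : ℕ), z ^ k = 1 → (y⁻¹ * θ z * y) ^ k = 1 :=
    fun z k hk => by simpa [← map_pow, hk] using conj_pow (a := y⁻¹) (b := θ z) (i := k)
  obtain ⟨w, -, hw, h⟩ := key (y⁻¹ * θ a6 * y : alternatingGroup (Fin 6))
    (congrArg Subtype.val (e3 _ _ h1)) (congrArg Subtype.val (e2 ▸ e3 _ _ h5 :))
  let w' : alternatingGroup (Fin 6) := ⟨w, hw⟩
  rcases h with ⟨h6, h7 | h7⟩ | h6
  · exact Or.inl ⟨y * w', inner_of_gen closure_ab6 θ (conj_eq_of_mul rfl (Subtype.ext h6))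
      (conj_eq_of_mul e1 (Subtype.ext h7))⟩
  · exact Or.inr (Or.inl ⟨y * w', conj_eq_of_mul rfl (Subtype.ext h6),
      conj_eq_of_mul e1 (Subtype.ext h7)⟩)
  · have h7 : y⁻¹ * θ a6 * y * b6 * w' = w' * (a6 * b6) ^ 2 := Subtype.ext h6
    exact Or.inr (Or.inr (isConj_iff.2 ⟨y * w', (conj_eq_of_mul e2 h7).symm⟩).symm)

/-- First generator of `SL₃(2)`. -/
def a2 : SL(3, ZMod 2) := ⟨!![1, 1, 0; 0, 1, 0; 0, 0, 1], by decide +kernel⟩

/-- Second generator of `SL₃(2)`. -/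
def b2 : SL(3, ZMod 2) := ⟨!![0, 0, 1; 1, 0, 0; 0, 1, 0], by decide +kernel⟩

theorem ab2_rel : a2 ^ 2 = 1 ∧ a2 ≠ 1 ∧ b2 ^ 3 = 1 ∧ b2 ≠ 1 ∧ (a2 * b2) ^ 7 = 1 ∧ a2 * b2 ≠ 1 := by
  decide +kernel

theorem closure_ab2 : Subgroup.closure {a2, b2} = ⊤ := by
  have ha : a2 ∈ Subgroup.closure {a2, b2} := Subgroup.subset_closure (by simp)
  have hb : b2 ∈ Subgroup.closure {a2, b2} := Subgroup.subset_closure (by simp)
  have h : ∀ (i j : Fin 3) (hij : i ≠ j) (c : ZMod 2), ∃ l ∈ [[], [true], [true, false, true, false,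
      false, true, false, true, false, false], [false, true, false, true, false, false, true, false,
      true, false], [false, true, false, false], [false, false, true, false], [true, false, false,
      true, false, true, false, false, true, false]],
      wd a2 b2 l = SpecialLinearGroup.transvection hij c := by decide +kernel
  refine H57.sl_eq_top_of_transvections _ fun i j hij c => ?_
  obtain ⟨l, -, hl⟩ := h i j hij c
  exact hl ▸ wd_mem ha hb l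

/-- Representatives of the classes of `SL₃(2)`. -/
def reps2 : List (SL(3, ZMod 2) × SL(3, ZMod 2)) :=
  [(1, 1), (a2, 1), (b2, ⟨!![0, 0, 1; 0, 1, 0; 1, 0, 0], by decide +kernel⟩),
    (⟨!![0, 1, 1; 0, 1, 0; 1, 0, 0], by decide +kernel⟩,
      ⟨!![0, 0, 1; 0, 1, 0; 1, 0, 0], by decide +kernel⟩),
    (a2 * b2, ⟨!![1, 0, 1; 1, 1, 0; 1, 0, 0], by decide +kernel⟩),
    (⟨!![0, 1, 0; 0, 0, 1; 1, 1, 0], by decide +kernel⟩,
      ⟨!![1, 0, 1; 1, 1, 0; 1, 0, 0], by decide +kernel⟩)]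

/-- The matrix with a given binary code. -/
def dec2 (n : ℕ) : Matrix (Fin 3) (Fin 3) (ZMod 2) :=
  !![(n % 2 : ℕ), (n / 2 % 2 : ℕ), (n / 4 % 2 : ℕ); (n / 8 % 2 : ℕ), (n / 16 % 2 : ℕ),
    (n / 32 % 2 : ℕ); (n / 64 % 2 : ℕ), (n / 128 % 2 : ℕ), (n / 256 % 2 : ℕ)]

/-- Table of conjugating elements. -/
def tab2 : ℕ := 0x2cc753db5000000052c00723e0019e0000158dc000018cae000019cbe0000178d400003e4007a2a800cc0000001c45c399bc000000000000000000000000000ce6a3d97000000000000000000000002f800007c0018cde0078801e4007a001ee0033000005d001acf400a8802a8002a800a80000000bc62371f40000000000000000000000001ec00ce3a00294003e00000d6001cec4000000000000000000002a99c00003595000002f80000e6001d4d400001f400fe2b800c4003197000002e9bc0000000000000000000000007651a000072a1c00548011a00560011800e5c3c0000ed2300000000000000000000000007351e000077a140098801420088800a800e62380000eec2c0000000000000000000000001accc0000178be003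a000007a0058dae002e800007200384dc0000158ae00001bcc4000000000000000000003d99df45400000000039b329c7d000000000000000000000000000001ac00742b800ce0076001d40074801de000018c005537000e4002e802f800bc800b800331d4ac6a00000000000000000000000000039950de6200000000000000000000000000000001ca6b3a178000000001ab67391f400002e9700000371880000331a800002a95000003d1d59b4f0000000003e159fa63000000000000000000000000000000000000000000000000000000000000000000000000000000000000000000000000000000000000000000000000000000000000000000000000000000000000000000000000000000000000000000000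

theorem forall_sl2 {p : Matrix (Fin 3) (Fin 3) (ZMod 2) → Prop}
    (h : ∀ a b c d e f g i j : ZMod 2, p !![a, b, c; d, e, f; g, i, j]) (x) : p x :=
  Matrix.eta_fin_three x ▸ h _ _ _ _ _ _ _ _ _

theorem exists_rep2 (x : SL(3, ZMod 2)) : ∃ r ∈ reps2, ∃ s, x = s * r.1 * s⁻¹ := by
  have h : ∀ x : Matrix (Fin 3) (Fin 3) (ZMod 2), x.det = 1 → ∃ y : Matrix (Fin 3) (Fin 3) (ZMod 2),
      y.det = 1 ∧ ∃ r ∈ reps2, x * y = y * r.1 := by
    refine forall_sl2 fun a b c d e f g i j h => ⟨dec2 (tab2 >>> (9 * (a.val + 2 * b.val + 4 * c.val +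
      8 * d.val + 16 * e.val + 32 * f.val + 64 * g.val + 128 * i.val + 256 * j.val))), ?_⟩
    revert a b c d e f g i j
    simp only [det_fin_three]
    decide +kernel
  obtain ⟨y, hy, r, hr, e⟩ := h x x.2
  exact ⟨r, hr, ⟨y, hy⟩, eq_mul_inv_iff_mul_eq.2 (Subtype.ext e)⟩

theorem sm_sl2 : Sm SL(3, ZMod 2) False False True := fun x => by
  obtain ⟨r, hr, s, rfl⟩ := exists_rep2 x
  have h : ∀ r ∈ reps2, (r.1 * r.2 * r.1 = r.2 ∧ (r.1 ^ 3 = 1 ∨ r.1 ^ 4 = 1)) ∨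
      (r.1 ^ 7 = 1 ∧ r.2 * r.1 = r.1 ^ 2 * r.2) := by decide +kernel
  have e : ∀ k, r.1 ^ k = 1 → (s * r.1 * s⁻¹) ^ k = 1 := fun k hk => by rw [conj_pow, hk]; simp
  refine (h r hr).imp (fun ⟨a, b⟩ => ⟨isConj_iff.2 ⟨s * r.2 * s⁻¹, ?_⟩,
    b.imp (e 3) fun b => Or.inl (e 4 b)⟩) fun ⟨a, b⟩ =>
      ⟨trivial, e 7 a, isConj_iff.2 ⟨s * r.2 * s⁻¹, ?_⟩⟩
  · calc _ = s * (r.1⁻¹ * (r.1 * r.2 * r.1) * r.2⁻¹) * s⁻¹ := by group
      _ = _ := by rw [a]; group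
  · calc _ = s * (r.2 * r.1 * r.2⁻¹) * s⁻¹ := by group
      _ = _ := by rw [b, conj_pow]; group

/-- Conjugating elements for the Hurwitz pairs. -/
def tabw2 : List SL(3, ZMod 2) :=
  [1, ⟨!![0, 0, 1; 0, 1, 0; 1, 0, 0], by decide +kernel⟩,
    ⟨!![1, 0, 1; 0, 1, 0; 1, 0, 0], by decide +kernel⟩,
    ⟨!![0, 0, 1; 1, 0, 0; 0, 1, 0], by decide +kernel⟩,
    ⟨!![0, 1, 0; 0, 0, 1; 1, 0, 0], by decide +kernel⟩,
    ⟨!![1, 0, 1; 1, 1, 1; 1, 0, 0], by decide +kernel⟩]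

theorem hurwitz_sl2 (x : SL(3, ZMod 2)) (h1 : x ^ 2 = 1) (h2 : (x * b2) ^ 7 = 1) :
    ∃ w, (x * w = w * a2 ∧ b2 * w = w * b2) ∨ x * b2 * w = w * (a2 * b2)⁻¹ := by
  have key : ∀ x : Matrix (Fin 3) (Fin 3) (ZMod 2), x ^ 2 = 1 → (x * b2.1) ^ 7 = 1 →
      ∃ w ∈ tabw2, (x * w.1 = w.1 * a2.1 ∧ b2 * w = w * b2) ∨
        x * b2.1 * w.1 * (a2 * b2).1 = w.1 :=
    forall_sl2 (by decide +kernel)
  obtain ⟨w, -, h⟩ := key x.1 (congrArg Subtype.val h1) (congrArg Subtype.val h2)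
  exact ⟨w, h.imp (And.imp_left Subtype.ext) fun h => eq_mul_inv_iff_mul_eq.2 (Subtype.ext h)⟩

theorem rig7_sl2 : Rig7 SL(3, ZMod 2) (a2 * b2) := by
  obtain ⟨h1, -, h3, h4, h5, h6⟩ := ab2_rel
  refine ⟨h5, h6, isConj_iff.2 ⟨⟨!![1, 0, 1; 1, 1, 0; 1, 0, 0], by decide +kernel⟩,
    mul_inv_eq_iff_eq_mul.2 (by decide +kernel)⟩, fun θ => ?_⟩
  obtain ⟨y, hy⟩ : ∃ y, θ b2 = y * b2 * y⁻¹ := by
    obtain ⟨r, hr, s, hs⟩ := exists_rep2 (θ b2)
    have e : ∀ k, r.1 ^ k = 1 ↔ b2 ^ k = 1 := fun k => by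
      rw [← θ.map_eq_one_iff (x := b2 ^ k), map_pow, hs, conj_pow]
      simp
    have h7 : ∀ r ∈ reps2, r.1 ^ 3 = 1 → r.1 ^ 1 ≠ 1 → r.1 = b2 := by decide +kernel
    exact ⟨s, h7 r hr ((e 3).2 h3) (mt (e 1).1 (by simpa using h4)) ▸ hs⟩
  have e1 : b2 = y⁻¹ * θ b2 * y := by rw [hy]; group
  have e2 : y⁻¹ * θ a2 * y * b2 = y⁻¹ * θ (a2 * b2) * y := by rw [map_mul, hy]; group
  have e3 : ∀ (z : SL(3, ZMod 2)) (k : ℕ), z ^ k = 1 → (y⁻¹ * θ z * y) ^ k = 1 :=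
    fun z k hk => by simpa [← map_pow, hk] using conj_pow (a := y⁻¹) (b := θ z) (i := k)
  obtain ⟨w, ⟨h7, h8⟩ | h7⟩ := hurwitz_sl2 _ (e3 _ _ h1) (by rw [e2]; exact e3 _ _ h5)
  · exact Or.inl ⟨y * w, inner_of_gen closure_ab2 θ (conj_eq_of_mul rfl h7) (conj_eq_of_mul e1 h8)⟩
  · exact Or.inr (isConj_iff.2 ⟨y * w, (conj_eq_of_mul e2 h7).symm⟩).symm

end H19
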