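/- PARROTT, job TY, part A: the torus `T0`, conjugation in coordinates, centralizers. -/
import Cfsg.Agent.H63.OcSpec

set_option autoImplicit false
set_option linter.unusedSectionVars false
set_option linter.unusedVariables false
set_option linter.unusedSimpArgs false

open Subgroup H63.Oc

namespace H19.ParTY

variable {K : Type*} [Field K] [CharP K 2] {T : TF K}

theorem sg_ne {x : K} (hx : x ≠ 0) : T.σ x ≠ 0 := (map_ne_zero _).2 hx

theorem sg_zero {x : K} (hx : T.σ x = 0) : x = 0 := (map_eq_zero _).1 hx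

theorem nm_zero {x : K} (hx : x * T.σ x = 0) : x = 0 := by
  rcases mul_eq_zero.1 hx with h | h
  · exact h
  · exact sg_zero h

theorem sg_surj [Finite K] (y : K) : ∃ x, T.σ x = y :=
  Finite.surjective_of_injective T.σ.injective y

section T0
variable (p : T0 T)

theorem t4 : (p.1.1 : K) ^ 2 * T.σ p.1.1 * ((p.1.2 : K) ^ 3 * T.σ p.1.2 ^ 2) = 1 := p.2

theorem t7 : (p.1.1 : K) ^ 2 * ((p.1.2 : K) ^ 2 * T.σ p.1.2) = 1 := by
  have ha := p.1.1.ne_zero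
  have hb := p.1.2.ne_zero
  have hb' : T.σ p.1.2 ≠ 0 := sg_ne hb
  refine eq_one_of_pw (T := T) (by positivity) (i := 2) (j := 1) 1 (by norm_num) ?_
  have h := t4 p
  simp only [zpow_ofNat, pow_one, map_mul, map_pow, T.sq]
  linear_combination ((p.1.1 : K) ^ 2 * T.σ p.1.1 * ((p.1.2 : K) ^ 3 * T.σ p.1.2 ^ 2) + 1) * h

/-- `σ a = a² b` on `T0` -/
theorem ts : T.σ p.1.1 = (p.1.1 : K) ^ 2 * p.1.2 := by
  have ha := p.1.1.ne_zero
  have hb := p.1.2.ne_zero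
  have hb' : T.σ p.1.2 ≠ 0 := sg_ne hb
  have h4 := t4 p
  have h7 := t7 p
  have e : T.σ p.1.1 * ((p.1.2 : K) * T.σ p.1.2) = 1 := by
    linear_combination h4 - (T.σ p.1.1 * ((p.1.2 : K) * T.σ p.1.2)) * h7
  refine mul_right_cancel₀ (mul_ne_zero hb hb') ?_
  linear_combination e - h7

theorem eq_one_fst (h : (p.1.1 : K) = 1) : p = 1 := by
  have e := ts p
  rw [h, map_one, one_pow, one_mul] at e
  exact Subtype.ext (Prod.ext (Units.ext h) (Units.ext e.symm))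

theorem eq_one_snd (h : (p.1.2 : K) = 1) : p = 1 := by
  apply eq_one_fst
  have e := t7 p
  rw [h, map_one, one_pow, mul_one, mul_one] at e
  grind

theorem eq_one_6 (h : (p.1.1 : K) * T.σ p.1.1 * ((p.1.2 : K) ^ 3 * T.σ p.1.2 ^ 2) = 1) : p = 1 := by
  apply eq_one_fst
  linear_combination t4 p - (p.1.1 : K) * h

theorem eq_one_7 (h : (p.1.1 : K) * ((p.1.2 : K) ^ 2 * T.σ p.1.2) = 1) : p = 1 := by
  apply eq_one_fst
  linear_combination t7 p - (p.1.1 : K) * h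

theorem eq_one_8 (h : (p.1.2 : K) * T.σ p.1.2 = 1) : p = 1 :=
  eq_one_snd p (eq_one_of_pw (T := T) p.1.2.ne_zero (i := 1) (j := 1) 0 (by norm_num) (by simpa using h))

theorem t5 : (p.1.1 : K) * p.1.2 * ((p.1.1 : K) * T.σ p.1.1 * ((p.1.2 : K) ^ 2 * T.σ p.1.2 ^ 2)) = 1 := by
  linear_combination t4 p

theorem eq_one_5 (h : (p.1.1 : K) * T.σ p.1.1 * ((p.1.2 : K) ^ 2 * T.σ p.1.2 ^ 2) = 1) : p = 1 := by
  apply eq_one_fst
  have e := t5 p
  rw [h, mul_one] at e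
  refine eq_one_of_pw (T := T) p.1.1.ne_zero (i := -1) (j := 1) 0 (by norm_num) ?_
  have ha := p.1.1.ne_zero
  rw [ts p, zpow_neg, zpow_one, zpow_one]
  field_simp
  linear_combination e

end T0

theorem nrm_Q (s : Co T) {c : Co T} (hc : c ∈ sQ T) : s * c * s⁻¹ ∈ sQ T := by
  obtain ⟨h1, h2⟩ := hc
  constructor <;> simp [h1, h2] <;> grind

theorem nrm_Q1 (s : Co T) {c : Co T} (hc : c ∈ sQ1 T) : s * c * s⁻¹ ∈ sQ1 T := by
  have h1 : c.a1 = 0 := hc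
  rw [mem_sQ1]; simp [h1]; grind

theorem nrm_A (s : Co T) {c : Co T} (hc : c ∈ sA T) : s * c * s⁻¹ ∈ sA T := by
  obtain ⟨h1, h2, h3, h4, h5, h6, h7, h8, h9⟩ := hc
  refine ⟨?_, ?_, ?_, ?_, ?_, ?_, ?_, ?_, ?_⟩ <;> simp [T.sq, *] <;> grind

theorem nrm_W (s : Co T) {c : Co T} (hc : c ∈ sW T) : s * c * s⁻¹ ∈ sW T := by
  obtain ⟨h1, h2, h3, h4, h5, h6, h7, h8, h9, h10⟩ := hc
  refine ⟨?_, ?_, ?_, ?_, ?_, ?_, ?_, ?_, ?_, ?_⟩ <;> simp [T.sq, *] <;> grind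

theorem back {X : Subgroup (Co T)} (hX : ∀ s c, c ∈ X → s * c * s⁻¹ ∈ X) {s c : Co T}
    (h : s * c * s⁻¹ ∈ X) : c ∈ X := by
  have := hX s⁻¹ _ h
  simpa [mul_assoc] using this

variable {G : Type*} [Group G] (D : CS T G)

theorem B_mul (s : Co T) (p : T0 T) (c : Co T) :
    D.ι s * D.h0 p * D.ι c = D.ι (s * dg T p.1.1 p.1.2 c) * D.h0 p := by
  rw [map_mul, ← D.h0_conj]; group

theorem B_conj (s : Co T) (p : T0 T) (c : Co T) :
    D.ι s * D.h0 p * D.ι c * (D.ι s * D.h0 p)⁻¹ = D.ι (s * dg T p.1.1 p.1.2 c * s⁻¹) := by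
  rw [map_mul, map_mul, map_inv, ← D.h0_conj]; group

theorem n8_inv : D.n8⁻¹ = D.n8 := inv_eq_of_mul_eq_one_right D.n8_sq

theorem N_conj (s : Co T) (p : T0 T) (u : Co T) {c : Co T} (hc : c ∈ sQ T) :
    D.ι s * D.h0 p * D.n8 * D.ι u * D.ι c * (D.ι s * D.h0 p * D.n8 * D.ι u)⁻¹ =
      D.ι (s * dg T p.1.1 p.1.2 (u * c * u⁻¹).nu8 * s⁻¹) := by
  rw [← B_conj, ← D.n8_conj _ (nrm_Q u hc), map_mul, map_mul, map_inv]
  simp only [mul_inv_rev, n8_inv, mul_assoc]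

/-- the centralizer of a coordinate element, by the Bruhat decomposition -/
theorem cen (bc : BC D) (c : Co T) (X : Subgroup (Co T))
    (hB : ∀ s (p : T0 T), s * dg T p.1.1 p.1.2 c = c * s → p = 1) (hS : ∀ s, s * c = c * s ↔ s ∈ X)
    (hn : ∀ s p, ∀ u ∈ sU8 T,
      D.ι s * D.h0 p * D.n8 * D.ι u * D.ι c * (D.ι s * D.h0 p * D.n8 * D.ι u)⁻¹ ≠ D.ι c) :
    ∀ g ∈ D.C, (g * D.ι c = D.ι c * g ↔ g ∈ D.im X) := by
  intro g hg
  constructor
  · intro h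
    rcases (bc.bruhat g).1 hg with ⟨s, p, rfl⟩ | ⟨s, p, u, hu, rfl⟩
    · rw [B_mul, ← mul_assoc, mul_left_inj, ← map_mul] at h
      have h' := D.inj h
      obtain rfl := hB s p h'
      rw [map_one, mul_one]
      exact mem_map_of_mem _ ((hS s).1 (by simpa [dg_one] using h'))
    · exact absurd (by rw [h, mul_inv_cancel_right]) (hn s p u hu)
  · rintro ⟨s, hs, rfl⟩
    rw [← map_mul, ← map_mul, (hS s).2 hs]

theorem nW_aux (s : Co T) (p : T0 T) {u : Co T} (hu : u ∈ sU8 T) {c : Co T} (hc : c ∈ sW T)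
    (h : s * dg T p.1.1 p.1.2 (u * c * u⁻¹).nu8 * s⁻¹ ∈ sW T) : c.a6 = 0 := by
  have h0 := (back (fun s c => nrm_W s) h).2.2.1
  obtain ⟨u1, u2, u3, u4, u5, u6, u7, u8, u9, u10⟩ := hu
  obtain ⟨h1, h2, h3, h4, h5, h6, h7, h8, h9, h10⟩ := hc
  have e : (u * c * u⁻¹).nu8.a2 = c.a6 := by simp [Co.nu8, T.sq, *]
  simpa [dg, e] using h0

theorem nW (bc : BC D) : ∀ g ∈ D.C, ∀ c ∈ sW T, c ∉ sZ T → g * D.ι c * g⁻¹ ∈ D.im (sW T) →
    ∃ s p, g = D.ι s * D.h0 p := by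
  intro g hg c hc hz h
  rcases (bc.bruhat g).1 hg with h' | ⟨s, p, u, hu, rfl⟩
  · exact h'
  · rw [N_conj D s p u ⟨hc.2.2.2.2.2.2.2.2.1, hc.2.2.2.2.2.2.2.2.2⟩, mem_map_iff_mem D.inj] at h
    have h6 := nW_aux s p hu hc h
    obtain ⟨h1, h2, h3, h4, h5, h6, h7, h8, h9, h10⟩ := hc
    exact absurd (by rw [mem_sZ]; simp [*]) hz

theorem c6 (bc : BC D) : ∀ g ∈ D.C, (g * D.ι (x6 T 1) = D.ι (x6 T 1) * g ↔ g ∈ D.im (sQ1 T)) := by
  have hW : x6 T (1 : K) ∈ sW T := by simp [mem_sW, x6]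
  refine cen D bc _ _ (fun s p h => eq_one_6 p ?_) (fun s => ⟨fun h => ?_, fun h => ?_⟩)
    fun s p u hu h => ?_
  · simpa [dg, x6, add_comm] using congrArg Co.a6 h
  · simpa [x6, mem_sQ1] using congrArg Co.a4 h
  · have h1 : s.a1 = 0 := h
    ext <;> simp [x6, h1, add_comm]
  · rw [N_conj D s p u (by simp [mem_sQ, x6])] at h
    have := nW_aux s p hu hW (by rw [D.inj h]; exact hW)
    simp [x6] at this

theorem c5 (bc : BC D) : ∀ g ∈ D.C, (g * D.ι (x5 T 1) = D.ι (x5 T 1) * g ↔ g ∈ D.im (sT5 T)) := by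
  have hA : x5 T (1 : K) ∈ sA T := by simp [mem_sA, x5]
  refine cen D bc _ _ (fun s p h => eq_one_5 p ?_) (fun s => ⟨fun h => ?_, fun h => ?_⟩)
    fun s p u hu h => ?_
  · simpa [dg, x5, add_comm] using congrArg Co.a5 h
  · have h6 : s.b8 = 0 := by simpa [x5] using congrArg Co.a6 h
    exact ⟨by simpa [x5] using congrArg Co.a4 h, h6⟩
  · ext <;> simp [x5, h.1, h.2, add_comm]
  · rw [N_conj D s p u (by simp [mem_sQ, x5])] at h
    have h1 := (back (fun s c => nrm_A s) (D.inj h ▸ hA)).2.2.2.1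
    obtain ⟨u1, u2, u3, u4, u5, u6, u7, u8, u9, u10⟩ := hu
    have e : (u * x5 T 1 * u⁻¹).nu8.a3 = 1 := by simp [Co.nu8, x5, T.sq, *]
    simp [dg, e] at h1

theorem c7 (bc : BC D) : ∀ g ∈ D.C, (g * D.ι (x7 T 1) = D.ι (x7 T 1) * g ↔ g ∈ D.im (sT7 T)) := by
  have hA : x7 T (1 : K) ∈ sQ1 T := by simp [mem_sQ1, x7]
  refine cen D bc _ _ (fun s p h => eq_one_7 p ?_) (fun s => ⟨fun h => ?_, fun h => ?_⟩)
    fun s p u hu h => ?_
  · simpa [dg, x7, add_comm] using congrArg Co.a7 h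
  · have h1 : s.a1 = 0 := by simpa [x7] using congrArg Co.a3 h
    have h2 : s.b2 = 0 := by simpa [x7, h1] using congrArg Co.a5 h
    have h3 : s.b4 = 0 := by simpa [x7, h2] using congrArg Co.a6 h
    exact ⟨h1, h2, by simpa [x7, h2] using congrArg Co.a4 h, h3⟩
  · ext <;> simp [x7, h.1, h.2.1, h.2.2.1, h.2.2.2, add_comm]
  · rw [N_conj D s p u (by simp [mem_sQ, x7])] at h
    have h1 := (mem_sQ1 T).1 (back (fun s c => nrm_Q1 s) (D.inj h ▸ hA))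
    obtain ⟨u1, u2, u3, u4, u5, u6, u7, u8, u9, u10⟩ := hu
    have e : (u * x7 T 1 * u⁻¹).nu8.a1 = 1 := by simp [Co.nu8, x7, T.sq, *]
    simp [dg, e] at h1

theorem c8 (bc : BC D) (v : K) : ∀ g ∈ D.C,
    (g * D.ι (x4 T v * x8 T 1) = D.ι (x4 T v * x8 T 1) * g ↔ g ∈ D.im (sT8 T)) := by
  have ev : x4 T v * x8 T 1 = ⟨0, 0, 0, 0, 0, v, 0, 0, 0, 0, 0, 1⟩ := by ext <;> simp [x4, x8]
  refine cen D bc _ _ (fun s p h => eq_one_8 p ?_) (fun s => ⟨fun h => ?_, fun h => ?_⟩)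
    fun s p u hu h => ?_
  · simpa [dg, ev, add_comm] using congrArg Co.a8 h
  · rw [ev] at h
    have h1 : s.a1 = 0 := by simpa using congrArg Co.b6 h
    have h2 : s.b2 = 0 := by simpa [h1] using congrArg Co.a7 h
    have h3 : s.a2 = 0 := by simpa [h1] using congrArg Co.a5 h
    exact ⟨h1, h2, h3, by simpa [h1, h2, h3] using congrArg Co.a6 h⟩
  · ext <;> simp [ev, h.1, h.2.1, h.2.2.1, h.2.2.2, add_comm]
  · obtain ⟨u', hu', u'', hu'', p', e⟩ := D.rank8 (x8 T 1) (by simp [mem_sU8, x8])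
      (fun h => by simpa [x8] using congrArg Co.a8 h)
    have hc : u * (x4 T v * x8 T 1) * u⁻¹ = x4 T v * x8 T 1 := by
      obtain ⟨u1, u2, u3, u4, u5, u6, u7, u8, u9, u10⟩ := hu
      rw [mul_inv_eq_iff_eq_mul]
      ext <;> simp [ev, add_comm, *]
    have e1 : D.n8 * D.ι (x4 T v * x8 T 1) * D.n8 = D.ι (x4 T v * u') * D.h0 p' * D.n8 * D.ι u'' := by
      rw [map_mul, ← mul_assoc, bc.cenZ _ D.n8_mem, mul_assoc, mul_assoc, ← mul_assoc D.n8, e, map_mul]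
      simp only [mul_assoc]
    have e2 : D.n8 * D.ι (x4 T v * x8 T 1) * D.n8 =
        D.ι 1 * D.h0 p⁻¹ * D.ι (s⁻¹ * (x4 T v * x8 T 1) * s) * (D.ι 1 * D.h0 p⁻¹)⁻¹ := by
      conv_lhs => rw [← hc]
      generalize x4 T v * x8 T 1 = c at h
      rw [map_mul D.ι _ s, map_mul D.ι s⁻¹]
      conv_rhs => rw [← h]
      simp [n8_inv, mul_assoc]
    rw [e1, B_conj] at e2
    exact bc.sep _ _ _ _ 1 (e2.trans (by rw [map_one D.h0, mul_one]))

end H19.ParTY
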