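/- A12-WM (row S3101): the centralizer `W(D₆)` of `t0`. -/
import Cfsg.Agent.H51.A12Spec
import Cfsg.Agent.H9.AfM0
import Cfsg.Agent.H9.AfBig

set_option autoImplicit false

namespace H19.A12WM

open Cfsg Subgroup H1.Gold H51.X12 H20.X16.BV Function Equiv
open H20.X16 (BV pw)
open H20.AF (P12 t0 bk κ0)
open H20.AR (Cen InU sg)

theorem ep0_app (I : Finset (Fin 6)) (i : Fin 6) (s : Fin 2) :
    ep0 I (lb.symm (i, s)) = lb.symm (i, if i ∈ I then swap 0 1 s else s) := by
  rw [ep0, permCongr_apply, symm_symm, apply_symm_apply, prodCongrRight_apply]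
  split_ifs <;> rfl

theorem la0_app (σ : Perm (Fin 6)) (i : Fin 6) (s : Fin 2) :
    la0 σ (lb.symm (i, s)) = lb.symm (σ i, s) := by
  show lb.symm.permCongr (prodCongrLeft fun _ : Fin 2 => σ) _ = _
  rw [permCongr_apply, symm_symm, apply_symm_apply, prodCongrLeft_apply]

theorem ext' {a b : Perm P12} (h : ∀ i s, a (lb.symm (i, s)) = b (lb.symm (i, s))) : a = b :=
  Equiv.ext fun p => by simpa using h (lb p).1 (lb p).2

theorem t0_eq : t0 = ep0 Finset.univ := ext' fun i s => by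
  rw [ep0_app, if_pos (Finset.mem_univ i)]
  revert i s
  decide +kernel

theorem sign_ep0 (I : Finset (Fin 6)) : Perm.sign (ep0 I) = (-1) ^ I.card := by
  rw [ep0, Perm.sign_permCongr, Perm.sign_prodCongrRight, ← Finset.prod_const,
    ← Finset.prod_ite_mem_eq I]
  refine Finset.prod_congr rfl fun i _ => ?_
  split_ifs
  · exact Perm.sign_swap (by decide)
  · exact map_one _

theorem sign_la0 (σ : Perm (Fin 6)) : Perm.sign (la0 σ) = 1 := by
  show Perm.sign (lb.symm.permCongr (prodCongrLeft fun _ : Fin 2 => σ)) = 1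
  rw [Perm.sign_permCongr, Perm.sign_prodCongrLeft, Fin.prod_univ_two, Int.units_mul_self]

theorem ep0_mul (I J : Finset (Fin 6)) : ep0 (symmDiff I J) = ep0 I * ep0 J := ext' fun i s => by
  rw [Perm.mul_apply, ep0_app, ep0_app, ep0_app]
  by_cases h1 : i ∈ I <;> by_cases h2 : i ∈ J <;> simp [Finset.mem_symmDiff, h1, h2]

theorem la0_ep0 (σ : Perm (Fin 6)) (I : Finset (Fin 6)) :
    la0 σ * ep0 I = ep0 (I.map σ.toEmbedding) * la0 σ := ext' fun i s => by
  rw [Perm.mul_apply, Perm.mul_apply, ep0_app, la0_app, la0_app, ep0_app]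
  simp

theorem el_app (σ : Perm (Fin 6)) (I : Finset (Fin 6)) (i : Fin 6) (s : Fin 2) :
    lb ((ep0 I * la0 σ) (lb.symm (i, s))) = (σ i, if σ i ∈ I then swap 0 1 s else s) := by
  rw [Perm.mul_apply, la0_app, ep0_app, apply_symm_apply]

theorem dec {w : Perm P12} (h : w * t0 = t0 * w) : ∃ σ I, w = ep0 I * la0 σ := by
  have h1 : ∀ i, lb (w (lb.symm (i, 1))) =
      ((lb (w (lb.symm (i, 0)))).1, swap 0 1 (lb (w (lb.symm (i, 0)))).2) := fun i => by
    have := congrArg (fun a : Perm P12 => lb (a (lb.symm (i, 0)))) h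
    rw [t0_eq, Perm.mul_apply, Perm.mul_apply, ep0_app, if_pos (Finset.mem_univ _), swap_apply_left,
      ← lb.symm_apply_apply (w (lb.symm (i, 0))), ep0_app, if_pos (Finset.mem_univ _),
      apply_symm_apply] at this
    exact this
  have h2 : Injective fun i => (lb (w (lb.symm (i, 0)))).1 := fun i j e => by
    by_cases k : (lb (w (lb.symm (i, 0)))).2 = (lb (w (lb.symm (j, 0)))).2
    · simpa using Prod.ext e k
    · have : lb (w (lb.symm (i, 1))) = lb (w (lb.symm (j, 0))) := by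
        rw [h1]
        exact Prod.ext e ((by decide : ∀ a b : Fin 2, a ≠ b → swap 0 1 a = b) _ _ k)
      simp at this
  let σ : Perm (Fin 6) := ofBijective _ (Finite.injective_iff_bijective.1 h2)
  refine ⟨σ, Finset.univ.filter fun k => (lb (w (lb.symm (σ.symm k, 0)))).2 = 1,
    ext' fun i s => lb.injective ?_⟩
  rw [el_app]
  simp only [Finset.mem_filter, Finset.mem_univ, true_and, symm_apply_apply]
  rcases (by decide : ∀ s : Fin 2, s = 0 ∨ s = 1) s with rfl | rfl
  · exact Prod.ext rfl ((by decide : ∀ a : Fin 2, a = if a = 1 then swap 0 1 0 else 0) _)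
  · rw [h1]
    exact Prod.ext rfl ((by decide : ∀ a : Fin 2, swap 0 1 a = if a = 1 then swap 0 1 1 else 1) _)

theorem wr : Wr (Cen t0) ep0 la0 where
  mul I J _ _ := ep0_mul I J
  act σ I _ := by rw [la0_ep0, mul_inv_cancel_right]
  inj σ I _ h := by
    have k : ∀ i, ((σ i, if σ i ∈ I then swap 0 1 0 else 0) : Fin 6 × Fin 2) = (i, 0) := fun i => by
      rw [← el_app, h]
      simp
    obtain rfl : σ = 1 := Equiv.ext fun i => congrArg Prod.fst (k i)
    refine ⟨Finset.eq_empty_of_forall_notMem fun i hi => ?_, rfl⟩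
    simpa [hi] using k i
  mem w := by
    constructor
    · rintro ⟨h1, h2⟩
      obtain ⟨σ, I, rfl⟩ := dec (mem_centralizer_singleton_iff.1 h2)
      refine ⟨σ, I, ?_, rfl⟩
      have := Perm.mem_alternatingGroup.1 h1
      rw [map_mul, sign_ep0, sign_la0, mul_one] at this
      exact (neg_one_pow_eq_one_iff_even (by decide)).1 this
    · rintro ⟨σ, I, h, rfl⟩
      refine ⟨Perm.mem_alternatingGroup.2 ?_, mem_centralizer_singleton_iff.2 ?_⟩
      · rw [map_mul, sign_ep0, sign_la0, h.neg_one_pow, mul_one]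
      · rw [t0_eq, mul_assoc, la0_ep0, Finset.map_univ_equiv, ← mul_assoc, ← mul_assoc, ← ep0_mul,
          ← ep0_mul, symmDiff_comm]

/-- The permutation of the labels. -/
def sf (x : M) (i : Fin 6) : Fin 6 := (lb (fA x.a (fR x.r (lb.symm (i, 0))))).1

theorem sf_inv : ∀ x i, sf x⁻¹ (sf x i) = i := by decide +kernel

def sp (x : M) : Perm (Fin 6) := ⟨sf x, sf x⁻¹, sf_inv x, fun i => by simpa using sf_inv x⁻¹ i⟩

theorem sign_sp : ∀ x, lam x = false ↔ Perm.sign (sp x) = 1 := by decide +kernel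

theorem jobWM : JobWM where
  wr := wr
  E a := by
    rw [← range_iE]
    constructor
    · rintro ⟨_, ⟨x, rfl⟩, rfl⟩
      obtain ⟨I, h, rfl⟩ := (by decide +kernel : ∀ x, ∃ I : Finset (Fin 6), Even I.card ∧ epE I = x) x
      exact ⟨I, h, Equiv.ext (psi_epE I h)⟩
    · rintro ⟨I, h, rfl⟩
      exact ⟨_, ⟨epE I, rfl⟩, Equiv.ext (psi_epE I h)⟩
  lam x σ I h := by
    obtain rfl : sp x = σ := Equiv.ext fun i => by
      have := congrArg Prod.fst (el_app σ I i 0)
      rwa [← h] at this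
    exact sign_sp x
  odd Y h1 h2 := (eq_bot_iff_forall Y).2 fun y hy => Equiv.ext fun p =>
    H9.AF.jobBig.2 _ (bk p.1) Y ((by decide +kernel : ∀ j : Fin 3, (bk j).card = 4) _) h1
      (fun u hu => by
        obtain ⟨d, k1, rfl⟩ := ((H9.AF.jobM0 (Fin 3)).isV _ u).1 hu
        obtain ⟨a, ha⟩ := (by decide +kernel : ∀ (j : Fin 3) d, InU true d →
          ∃ a, ∀ q, psi (iA a) q = κ0 _ (sg j d) q) p.1 d k1
        exact h2 ⟨iA a, range_iA.le ⟨a, rfl⟩, Equiv.ext ha⟩) y hy p (by simp [bk])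

end H19.A12WM
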