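/- Slot A7-Alt: involutory automorphisms of `A₈, …, A₁₁` centralizing a normal `A₇`. -/
import Cfsg.Agent.H49.A7Kit
import Cfsg.Agent.S2119

set_option autoImplicit false

namespace H19.A7Alt

open Subgroup Equiv Equiv.Perm H49.A7

variable {α : Type*} [Fintype α] [DecidableEq α]

/-- A permutation of order prime to that of a commuting cycle fixes the support of the cycle. -/
theorem disj_of_comm {c g : Perm α} (hc : c.IsCycle) (h : Commute g c) {m : ℕ} (hm : g ^ m = 1)
    (hco : m.Coprime (orderOf c)) : _root_.Disjoint g.support c.support := by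
  rw [Finset.disjoint_right]
  intro p hp
  rw [notMem_support]
  have h1 : c p ≠ p := mem_support.1 hp
  have h2 : c (g p) ≠ g p := fun e => h1 (g.injective (by rw [← mul_apply, h.eq, mul_apply, e]))
  obtain ⟨k, hk⟩ := hc.exists_pow_eq h1 h2
  have h3 : ∀ j : ℕ, (g ^ j) p = ((c ^ k) ^ j) p := fun j => by
    induction j with
    | zero => simp
    | succ j ih =>
      rw [pow_succ', mul_apply, ih, ← mul_apply, ((h.pow_right k).pow_right j).eq, mul_apply, ← hk,
        ← mul_apply, ← pow_succ]
  have h4 : ((c ^ k) ^ m) p = p := by rw [← h3, hm, one_apply]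
  have h5 : (c ^ k) ^ orderOf c = 1 := by rw [← pow_mul, mul_comm, pow_mul, pow_orderOf_eq_one, one_pow]
  obtain ⟨j, hj⟩ := exists_pow_eq_self_of_coprime (x := c ^ k) (n := m)
    (Nat.Coprime.coprime_dvd_right (orderOf_dvd_of_pow_eq_one h5) hco)
  rw [← hk, ← hj]
  exact pow_apply_eq_self_of_apply_eq_self h4 j

theorem jobAlt : JobAlt := by
  intro n h8 h11 σ A h
  have K := h.kit
  have hb := Cfsg.Agent.S2119.result n (by omega) (by omega)
  obtain ⟨π, rfl⟩ := hb.2 σ
  have hπ2 : π ^ 2 = 1 := hb.1 (by rw [pow_two, map_mul, h.sq, map_one])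
  have hπ1 : π ≠ 1 := fun e => h.ne (by rw [e, map_one])
  have hfix : ∀ y : alternatingGroup (Fin n), MulAut.conjNormal π y = y ↔ Commute π y := fun y => by
    rw [Subtype.ext_iff, MulAut.conjNormal_apply, mul_inv_eq_iff_eq_mul]
    rfl
  have hcA : ∀ a ∈ A, Commute π a := fun a ha => (hfix a).1 (h.fix a ha)
  obtain ⟨x, hxA, -, -, hx, -⟩ := K.x7
  have hx' : orderOf (x : Perm (Fin n)) = 7 := by rw [orderOf_coe, hx]
  have hxc : (x : Perm (Fin n)).IsCycle :=
    isCycle_of_prime_order' (by rw [hx']; norm_num) (by rw [hx', Fintype.card_fin]; omega)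
  have hx7 : (x : Perm (Fin n)).support.card = 7 := by rw [← hxc.orderOf, hx']
  have d1 := disj_of_comm hxc (hcA x hxA) hπ2 (by rw [hx']; norm_num)
  have hs2 : 2 ≤ π.support.card := two_le_card_support_of_ne_one hπ1
  have hs3 : π.support.card ≠ 3 := fun e => by
    have := orderOf_dvd_of_pow_eq_one hπ2
    rw [(card_support_eq_three_iff.1 e).orderOf] at this
    omega
  have hle : ∀ s : Finset (Fin n), s.card ≤ n := fun s => by simpa using s.card_le_univ
  have hn := hle (π.support ∪ (x : Perm (Fin n)).support)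
  rw [Finset.card_union_of_disjoint d1] at hn
  have hZ : Nat.card A = 2520 ∧ center A = ⊥ := K.card.resolve_right fun ⟨_, k⟩ => by
    haveI : Fact (Nat.Prime 3) := ⟨by norm_num⟩
    obtain ⟨z, hz⟩ := exists_prime_orderOf_dvd_card' (G := center A) 3 k.symm.dvd
    have hz' : orderOf (z.1.1 : Perm (Fin n)) = 3 := by rw [orderOf_coe, orderOf_coe, orderOf_coe, hz]
    have c1 : Commute (z.1.1 : Perm (Fin n)) x :=
      (congrArg (fun a : A => (a.1 : Perm (Fin n))) (mem_center_iff.1 z.2 ⟨x, hxA⟩)).symm
    have d2 := disj_of_comm hxc c1 (m := 3) (hz' ▸ pow_orderOf_eq_one _) (by rw [hx']; norm_num)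
    have h1 := hle ((z.1.1 : Perm (Fin n)).support ∪ (x : Perm (Fin n)).support)
    rw [Finset.card_union_of_disjoint d2] at h1
    have hzc : (z.1.1 : Perm (Fin n)).IsCycle :=
      isCycle_of_prime_order (by rw [hz']; norm_num) (by rw [hz']; omega)
    have h3 : (z.1.1 : Perm (Fin n)).support.card = 3 := by rw [← hzc.orderOf, hz']
    have d3 := disj_of_comm hzc (hcA _ z.1.2) hπ2 (by rw [hz']; norm_num)
    have h2 := hle (π.support ∪ ((z.1.1 : Perm (Fin n)).support ∪ (x : Perm (Fin n)).support))
    rw [Finset.card_union_of_disjoint (Finset.disjoint_union_right.2 ⟨d3, d1⟩),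
      Finset.card_union_of_disjoint d2] at h2
    omega
  refine ⟨hZ.2, ?_⟩
  by_cases h10 : n = 10
  · exfalso
    have hs : (π.supportᶜ).card = 8 := by rw [Finset.card_compl, Fintype.card_fin]; omega
    have hs' : Nat.card (π.supportᶜ : Finset (Fin n)) = 8 := by
      rw [Nat.card_eq_fintype_card, Fintype.card_coe, hs]
    haveI := alternatingGroup.isSimpleGroup (α := (π.supportᶜ : Finset (Fin n))) (by omega)
    haveI : Nontrivial (π.supportᶜ : Finset (Fin n)) := Finite.one_lt_card_iff_nontrivial.1 (by omega)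
    have hnor : ∀ y, alternatingGroup.ofSubtype π.supportᶜ y ∈ normalizer (A : Set _) := fun y => by
      refine h.nor _ ((hfix _).2 (Disjoint.commute (disjoint_iff_disjoint_support.2 ?_)))
      have := (alternatingGroup.mem_range_ofSubtype_iff _ _).1 ⟨y, rfl⟩
      exact Finset.disjoint_left.2 fun p h1 h2 => by simpa [mem_support.1 h1] using this h2
    have hN : (A.comap (alternatingGroup.ofSubtype π.supportᶜ)).Normal := ⟨fun a ha y => by
      rw [mem_comap, map_mul, map_mul, map_inv]
      exact (mem_normalizer_iff.1 (hnor y) _).1 ha⟩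
    obtain ⟨y, hy⟩ := (alternatingGroup.mem_range_ofSubtype_iff π.supportᶜ x).2 fun p hp => by
      simpa using Finset.disjoint_right.1 d1 hp
    have ht := hN.eq_bot_or_eq_top.resolve_left fun e => by
      have : y ∈ A.comap (alternatingGroup.ofSubtype π.supportᶜ) := by rw [mem_comap, hy]; exact hxA
      rw [e, mem_bot] at this
      rw [← hy, this, map_one, orderOf_one] at hx
      omega
    have h1 := Nat.card_le_card_of_injective
      (fun y => (⟨alternatingGroup.ofSubtype π.supportᶜ y, mem_comap.1 (ht ▸ mem_top y)⟩ : A))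
      fun a b e => alternatingGroup.ofSubtype_injective (congrArg Subtype.val e)
    rw [nat_card_alternatingGroup, hs', hZ.1] at h1
    norm_num [Nat.factorial] at h1
  by_cases h9 : n = 9
  · refine Or.inr ⟨h9, fun y e => ?_⟩
    have h1 : π = y := hb.1 (e.trans (by ext1; rfl))
    have h2 := (card_support_eq_two.1 (by omega : π.support.card = 2)).sign_eq
    rw [h1, mem_alternatingGroup.1 y.2] at h2
    exact absurd h2 (by decide)
  · exact Or.inl (by omega)

end H19.A7Alt
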