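/- Tower A7: the perfect cover of `A` in a central extension. -/
import Cfsg.Agent.H49.A7Kit
import Cfsg.Agent.H57.PslAutDefs

set_option autoImplicit false

namespace H19.A7L

open Subgroup Cfsg H49.A7 H57
open scoped commutatorElement

variable {S : Type*} [Group S]

theorem comm_mul_center {a b z w : S} (hz : z ∈ center S) (hw : w ∈ center S) :
    ⁅a * z, b * w⁆ = ⁅a, b⁆ := by
  have h1 := mem_center_iff.1 hz
  have h2 := mem_center_iff.1 hw
  calc ⁅a * z, b * w⁆ = a * (z * (b * w) * z⁻¹) * a⁻¹ * w⁻¹ * b⁻¹ := by group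
    _ = a * b * (w * a⁻¹ * w⁻¹) * b⁻¹ := by rw [← h1 (b * w), mul_inv_cancel_right]; group
    _ = ⁅a, b⁆ := by rw [← h2 a⁻¹, mul_inv_cancel_right]; group

theorem exists_center {a b : S} (h : (a : S ⧸ center S) = b) : ∃ z ∈ center S, b = a * z :=
  ⟨_, QuotientGroup.eq.1 h, by group⟩

/-- The data of the cover `P` of `A`. -/
structure Cov (τ : MulAut S) (A : Subgroup (S ⧸ center S)) (P : Subgroup S) : Prop where
  qs : IsQuasisimple P
  map : P.map (QuotientGroup.mk' (center S)) = A
  fix : ∀ s ∈ P, τ s = s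
  nor : ∀ y : S, quotCenterAut S τ y = y → y ∈ normalizer (P : Set S)
  cen : ∀ y : S, (y : S ⧸ center S) ∈ centralizer (A : Set (S ⧸ center S)) →
    y ∈ centralizer (P : Set S)
  ty : Nonempty (P ⧸ center P ≃* alternatingGroup (Fin 7))

theorem exists_cover {τ : MulAut S} {A : Subgroup (S ⧸ center S)} (h : Cf (quotCenterAut S τ) A) :
    ∃ P, Cov τ A P := by
  set π := QuotientGroup.mk' (center S) with hπ
  have hs : Function.Surjective π := QuotientGroup.mk'_surjective _
  set B := A.comap π with hB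
  have hm : (⁅B, B⁆).map π = A := by
    rw [map_commutator, map_comap_eq_self_of_surjective hs, H14.quasi_sub_perfect h.qs]
  have hd : ∀ a ∈ B, ∃ p ∈ ⁅B, B⁆, ∃ z ∈ center S, a = p * z := fun a ha => by
    obtain ⟨p, hp, e⟩ := hm.ge (mem_comap.1 ha)
    exact ⟨p, hp, exists_center e⟩
  have hp : ⁅⁅B, B⁆, ⁅B, B⁆⁆ = ⁅B, B⁆ := by
    have hb : ⁅B, B⁆ ≤ B := le_normalizer_iff_commutator_le_right.1 le_normalizer
    refine le_antisymm (commutator_mono hb hb) (commutator_le.2 fun a ha b hb => ?_)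
    obtain ⟨p, h1, z, hz, rfl⟩ := hd a ha
    obtain ⟨q, h2, w, hw, rfl⟩ := hd b hb
    rw [comm_mul_center hz hw]
    exact commutator_mem_commutator h1 h2
  have hq : IsQuasisimple (⁅B, B⁆ : Subgroup S) := by
    refine H14.quasi_of_map π hp ?_ (hm.symm ▸ h.qs)
    rw [commutator_eq_bot_iff_le_centralizer, hπ, QuotientGroup.ker_mk']
    exact inf_le_left.trans (center_le_centralizer _)
  have hfix : ∀ y : S, ∀ φ : S →* S, (∀ a ∈ B, (φ a : S ⧸ center S) = a) → ∀ s ∈ ⁅B, B⁆, φ s = s :=
    fun y φ hφ => by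
    refine fun s hs => (commutator_le.2 fun a ha b hb => ?_ : ⁅B, B⁆ ≤ φ.eqLocus (MonoidHom.id S)) hs
    obtain ⟨z, hz, e1⟩ := exists_center (hφ a ha).symm
    obtain ⟨w, hw, e2⟩ := exists_center (hφ b hb).symm
    change φ _ = _
    rw [map_commutatorElement, e1, e2, comm_mul_center hz hw]
    rfl
  obtain ⟨e⟩ := h.ty
  let f : (⁅B, B⁆ : Subgroup S) →* A := (π.comp (Subgroup.subtype _)).codRestrict A
    fun x => hm.le ⟨x, x.2, rfl⟩
  have hf : Function.Surjective f := fun a => by
    obtain ⟨p, h1, h2⟩ := hm.ge a.2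
    exact ⟨⟨p, h1⟩, Subtype.ext h2⟩
  let g := (e.toMonoidHom.comp (QuotientGroup.mk' _)).comp f
  have hg : Function.Surjective g := (e.surjective.comp (QuotientGroup.mk'_surjective _)).comp hf
  have hk : g.ker = center _ := by
    refine le_antisymm ((H14.quasi_normal hq _).resolve_left fun k => ?_) fun z hz => ?_
    · obtain ⟨x, hx⟩ := hg c3
      exact absurd (hx.symm.trans (MonoidHom.mem_ker.1 (k.ge (mem_top x)))) (by decide)
    · have : g z ∈ center (alternatingGroup (Fin 7)) := mem_center_iff.2 fun y => by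
        obtain ⟨x, rfl⟩ := hg y
        rw [← map_mul, ← map_mul, mem_center_iff.1 hz]
      rwa [alternatingGroup.center_eq_bot (by simp), mem_bot] at this
  refine ⟨_, hq, hm, hfix 1 τ.toMonoidHom fun a ha => h.fix _ ha, fun y hy => ?_, fun y hy => ?_,
    ⟨(QuotientGroup.quotientMulEquivOfEq hk.symm).trans
      (QuotientGroup.quotientKerEquivOfSurjective g hg)⟩⟩
  · have h1 : y ∈ normalizer (B : Set S) := le_normalizer_comap π (h.nor _ hy)
    refine mem_normalizer_iff_map_conj_eq.2 ?_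
    rw [map_commutator, mem_normalizer_iff_map_conj_eq.1 h1]
  · intro s hs
    have := hfix 1 (MulAut.conj y).toMonoidHom (fun a ha => by
      have := hy _ ha
      change ((y * a * y⁻¹ : S) : S ⧸ center S) = _
      rw [QuotientGroup.mk_mul, QuotientGroup.mk_mul, QuotientGroup.mk_inv, mul_inv_eq_iff_eq_mul]
      exact this.symm) s hs
    exact (mul_inv_eq_iff_eq_mul.1 this).symm

/-- If the fixed point group of `τ` is quasisimple, it has order `2520` modulo its centre. -/
theorem Cov.card_of_fix {τ : MulAut S} {A : Subgroup (S ⧸ center S)} {P M : Subgroup S}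
    (h : Cov τ A P) (hM : ∀ s, s ∈ M ↔ τ s = s) {N : Type*} [Group N] (hN : IsQuasisimple N)
    (e : N ≃* M) : Nat.card (N ⧸ center N) = 2520 := by
  have hq := H14.quasi_of_mulEquiv hN e
  have h1 : P ≤ M := fun s hs => (hM s).2 (h.fix s hs)
  have h2 : M ≤ P := (H14.quasi_sub_normalized hq fun y hy => h.nor y (by
    rw [quotCenterAut_mk, (hM y).1 hy])).resolve_right fun k =>
      H14.quasi_sub_commutator_ne_bot h.qs (H14.commutator_eq_bot_mono k (le_inf le_rfl h1) h1)
  obtain rfl := le_antisymm h1 h2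
  obtain ⟨t⟩ := h.ty
  rw [Nat.card_congr ((H73.D8W.cq e).trans t).toEquiv, nat_card_alternatingGroup]
  simp [Nat.factorial]

end H19.A7L
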