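/- Tower A7, slot L: field and graph-field automorphisms. -/
import Cfsg.Agent.H19.A7Cov
import Cfsg.Agent.H58.QE2
import Cfsg.Agent.H3.NSLU2
import Cfsg.Agent.S0280

set_option autoImplicit false

namespace H19.A7L

open Subgroup Cfsg H49.A7 H57 Matrix

theorem cf_conj {Y : Type*} [Group Y] {a b : MulAut Y} {A : Subgroup Y} (h : Cf a A)
    (e : IsConj a b) : ∃ A', Cf b A' := by
  obtain ⟨c, rfl⟩ := isConj_iff.1 e
  exact ⟨_, h.congr c⟩

theorem no_cube {q k m n : ℕ} (hq : 3 ≤ q) (hk : k.Coprime q) (hn : 3 ≤ n)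
    (h : k * 2520 = q ^ (n * (n - 1) / 2) * m) : False := by
  have h1 : 3 ≤ n * (n - 1) / 2 := by
    have : 3 * 2 ≤ n * (n - 1) := Nat.mul_le_mul hn (by omega)
    omega
  have h2 : q ^ 3 ∣ 2520 := (hk.symm.pow_left 3).dvd_of_dvd_mul_left
    (h ▸ (pow_dvd_pow q h1).mul_right m)
  have h3 : q < 14 := lt_of_pow_lt_pow_left₀ 3 (by norm_num)
    ((Nat.le_of_dvd (by norm_num) h2).trans_lt (by norm_num))
  interval_cases q <;> omega

variable {F : Type} [Field F] [Fintype F] {n : ℕ}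

theorem no_field (hodd : Odd (Fintype.card F)) (hn : 3 ≤ n) {σ : RingAut F} (h1 : σ ≠ 1)
    {A : Subgroup (ProjectiveSpecialLinearGroup (Fin n) F)} (h : Cf (pslField (Fin n) F σ) A) :
    False := by
  obtain ⟨P, hP⟩ := exists_cover (τ := slField (Fin n) F σ) h
  obtain ⟨e⟩ := H58.QE.fix_field (n := n) σ
  have := Fintype.ofFinite (fixedSub σ)
  have h2 := hP.card_of_fix (fun _ => Iff.rfl) ⟨⟨sl_commutator_eq_top_of_three_le (by simpa)⟩,
    psl_isSimpleGroup_of_three_le (by simpa)⟩ e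
  have h3 := H3.NSLU.card_psl_eq (fixedSub σ) (n := n) (by omega)
  have h4 := card_eq_card_fixedSub_pow σ
  rw [Nat.card_eq_fintype_card, Nat.card_eq_fintype_card] at h4
  have h5 : Odd (Fintype.card (fixedSub σ)) :=
    (Nat.odd_pow_iff (orderOf_pos σ).ne').1 (h4 ▸ hodd)
  have h6 := Fintype.one_lt_card (α := fixedSub σ)
  rw [show Nat.card (ProjectiveSpecialLinearGroup (Fin n) (fixedSub σ)) = 2520 from h2] at h3
  refine no_cube (by obtain ⟨k, hk⟩ := h5; omega) ?_ hn h3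
  exact Nat.Coprime.coprime_dvd_left (Nat.gcd_dvd_right _ _)
    ((Nat.coprime_self_sub_left h6.le).2 (Nat.coprime_one_left _))

theorem no_gf (hodd : Odd (Fintype.card F)) (hn : 3 ≤ n) {σ : RingAut F} (h1 : σ ≠ 1)
    (h2 : σ * σ = 1) {A : Subgroup (ProjectiveSpecialLinearGroup (Fin n) F)}
    (h : Cf (pslField (Fin n) F σ * pslGraph (Fin n) F) A) : False := by
  rw [show pslField (Fin n) F σ * pslGraph _ F = quotCenterAut _ (slField _ F σ * slGraph _ F) from
      (map_mul (quotCenterAut _) (slField _ F σ) (slGraph _ F)).symm] at h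
  obtain ⟨P, hP⟩ := exists_cover h
  obtain ⟨p, hc⟩ := CharP.exists F
  obtain ⟨f, hp, hf⟩ := FiniteField.card F p
  have := Fact.mk hp
  obtain ⟨-, a, b⟩ := involution_eq_pow hf h1 h2
  generalize p ^ ((f : ℕ) / 2) = q at a b
  have h5 : Odd q := (Nat.odd_pow_iff two_ne_zero).1 (a ▸ hodd)
  have h6 := Fintype.one_lt_card (α := F)
  have h7 : 3 ≤ q := by
    obtain ⟨k, rfl⟩ := h5
    rcases k with _ | k
    · simp [a] at h6
    · omega
  have h8 : ¬ (n = 3 ∧ q = 2) := by omega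
  have h3 := hP.card_of_fix (M := SU n F q) (fun s => by rw [← H58.QE.fix_gf b]; rfl)
    ⟨⟨H59.commutator_SU a hn h8⟩, H59.isSimpleGroup_PSU a hn h8⟩ (MulEquiv.refl _)
  have h4 := Cfsg.Agent.S0280.result a n (by omega)
  rw [show Nat.card (PSU n F q) = 2520 from h3, ← mul_assoc] at h4
  have h9 : (q + 1).Coprime q := by simp
  exact no_cube h7 (Nat.Coprime.mul_left (h9.coprime_dvd_left (Nat.gcd_dvd_right _ _)) h9) hn h4

end H19.A7L
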