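/- Tower A7, slot L: graph automorphisms. -/
import Cfsg.Agent.H19.A7LF
import Cfsg.Agent.H13.A7LA
import Cfsg.Agent.H55.A7R
import Cfsg.Agent.H58.ElOrd
import Cfsg.Agent.H58.GForm2

set_option autoImplicit false

namespace H19.A7L

open Subgroup Cfsg H49.A7 H57 Matrix

theorem exists_rel {S : Type*} [Group S] {τ : MulAut S} {A : Subgroup (S ⧸ center S)}
    (h : Cf (quotCenterAut S τ) A) {p : ℕ} (hp : p ≠ 1)
    (k : ∃ x ∈ A, ∃ a ∈ A, orderOf x = p ∧ a * x * a⁻¹ = x ^ 2) :
    ∃ x a : S, τ x = x ∧ τ a = a ∧ (x : S ⧸ center S) ∈ A ∧ (a : S ⧸ center S) ∈ A ∧ x ≠ 1 ∧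
      a * x * a⁻¹ = x ^ 2 ∧ x ^ p = 1 := by
  obtain ⟨P, hP⟩ := exists_cover h
  obtain ⟨x, hx, a, ha, o, e⟩ := k
  have hr : ∀ y ∈ A, y ∈ ((QuotientGroup.mk' (center S)).comp P.subtype).range := fun y hy => by
    obtain ⟨s, h1, h2⟩ := hP.map.ge hy
    exact ⟨⟨s, h1⟩, h2⟩
  obtain ⟨X, B, e1, -, e3, e4⟩ := H13.A7.lift_rel ((QuotientGroup.mk' (center S)).comp P.subtype)
    (fun z hz => mem_center_iff.2 fun g => Subtype.ext (mem_center_iff.1
      ((QuotientGroup.eq_one_iff (z : S)).1 (MonoidHom.mem_ker.1 hz)) g)) (hr x hx) (hr a ha) e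
    (o ▸ pow_orderOf_eq_one x)
  refine ⟨X, B, hP.fix _ X.2, hP.fix _ B.2, hP.map.le ⟨X, X.2, rfl⟩, hP.map.le ⟨B, B.2, rfl⟩,
    fun k => hp ?_, congrArg Subtype.val e3, congrArg Subtype.val e4⟩
  rw [← o, ← e1, show X = 1 from Subtype.ext k, map_one, orderOf_one]

variable {F : Type} [Field F] [Fintype F] {n : ℕ}

theorem two_ne (hodd : Odd (Fintype.card F)) : (2 : F) ≠ 0 := fun e => by
  have := FiniteField.even_card_iff_char_two.1 (CharP.ringChar_of_prime_eq_zero Nat.prime_two e)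
  rw [Nat.odd_iff] at hodd; omega

omit [Fintype F] in
theorem gl_rel {x a : SpecialLinearGroup (Fin n) F} (h : a * x * a⁻¹ = x ^ 2) :
    SpecialLinearGroup.toGL a * SpecialLinearGroup.toGL x * (SpecialLinearGroup.toGL a)⁻¹ =
      SpecialLinearGroup.toGL x ^ 2 := by
  rw [← map_inv, ← map_mul, ← map_mul, h, map_pow]

omit [Fintype F] in
theorem gl_pow {x : SpecialLinearGroup (Fin n) F} {p : ℕ} (h : x ^ p = 1) :
    SpecialLinearGroup.toGL x ^ p = 1 := by rw [← map_pow, h, map_one]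

omit [Fintype F] in
theorem gl_ne {x : SpecialLinearGroup (Fin n) F} (h : x ≠ 1) : SpecialLinearGroup.toGL x ≠ 1 :=
  fun e => h (SpecialLinearGroup.toGL_injective (e.trans (map_one _).symm))

theorem sq_dvd_isom (h2 : (2 : F) ≠ 0) (hn : n = 4 ∨ n = 5) {B : LinearMap.BilinForm F (Fin n → F)}
    (hB : H58.IsEps B) : Nat.card F ^ 2 ∣ Nat.card (H54.Isom B) := by
  rcases hB.2 with h | h
  · rw [H58.card_Isom_eq_O h2 h, H58.card_O_eq (H58.toQuad_nondeg h2 h hB.1)]
    rcases hn with rfl | rfl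
    · rw [show Module.finrank F (Fin 4 → F) = 2 * (1 + 1) by simp, H58.ordO_even]
      exact ((dvd_mul_left _ 2).mul_right _).mul_right _
    · rw [show Module.finrank F (Fin 5 → F) = 2 * 2 + 1 by simp, H58.ordO_odd]
      exact ((pow_dvd_pow _ (by norm_num)).mul_left 2).mul_right _
  · have := H58.even_card_of_isAlt hB.1 h
    rw [Fintype.card_fin] at this
    obtain rfl : n = 4 := hn.resolve_right (by rintro rfl; exact absurd this (by decide))
    rw [H54.card_Isom hB.1 h (m := 2) (by simp), H54.spOrder_def]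
    exact (pow_dvd_pow _ (by norm_num)).mul_right _

theorem no_graph (hodd : Odd (Fintype.card F)) (hn : n ≤ 5) {J : GL (Fin n) F}
    {A : Subgroup (ProjectiveSpecialLinearGroup (Fin n) F)} (h : Cf (H58.pslGr J) A) : False := by
  have h2 := two_ne hodd
  have hE := H58.pslGr_sq_eq_one_iff.1 ((sq _).trans h.sq)
  have K := h.kit
  rw [show H58.pslGr J = quotCenterAut _ (slDiag _ F J⁻¹ * slGraph _ F) from
      (map_mul (quotCenterAut _) (slDiag _ F J⁻¹) (slGraph _ F)).symm] at h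
  have hf : ∀ s : SpecialLinearGroup (Fin n) F,
      (slDiag (Fin n) F J⁻¹ * slGraph (Fin n) F : MulAut _) s = s ↔
      s.1ᵀ * J.1 * s.1 = J.1 := fun s => by
    have := H58.QE.graph_fix_iff J 1 s
    rw [map_one, mul_one] at this
    exact this
  have h7 : (7 : F) = 0 := by
    by_contra h7
    obtain ⟨x, a, e1, -, -, -, e3, e4, e5⟩ := exists_rel h (by norm_num) K.x7
    have := H13.A7.la7' (gl_ne e3) (gl_rel e4) (gl_pow e5) h7 (by
      have e6 : (x⁻¹).1 = J⁻¹.1 * x.1ᵀ * J.1 := by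
        rw [mul_assoc, Units.eq_inv_mul_iff_mul_eq, ← (hf x).1 e1, mul_assoc _ x.1,
          show x.1 * (x⁻¹).1 = 1 from congrArg Subtype.val (mul_inv_cancel x), mul_one, (hf x).1 e1]
      change x.1.charpoly = (x⁻¹).1.charpoly
      rw [e6, charpoly_mul_comm, ← mul_assoc, Units.mul_inv, one_mul, charpoly_transpose])
    rw [Fintype.card_fin] at this
    omega
  have h5 : (5 : F) ≠ 0 := fun e => h2 (by linear_combination h7 - e)
  obtain ⟨x, a, -, -, e2, -, e3, e4, e5⟩ := exists_rel h (by norm_num) K.x5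
  have h4 := H13.A7.la5 (gl_ne e3) (gl_rel e4) (gl_pow e5) h5
  rw [Fintype.card_fin] at h4
  have : Fact (Nat.Prime 7) := ⟨by norm_num⟩
  have : CharP F 7 := (CharP.charP_iff_prime_eq_zero (by norm_num)).2 (by exact_mod_cast h7)
  have h49 : 7 ^ 2 ∣ Nat.card (H54.Isom (toBilin' J.1)) := by
    refine (pow_dvd_pow_of_dvd ?_ 2).trans (sq_dvd_isom h2 (by omega) hE)
    obtain ⟨f, -, e⟩ := FiniteField.card F 7
    rw [Nat.card_eq_fintype_card, e]
    exact dvd_pow_self 7 f.ne_zero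
  have : Finite ((Fin n → F) ≃ₗ[F] (Fin n → F)) := Finite.of_equiv _ (H59.glEquiv _ F).toEquiv
  obtain ⟨U, hU⟩ := Sylow.exists_subgroup_card_pow_prime 7 h49
  let j : U →* GL (Fin n) F := (H59.glEquiv (Fin n) F).symm.toMonoidHom.comp
    ((H54.Isom (toBilin' J.1)).subtype.comp U.subtype)
  have j1 : ∀ u, (j u).1ᵀ * J.1 * (j u).1 = J.1 := fun u =>
    H58.toBilin'_mulVec_iff.1 fun v w => by
      simp only [j, MonoidHom.comp_apply, MulEquiv.coe_toMonoidHom, H59.glEquiv_symm_mulVec]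
      exact u.1.2 v w
  have j2 : ∀ u, j u ^ 7 ^ 2 = 1 := fun u => by rw [← map_pow, ← hU, pow_card_eq_one', map_one]
  have j3 : ∀ u, (j u).1.det = 1 := fun u => by
    have a1 := congrArg det (j1 u)
    rw [det_mul, det_mul, det_transpose, mul_comm (j u).1.det, mul_assoc] at a1
    have a2 := mul_left_cancel₀ J.det_ne_zero (a1.trans (mul_one _).symm)
    have a3 := congrArg (fun g : GL (Fin n) F => g.1.det) (j2 u)
    simp only [Units.val_pow_eq_pow_val, det_pow, Units.val_one, det_one] at a3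
    rwa [show 7 ^ 2 = 2 * 24 + 1 from rfl, pow_succ, pow_mul, sq, a2, one_pow, one_mul] at a3
  let ψ : U →* SpecialLinearGroup (Fin n) F :=
    { toFun := fun u => ⟨(j u).1, j3 u⟩
      map_one' := Subtype.ext (congrArg Units.val (map_one j))
      map_mul' := fun u v => Subtype.ext (congrArg Units.val (map_mul j u v)) }
  let φ := (QuotientGroup.mk' (center _)).comp ψ
  obtain ⟨f, hf'⟩ := H55.A7R.exists_act h (U := φ.range) (by
    rintro _ ⟨u, rfl⟩
    exact congrArg QuotientGroup.mk ((hf (ψ u)).2 (j1 u)))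
  have hi : Function.Injective (f.comp φ.rangeRestrict) := (injective_iff_map_eq_one _).2 fun u hu => by
    have c := H13.A7.comm_lift (QuotientGroup.mk' (center _)) (QuotientGroup.ker_mk' _).le
      (H14.quasi_sub_perfect h.qs) (fun y _ => QuotientGroup.mk'_surjective _ y) (hf' _ hu) e2
    have := H13.A7.lu5' (gl_ne e3) (gl_rel e4) (gl_pow e5) h5 (by simpa using hn) (r := 7)
      (by norm_num) (j2 u) (Units.ext (congrArg Subtype.val c).symm)
    exact Subtype.ext (Subtype.ext ((H59.glEquiv (Fin n) F).symm.injective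
      (this.trans (map_one _).symm)))
  have := card_dvd_of_injective _ hi
  rw [hU, H55.A7R.card_aut] at this
  omega

end H19.A7L
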