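/- Tower A7, slot L: inner-diagonal automorphisms and the job. -/
import Cfsg.Agent.H19.A7LG

set_option autoImplicit false

namespace H19.A7L

open Subgroup Cfsg H49.A7 H57 Matrix Module

section Lin
variable {K : Type*} [Field K] {m : Type*} [Fintype m] [DecidableEq m]

/-- The eigenspace. -/
def Es (g : Matrix m m K) (e : K) : Submodule K (m → K) := LinearMap.ker (g - e • 1).mulVecLin

theorem mem_Es {g : Matrix m m K} {e : K} {v : m → K} : v ∈ Es g e ↔ g *ᵥ v = e • v := by
  rw [Es, LinearMap.mem_ker, mulVecLin_apply, sub_mulVec, smul_mulVec, one_mulVec, sub_eq_zero]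

theorem Es_inv {g x : Matrix m m K} (h : x * g = g * x) {e : K} : ∀ v ∈ Es g e, x *ᵥ v ∈ Es g e :=
  fun v hv => by
    rw [mem_Es] at hv ⊢
    rw [mulVec_mulVec, ← h, ← mulVec_mulVec, hv, mulVec_smul]

theorem rank_Es (g : Matrix m m K) (e : K) : finrank K (Es gᵀ e) = finrank K (Es g e) := by
  have a := (g - e • 1).mulVecLin.finrank_range_add_finrank_ker
  have b := (gᵀ - e • 1).mulVecLin.finrank_range_add_finrank_ker
  have c := rank_transpose (g - e • 1)
  rw [transpose_sub, transpose_smul, transpose_one] at c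
  unfold rank at c
  unfold Es
  omega

theorem moves (h2 : (2 : K) ≠ 0) {g x : Matrix m m K} {e : K} (he : e ≠ 0)
    (hg : g * g = (e * e) • 1) (hx : x ≠ 1) :
    ∃ e', (e' = e ∨ e' = -e) ∧ ∃ w ∈ Es g e', x *ᵥ w ≠ w := by
  by_contra! k
  refine hx (ext_iff_mulVec.2 fun v => ?_)
  have a := k e (.inl rfl) (g *ᵥ v + e • v) (by
    rw [mem_Es, mulVec_add, mulVec_mulVec, hg, smul_mulVec, one_mulVec, mulVec_smul]; module)
  have b := k (-e) (.inr rfl) (g *ᵥ v - e • v) (by
    rw [mem_Es, mulVec_sub, mulVec_mulVec, hg, smul_mulVec, one_mulVec, mulVec_smul]; module)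
  rw [mulVec_add, mulVec_smul] at a
  rw [mulVec_sub, mulVec_smul] at b
  rw [one_mulVec]
  refine smul_right_injective _ (mul_ne_zero h2 he) ?_
  linear_combination (norm := module) a - b

/-- The choice of the prime. -/
def Pk (K : Type*) [Field K] (p k : ℕ) : Prop :=
  p = 5 ∧ k = 4 ∧ (5 : K) ≠ 0 ∨ p = 7 ∧ k = 3 ∧ (5 : K) = 0 ∧ (7 : K) ≠ 0

theorem Pk.sub {p k : ℕ} (hp : Pk K p k) {x a : GL m K} (h : a * x * a⁻¹ = x ^ 2) (hx : x ^ p = 1)
    (W : Submodule K (m → K)) (h1 : ∀ w ∈ W, x.val *ᵥ w ∈ W) (h2 : ∀ w ∈ W, a.val *ᵥ w ∈ W)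
    (hw : ∃ w ∈ W, x.val *ᵥ w ≠ w) : k ≤ finrank K W := by
  rcases hp with ⟨rfl, rfl, c⟩ | ⟨rfl, rfl, -, c⟩
  · exact H13.A7.la_sub5 h hx c W h1 h2 hw
  · exact H13.A7.la_sub7 h hx c W h1 h2 hw

theorem Pk.three {p k : ℕ} (hp : Pk K p k) : 3 ≤ k := by
  rcases hp with ⟨-, rfl, -⟩ | ⟨-, rfl, -⟩ <;> norm_num

theorem Pk.up {p k : ℕ} (hp : Pk K p k) : Pk (AlgebraicClosure K) p k := by
  have i := (algebraMap K (AlgebraicClosure K)).injective
  rcases hp with h | h
  on_goal 1 => refine .inl ⟨h.1, h.2.1, fun e => h.2.2 (i ?_)⟩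
  on_goal 2 => refine .inr ⟨h.1, h.2.1, ?_, fun e => h.2.2.2 (i ?_)⟩
  · rw [map_ofNat, e, map_zero]
  · rw [← map_ofNat (algebraMap K (AlgebraicClosure K)), h.2.2.1, map_zero]
  · rw [map_ofNat, e, map_zero]

theorem line {w φ : m → K} (hφ : φ ≠ 0) {x : Matrix m m K}
    (h : (1 + vecMulVec w φ) * x = x * (1 + vecMulVec w φ)) :
    ∀ v ∈ Submodule.span K {w}, x *ᵥ v ∈ Submodule.span K {w} := fun v hv => by
  obtain ⟨c, rfl⟩ := Submodule.mem_span_singleton.1 hv
  obtain ⟨j, hj⟩ := Function.ne_iff.1 hφ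
  rw [add_mul, mul_add, one_mul, mul_one, add_right_inj, mul_vecMulVec, vecMulVec_mul] at h
  refine Submodule.mem_span_singleton.2 ⟨c * ((φ ᵥ* x) j / φ j), funext fun i => ?_⟩
  have := congrFun (congrFun h i) j
  simp only [vecMulVec_apply] at this
  have hj : φ j ≠ 0 := hj
  simp only [mulVec_smul, Pi.smul_apply, smul_eq_mul]
  field_simp
  linear_combination c * this

end Lin

theorem card_dvd {S G : Type*} [Group S] [Group G] {τ : MulAut S} {A : Subgroup (S ⧸ center S)}
    (h : Cf (quotCenterAut S τ) A) (ψ : G →* S) (h1 : ∀ u, τ (ψ u) = ψ u)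
    (h2 : ∀ u, (∀ y : S, (y : S ⧸ center S) ∈ A → ψ u * y = y * ψ u) → u = 1) :
    Nat.card G ∣ 5040 := by
  let φ := (QuotientGroup.mk' (center S)).comp ψ
  obtain ⟨f, hf⟩ := H55.A7R.exists_act h (U := φ.range) (by
    rintro _ ⟨u, rfl⟩
    exact congrArg QuotientGroup.mk (h1 u))
  rw [← H55.A7R.card_aut]
  exact card_dvd_of_injective (f.comp φ.rangeRestrict) ((injective_iff_map_eq_one _).2 fun u hu =>
    h2 u fun y hy => H13.A7.comm_lift (QuotientGroup.mk' (center _)) (QuotientGroup.ker_mk' _).le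
      (H14.quasi_sub_perfect h.qs) (fun y _ => QuotientGroup.mk'_surjective _ y) (hf _ hu) hy)

variable {F : Type} [Field F] [Fintype F] {n : ℕ}

theorem exists_pk (hodd : Odd (Fintype.card F)) {τ : MulAut (SpecialLinearGroup (Fin n) F)}
    {A : Subgroup (ProjectiveSpecialLinearGroup (Fin n) F)} (h : Cf (quotCenterAut _ τ) A) :
    ∃ p k, Pk F p k ∧ ∃ x a : SpecialLinearGroup (Fin n) F, τ x = x ∧ τ a = a ∧
      (x : _ ⧸ center _) ∈ A ∧ (a : _ ⧸ center _) ∈ A ∧ x ≠ 1 ∧ a * x * a⁻¹ = x ^ 2 ∧ x ^ p = 1 := by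
  by_cases h5 : (5 : F) = 0
  · exact ⟨7, 3, .inr ⟨rfl, rfl, h5, fun e => two_ne hodd (by linear_combination e - h5)⟩,
      exists_rel h (by norm_num) h.kit.x7⟩
  · exact ⟨5, 4, .inl ⟨rfl, rfl, h5⟩, exists_rel h (by norm_num) h.kit.x5⟩

theorem three_le (hodd : Odd (Fintype.card F)) {τ : MulAut (SpecialLinearGroup (Fin n) F)}
    {A : Subgroup (ProjectiveSpecialLinearGroup (Fin n) F)} (h : Cf (quotCenterAut _ τ) A) :
    3 ≤ n := by
  obtain ⟨p, k, hp, x, a, -, -, -, -, e1, e2, e3⟩ := exists_pk hodd h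
  have := hp.sub (gl_rel e2) (gl_pow e3) ⊤ (fun _ _ => trivial) (fun _ _ => trivial) (by
    by_contra! c
    exact e1 (Subtype.ext (ext_iff_mulVec.2 fun v => (c v trivial).trans (one_mulVec v).symm)))
  rw [finrank_top, finrank_fin_fun] at this
  exact hp.three.trans this

theorem Pk.not_dvd (hodd : Odd (Fintype.card F)) {p k : ℕ} (hp : Pk F p k) :
    ¬ Fintype.card F ^ (k - 1) ∣ 5040 := fun h => by
  rcases hp with ⟨-, rfl, -⟩ | ⟨-, rfl, c, -⟩
  · have h1 := Fintype.one_lt_card (α := F)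
    generalize Fintype.card F = q at *
    have h3 : q < 18 := lt_of_pow_lt_pow_left₀ 3 (by norm_num)
      ((Nat.le_of_dvd (by norm_num) h).trans_lt (by norm_num))
    rw [Nat.odd_iff] at hodd
    interval_cases q <;> omega
  · have : Fact (Nat.Prime 5) := ⟨by norm_num⟩
    have : CharP F 5 := (CharP.charP_iff_prime_eq_zero (by norm_num)).2 (by exact_mod_cast c)
    obtain ⟨f, -, e⟩ := FiniteField.card F 5
    have := (pow_dvd_pow_of_dvd (e ▸ dvd_pow_self 5 f.ne_zero) 2).trans h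
    omega

theorem no_diag (hodd : Odd (Fintype.card F)) (hn : n ≤ 5) {g : GL (Fin n) F}
    {A : Subgroup (ProjectiveSpecialLinearGroup (Fin n) F)} (h : Cf (pslDiag (Fin n) F g) A) :
    False := by
  have h2 := two_ne hodd
  obtain ⟨c, hc⟩ := pslDiag_eq_one_iff.1 ((map_mul _ g g).trans h.sq)
  have hg : g.1 * g.1 = c.1 • 1 := by
    rw [← Units.val_mul, ← hc]; ext i j; simp [one_apply, diagonal_apply]
  have hf : ∀ s : SpecialLinearGroup (Fin n) F, slDiag (Fin n) F g s = s ↔ s.1 * g.1 = g.1 * s.1 :=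
    fun s => Subtype.ext_iff.trans ((Units.mul_inv_eq_iff_eq_mul g).trans eq_comm)
  obtain ⟨p, k, hp, x, a, e1, e2, xA, aA, e3, e4, e5⟩ := exists_pk (τ := slDiag (Fin n) F g) hodd h
  rw [hf] at e1 e2
  by_cases hs : IsSquare c.1
  · obtain ⟨e, he⟩ := hs
    obtain ⟨e, -, w, hw, hw'⟩ := moves h2 (fun k => c.ne_zero (by rw [he, k, mul_zero]))
      (he ▸ hg) (fun k => e3 (Subtype.ext k))
    have h3 := hp.sub (gl_rel e4) (gl_pow e5) _ (Es_inv e1) (Es_inv e2) ⟨w, hw, hw'⟩
    have w0 : w ≠ 0 := by rintro rfl; exact hw' (mulVec_zero _)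
    let T := Es g.1ᵀ e ⊓ LinearMap.ker (dotProductBilin F F w)
    have h4 : k - 1 ≤ finrank F T := by
      have a := (dotProductBilin F F w).finrank_range_add_finrank_ker
      have b := (LinearMap.range (dotProductBilin F F w)).finrank_le
      have c := Submodule.finrank_sup_add_finrank_inf_eq (Es g.1ᵀ e)
        (LinearMap.ker (dotProductBilin F F w))
      have d := (Es g.1ᵀ e ⊔ LinearMap.ker (dotProductBilin F F w)).finrank_le
      rw [finrank_self] at b
      rw [rank_Es] at c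
      unfold T
      omega
    have d0 : ∀ φ : T, φ.1 ⬝ᵥ w = 0 := fun φ => (dotProduct_comm _ _).trans φ.2.2
    let ψ : Multiplicative T →* SpecialLinearGroup (Fin n) F :=
      MonoidHom.mk' (fun φ => ⟨1 + vecMulVec w φ.toAdd.1, by
        rw [vecMulVec_eq Unit, det_one_add_replicateCol_mul_replicateRow, d0, add_zero]⟩)
        fun φ χ => Subtype.ext (by
          change 1 + vecMulVec w (φ.toAdd.1 + χ.toAdd.1) = (1 + _) * (1 + _)
          rw [add_mul, mul_add, mul_add, vecMulVec_mul_vecMulVec, d0, zero_smul, vecMulVec_zero,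
            vecMulVec_add]
          simp only [one_mul, mul_one]
          abel)
    have := card_dvd (τ := slDiag (Fin n) F g) h ψ (fun u => (hf (ψ u)).2 (by
      change (1 + _) * _ = _ * (1 + _)
      rw [add_mul, mul_add, one_mul, mul_one, mul_vecMulVec, vecMulVec_mul, mem_Es.1 hw,
        ← mulVec_transpose, mem_Es.1 u.toAdd.2.1, smul_vecMulVec, vecMulVec_smul])) fun u c => by
      by_contra u1
      have u0 : u.toAdd.1 ≠ 0 := fun k => u1 (Subtype.ext k)
      have := hp.sub (gl_rel e4) (gl_pow e5) _ (line u0 (congrArg Subtype.val (c x xA)))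
        (line u0 (congrArg Subtype.val (c a aA))) ⟨w, Submodule.mem_span_singleton_self w, hw'⟩
      rw [finrank_span_singleton w0] at this
      have := hp.three
      omega
    rw [Nat.card_congr Multiplicative.toAdd, natCard_eq_pow_finrank (K := F),
      Nat.card_eq_fintype_card] at this
    exact hp.not_dvd hodd ((pow_dvd_pow _ h4).trans this)
  · let K := AlgebraicClosure F
    let ι := algebraMap F K
    have i : Function.Injective ι := ι.injective
    have r : ringChar F ≠ 2 := fun e => by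
      have := FiniteField.even_card_of_char_two e
      rw [Nat.odd_iff] at hodd; omega
    have h3 := (FiniteField.pow_dichotomy r c.ne_zero).resolve_left
      (mt (FiniteField.isSquare_iff r c.ne_zero).2 hs)
    obtain ⟨e, he⟩ := IsAlgClosed.exists_eq_mul_self (ι c.1)
    have e0 : e ≠ 0 := fun k => c.ne_zero (i (by rw [he, k, mul_zero, map_zero]))
    have k2 : (2 : K) ≠ 0 := fun k => h2 (i (by rw [map_ofNat, k, map_zero]))
    obtain ⟨e', he', w, hw, hw'⟩ := moves (g := g.1.map ι) (x := x.1.map ι) k2 e0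
      (by rw [← Matrix.map_mul, hg, ← he]; ext i j; simp [one_apply, apply_ite ι])
      (fun k => e3 (Subtype.ext (H13.A7.map_inj (k.trans (Matrix.map_one _ ι.map_zero ι.map_one).symm))))
    let θ := FiniteField.frobeniusAlgHom F K
    have t1 : θ e' = -e' := by
      have : e' * e' = ι c.1 := by
        rcases he' with rfl | rfl
        exacts [he.symm, (neg_mul_neg _ _).trans he.symm]
      change e' ^ _ = _
      rw [← Nat.two_mul_div_two_add_one_of_odd hodd, pow_succ, pow_mul, sq, this, ← map_pow, h3,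
        map_neg, map_one, neg_one_mul]
    have t2 : ∀ M : Matrix (Fin n) (Fin n) F, M.map ι *ᵥ (θ ∘ w) = θ ∘ (M.map ι *ᵥ w) := fun M => by
      ext j
      have := RingHom.map_mulVec (θ : K →+* K) (M.map ι) w j
      rw [Matrix.map_map, show (θ : K →+* K) ∘ ι = ι from funext θ.commutes] at this
      exact this.symm
    have up := fun (e : K) (k : ∃ w ∈ Es (g.1.map ι) e, x.1.map ι *ᵥ w ≠ w) =>
      hp.three.trans (hp.up.sub (H13.A7.up_rel (gl_rel e4)) (H13.A7.up_pow (gl_pow e5)) _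
        (Es_inv (by exact (Matrix.map_mul.symm.trans (congrArg (·.map ι) e1)).trans Matrix.map_mul))
        (Es_inv (by exact (Matrix.map_mul.symm.trans (congrArg (·.map ι) e2)).trans Matrix.map_mul)) k)
    have a1 := up _ ⟨w, hw, hw'⟩
    have a2 := up (-e') ⟨θ ∘ w, by
      rw [mem_Es, t2, mem_Es.1 hw, ← t1]
      ext j
      simp, fun k => hw' (funext fun j => θ.toRingHom.injective (congrFun ((t2 _).symm.trans k) j))⟩
    have a3 := Submodule.finrank_add_finrank_le_of_disjoint (s := Es (g.1.map ι) e')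
      (t := Es (g.1.map ι) (-e')) (Submodule.disjoint_def.2 fun v b1 b2 => by
        have e1 : e' ≠ 0 := by rcases he' with rfl | rfl <;> simpa using e0
        refine smul_right_injective _ (mul_ne_zero k2 e1) ?_
        linear_combination (norm := module) mem_Es.1 b2 - mem_Es.1 b1)
    rw [finrank_fin_fun] at a3
    have := (add_le_add a1 a2).trans a3
    omega

theorem jobL : JobL := fun F _ _ hodd n h2 h5 _ σ A h => by
  rcases H58.QE.reps h2 h.sq with ⟨g, rfl⟩ | ⟨s, s1, -, e⟩ | ⟨-, J, rfl⟩ | ⟨h3, s, s1, s2, e⟩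
  · exact no_diag hodd h5 h
  · obtain ⟨B, k⟩ := cf_conj h e
    exact no_field hodd (three_le (τ := slField (Fin n) F s) hodd k) s1 k
  · exact no_graph hodd h5 h
  · obtain ⟨B, k⟩ := cf_conj h e
    exact no_gf hodd h3 s1 s2 k

end H19.A7L
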