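import Cfsg.Agent.H19.A8S
import Cfsg.Agent.H1.CoprimeGen
import Cfsg.Agent.H86.QD
import Cfsg.Agent.S0514
import Cfsg.Agent.S3224

/-! The `3`-local data of `A₈`: the four-group normalized by the Sylow `3`-subgroup. -/

set_option autoImplicit false
set_option synthInstance.maxSize 5000

namespace H19.A8

open Subgroup H98 H14 H56.L3 H42.L3
open H42.Ree (Pair V4 V4_le left_mem_V4 right_mem_V4 two_of_sq cj_zpowers mem_nor_cen)

attribute [local instance 2000] List.decidableBAll List.decidableBEx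

variable {G : Type*} [Group G] {φ : K →* G} {s : G}

theorem Ce_inv (x : G) : Ce x⁻¹ = Ce x := by
  ext g; simp only [mem_Ce]; exact Commute.inv_right_iff

theorem Ce_symm {x y : G} (h : x ∈ Ce y) : y ∈ Ce x := mem_Ce.2 (mem_Ce.1 h).symm

theorem pow_of_six {g : G} {p q n : ℕ} (h6 : g ^ (q * p) = 1) (h : g ^ p ^ n = 1)
    (hc : p.Coprime q) : g ^ p = 1 :=
  orderOf_dvd_iff_pow_eq_one.1 ((((hc.pow_left n).coprime_dvd_left
    (orderOf_dvd_of_pow_eq_one h)).dvd_mul_left).1 (orderOf_dvd_of_pow_eq_one h6))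

theorem kv : u0 * u0 = 1 ∧ u0 ≠ 1 ∧ v0 * v0 = 1 ∧ v0 ≠ 1 ∧ u0 ≠ v0 ∧ u0 * v0 = v0 * u0 ∧
    xx 1 * xx 1 = 1 ∧ xx 1 * u0 = u0 * xx 1 ∧ xx 1 * v0 * (xx 1)⁻¹ = u0 * v0 ∧
    xx 1 * v0 ≠ v0 * xx 1 ∧ xx 1 * (u0 * v0) ≠ u0 * v0 * xx 1 ∧ z0 * u0 = u0 * z0 ∧
    z0 * v0 = v0 * z0 ∧ z1 * u0 * z1⁻¹ = v0 ∧ z1 * v0 * z1⁻¹ = u0 * v0 ∧
    xx 0 * xx 0 = 1 ∧ xx 0 ≠ 1 ∧ xx 0 * xx 1 * xx 0 * (xx 0 * xx 1)⁻¹ = xx 1 := by decide +kernel

theorem map_conj (a b : K) : φ a * φ b * (φ a)⁻¹ = φ (a * b * a⁻¹) := by simp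

variable [Finite G]

namespace Hyp

variable (h : Hyp φ s)
include h

theorem pull {g : G} (hg : g ∈ Ce (φ z0)) : ∃ k, φ k = g := h.nor.le (Ce_le_Nz _ hg)

omit [Finite G] in
theorem comm {a b : K} (e : φ a ∈ Ce (φ b)) : a * b = b * a := h.inj (by simpa using mem_Ce.1 e)

omit [Finite G] in
theorem sz' : s * φ z1 * s⁻¹ = φ z0 := by
  simp [← h.sz, mul_assoc, inv_eq_of_mul_eq_one_right h.ss, ← mul_assoc s s, h.ss]

omit [Finite G] in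
theorem sy : s ∈ Ce (φ (z0 * z1)) := mem_Ce'.2 (by
  rw [map_mul, ← conj_mul, h.sz, h.sz', ← map_mul, ← z3.2.2.1, map_mul])

omit [Finite G] in
theorem pair : Pair (φ u0) (φ v0) :=
  ⟨two_of_sq (by rw [← map_mul, kv.1, map_one]) (by simpa [← h.inj.eq_iff] using kv.2.1),
    two_of_sq (by rw [← map_mul, kv.2.2.1, map_one]) (by simpa [← h.inj.eq_iff] using kv.2.2.2.1),
    h.inj.ne kv.2.2.2.2.1, by rw [← map_mul, kv.2.2.2.2.2.1, map_mul]⟩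

omit [Finite G] in
theorem ordZ : orderOf (φ z0) = 3 :=
  orderOf_eq_prime (map_cube z3.1) fun e => z3.2.2.2.1 (h.inj (by rw [e, map_one]))

theorem cases_D {x : G} (hx : x ∈ DD φ) : x ^ 3 = 1 ∧ DD φ ≤ Ce x ∧
    (x ≠ 1 → Ce x = Ce (φ z0) ∨ Ce x = Ce (φ z1) ∨ Ce x ≤ nr (DD φ)) := by
  have key : ∀ a ∈ [1, z0, z0⁻¹], ∀ b ∈ [1, z1, z1⁻¹], (a * b) ^ 3 = 1 ∧ (a * b = 1 ∨
      ∃ c ∈ [a * b, (a * b)⁻¹], c = z0 ∨ c = z1 ∨ c = z0 * z1 ∨ c = xx 0 * (z0 * z1) * (xx 0)⁻¹) := by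
    decide +kernel
  obtain ⟨a, ha, b, hb, rfl⟩ := mem_DD h.inj h.nor hx
  refine ⟨map_cube (key a ha b hb).1, fun y hy => Ce_symm ?_, fun h1 => ?_⟩
  · exact map_mul φ a b ▸ mul_mem (zpowers_le_of_mem (Ce_symm hy.1) (by
      simpa [mem_zp3 (map_cube z3.1), ← h.inj.eq_iff] using ha)) (zpowers_le_of_mem (Ce_symm hy.2)
      (by simpa [mem_zp3 (map_cube z3.2.1), ← h.inj.eq_iff] using hb))
  obtain ⟨c, hc, e⟩ := (key a ha b hb).2.resolve_left fun e => h1 (by rw [e, map_one])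
  have : Ce (φ (a * b)) = Ce (φ c) := by
    rcases List.mem_pair.1 hc with rfl | rfl
    exacts [rfl, by rw [map_inv, Ce_inv]]
  rw [this]
  rcases e with rfl | rfl | rfl | rfl
  exacts [.inl rfl, .inr (.inl rfl), .inr (.inr h.cy), .inr (.inr (by
    rw [← map_conj, Ce, ← cj_centralizer_singleton]
    refine cj_le_of_le_of_mem h.cy (mem_nr_DD h.inj h.nor ?_ ?_) <;> rw [map_conj]
    exacts [by rw [z3.2.2.2.2.2.1, map_inv]; exact inv_mem z0_mem,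
      z3.2.2.2.2.2.2.symm ▸ z1_mem]))]

omit [Finite G] in
theorem cy_mem {g : G} (hg : g ∈ Ce (φ (z0 * z1))) : g ∈ DD φ ∨ g * s ∈ DD φ := by
  have key : ∀ x ∈ Ce (φ (z0 * z1)), x ∈ φ.range → x ∈ DD φ := by
    rintro _ hx ⟨k, rfl⟩
    exact ((k_all k).2.2.2.1 (h.comm hx)).imp map_mem_Ce map_mem_Ce
  exact (h.nD g (h.cy hg)).imp (key g hg) (key _ (mul_mem hg h.sy))

theorem not_conj_y (g : G) : g * φ (z0 * z1) * g⁻¹ ∉ zpowers (φ z0) := fun e => by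
  obtain ⟨k, h1, h2⟩ := k_five
  have h3 : g⁻¹ * φ k * g⁻¹⁻¹ ∈ Ce (φ (z0 * z1)) := by
    simpa [mul_assoc] using
      conj_mem_Ce (Ce_symm (zpowers_le_of_mem (Ce_symm (map_mem_Ce h1)) e)) g⁻¹
  have h4 : (g⁻¹ * φ k * g⁻¹⁻¹) ^ 2 ∈ DD φ := (h.cy_mem h3).elim (pow_mem · 2) fun e => by
    simpa [sq, mul_assoc, ← mul_assoc s s, h.ss] using
      mul_mem e (conj_mem_of_mem_normalizer (h.cy h.sy) e)
  have := (h.cases_D h4).1
  rw [← pow_mul, conj_pow, conj_eq_one_iff] at this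
  exact h2 (h.inj (by rw [map_pow, map_one, show 18 = 2 * 3 * 3 from rfl, pow_mul, this, one_pow]))

theorem sylU : IsSyl 3 (zpowers (φ z0)) (Ce (φ u0)) := by
  refine isSyl_zpowers (map_mem_Ce kv.2.2.2.2.2.2.2.2.2.2.2.1) h.ordZ fun g hg ⟨n, hn⟩ => ?_
  obtain ⟨k, rfl⟩ := h.pull hg.2
  obtain ⟨h1, h2, -⟩ := (k_all k).2.2.2.2.1 (h.comm hg.1) (h.comm hg.2)
  simpa [mem_zp3 (map_cube z3.1), ← h.inj.eq_iff] using
    h2 (pow_of_six (q := 2) h1 (h.inj (by rw [map_pow, hn, map_one])) (by decide))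

theorem no_uy (g : G) : g * φ u0 * g⁻¹ ∉ Ce (φ (z0 * z1)) := fun e => by
  have h1 : g⁻¹ * φ (z0 * z1) * g⁻¹⁻¹ ∈ Ce (φ u0) := by
    simpa [mul_assoc] using conj_mem_Ce (Ce_symm e) g⁻¹
  obtain ⟨c, -, hc⟩ := h.sylU.exists_cj_le (isPGroup_zpowers (k := 1) (by
    rw [pow_one, conj_pow, map_cube (by decide +kernel)]; simp)) (zpowers_le_of_mem h1)
  exact h.not_conj_y (c * g⁻¹) (by simpa [mul_assoc] using hc (conj_mem_cj (mem_zpowers _)))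

theorem not_conj_us : ¬ IsConj (φ u0) s := fun e =>
  let ⟨g, hg⟩ := isConj_iff.1 e; h.no_uy g (hg ▸ h.sy)

theorem conj_t : IsConj (φ u0) (φ (xx 1)) := by
  obtain ⟨k, hk⟩ := h.pull (h.sz' ▸ conj_mem_Ce (mem_Ce'.2 ((map_conj _ _).trans
    (congrArg φ z3.2.2.2.2.2.2))) s)
  obtain ⟨m, rfl⟩ := (k_all k).2.2.2.2.2.2 (h.comm (hk ▸ h.sz' ▸ conj_mem_Ce (mem_Ce'.2
    ((map_conj _ _).trans (congrArg φ z3.2.2.2.2.2.2))) s))
    (h.inj (by rw [map_pow, hk, conj_pow, sq, ← map_mul, kv.2.2.2.2.2.2.2.2.2.2.2.2.2.2.2.1]; simp))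
    (fun e => kv.2.2.2.2.2.2.2.2.2.2.2.2.2.2.2.2.1 (h.inj (by simpa [e] using hk.symm)))
  exact (φ.map_isConj (isConj_iff.2 ⟨m, rfl⟩)).trans (hk ▸ (isConj_iff.2 ⟨s, rfl⟩).symm.trans
    (φ.map_isConj (isConj_iff.2 ⟨_, kv.2.2.2.2.2.2.2.2.2.2.2.2.2.2.2.2.2⟩)))

theorem burn : (∀ x ∈ Ce (φ u0) ⊓ Ce (φ v0), ¬ 3 ∣ orderOf x → x ∈ opp 3 (Ce (φ u0) ⊓ Ce (φ v0))) ∧
    ∀ L : Subgroup G, zpowers (φ z0) ≤ L → opp 3 (Ce (φ u0) ⊓ Ce (φ v0)) ≤ L →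
      Ce (φ u0) ⊓ Ce (φ v0) ≤ L := by
  refine H87.burnside_dec (h.sylU.of_le (le_inf h.sylU.le (zpowers_le_of_mem
    (map_mem_Ce kv.2.2.2.2.2.2.2.2.2.2.2.2.1))) inf_le_left) fun g hg => ?_
  obtain ⟨k, rfl⟩ := h.nor.le hg.2
  rw [H42.Ree.cens_zpowers]
  exact map_mem_Ce ((k_all k).2.2.2.2.2.1 (h.comm hg.1.1) (h.comm hg.1.2)).1

theorem D_nr : DD φ ≤ nr (opp 3 (Ce (φ u0) ⊓ Ce (φ v0))) := by
  refine le_trans ?_ ((normalizer_le_normalizer_centralizer (V4 (φ u0) (φ v0))).trans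
    (Pair.cens_V4 (t := φ u0) (u := φ v0) ▸ normalizer_le_normalizer_opp _))
  intro x hx
  obtain ⟨a, ha, b, hb, rfl⟩ := mem_DD h.inj h.nor hx
  have h0 : φ z0 ∈ nr (V4 (φ u0) (φ v0)) := H42.Ree.cens_le_nor _ (Pair.cens_V4.ge
    ⟨map_mem_Ce kv.2.2.2.2.2.2.2.2.2.2.2.1, map_mem_Ce kv.2.2.2.2.2.2.2.2.2.2.2.2.1⟩)
  have h1 : φ z1 ∈ nr (V4 (φ u0) (φ v0)) := mem_normalizer_of_cj_le (by
    rw [H42.Ree.cj_V4, map_conj, map_conj, kv.2.2.2.2.2.2.2.2.2.2.2.2.2.1,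
      kv.2.2.2.2.2.2.2.2.2.2.2.2.2.2.1, map_mul]
    exact V4_le (right_mem_V4 _ _) (H42.Ree.mul_mem_V4 _ _))
  exact map_mul φ a b ▸ mul_mem (zpowers_le_of_mem h0 (by
    simpa [mem_zp3 (map_cube z3.1), ← h.inj.eq_iff] using ha)) (zpowers_le_of_mem h1
    (by simpa [mem_zp3 (map_cube z3.2.1), ← h.inj.eq_iff] using hb))

/-- Coprime generation under `D`. -/
theorem gen_D {R L : Subgroup G} (h1 : (Nat.card R).Coprime 3) (h2 : DD φ ≤ nr R)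
    (h3 : R ⊓ Ce (φ z0) ≤ L) (h4 : R ⊓ Ce (φ z1) ≤ L) : R ≤ L := by
  have : IsMulCommutative (DD φ) := ⟨⟨fun a b => Subtype.ext (mem_Ce.1 ((h.cases_D b.2).2.1 a.2))⟩⟩
  obtain ⟨n, hn⟩ := IsPGroup.iff_card.1 h.syl.isPGroup
  have hc : (Nat.card (DD φ)).Coprime (Nat.card R) := hn ▸ h1.symm.pow_left n
  refine H1.le_of_noncyclic_centralizer_le (fun e => ?_) h2 hc L fun a ha a1 => ?_
  · obtain ⟨⟨g, hg⟩, e⟩ := e.exists_generator
    have key : ∀ a ∈ [1, z0, z0⁻¹], ∀ b ∈ [1, z1, z1⁻¹],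
      ¬ (z0 ∈ [1, a * b, (a * b)⁻¹] ∧ z1 ∈ [1, a * b, (a * b)⁻¹]) := by decide +kernel
    obtain ⟨a, ha, b, hb, rfl⟩ := mem_DD h.inj h.nor hg
    have : ∀ z : K, φ z ∈ DD φ → z ∈ [1, a * b, (a * b)⁻¹] := fun z hz => by
      obtain ⟨n, hn⟩ := e ⟨_, hz⟩
      simpa [← h.inj.eq_iff] using (mem_zp3 (h.cases_D hg).1).1 ⟨n, congrArg Subtype.val hn⟩
    exact key a ha b hb ⟨this _ z0_mem, this _ z1_mem⟩
  rcases (h.cases_D ha).2.2 a1 with e | e | e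
  · exact (inf_le_inf_left R e.le).trans h3
  · exact (inf_le_inf_left R e.le).trans h4
  · refine fun r hr => h3 ⟨hr.1, mem_Ce'.2 (mul_inv_eq_one.1 ?_)⟩
    refine mem_bot.1 ((Subgroup.disjoint_of_coprime_natCard hc).le_bot ⟨(DD φ).mul_mem
      (conj_mem_of_mem_normalizer (e hr.2) z0_mem) (inv_mem z0_mem), ?_⟩)
    simpa [mul_assoc] using mul_mem hr.1 (conj_mem_of_mem_normalizer (h2 z0_mem) (inv_mem hr.1))

theorem not_le_range : ¬ Ce (φ u0) ⊓ Ce (φ v0) ≤ φ.range := fun hC => by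
  obtain ⟨k1, k2, k3, k4, k5, k6, k7, k8, k9, k10, k11, k12, k13, -⟩ := kv
  have hp := h.pair
  have t2 : φ (xx 1) * φ (xx 1) = 1 := by rw [← map_mul, k7, map_one]
  have tU : φ (xx 1) ∈ Ce (φ u0) := map_mem_Ce k8
  obtain ⟨S, hS, hle⟩ := exists_isSyl_le (H := Ce (φ u0)) (hp.isPGroup_V4.to_sup_of_normal_left'
    (isPGroup_zpowers (k := 1) ((sq _).trans t2)) (zpowers_le_of_mem (mem_normalizer_of_cj_le (by
      rw [H42.Ree.cj_V4, mem_Ce'.1 tU, map_conj, k9, map_mul, hp.V4_left]))))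
    (sup_le (hp.V4_le_cen (left_mem_V4 _ _)) (zpowers_le_of_mem tU))
  have vS : φ v0 ∈ S := hle (mem_sup_left (right_mem_V4 _ _))
  have tS : φ (xx 1) ∈ S := hle (mem_sup_right (mem_zpowers _))
  have cv : ∀ g ∈ S, g ∈ Ce (φ v0) → g ∈ V4 (φ u0) (φ v0) := fun g hg hv => by
    obtain ⟨k, rfl⟩ := hC ⟨hS.le hg, hv⟩
    obtain ⟨n, hn⟩ := isPGroup_iff_forall.1 hS.isPGroup _ hg
    obtain ⟨a, b⟩ := (k_all k).2.2.2.2.2.1 (h.comm (hS.le hg)) (h.comm hv)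
    simpa [hp.mem_V4, ← h.inj.eq_iff] using b (pow_of_six (q := 3) ((k_all k).2.2.2.2.1
      (h.comm (hS.le hg)) a).1 (h.inj (by rw [map_pow, hn, map_one])) (by decide))
  have zc : ∀ x ∈ S, (∀ y ∈ S, y * x = x * y) → x = 1 ∨ x = φ u0 := fun x hx hc => by
    rcases hp.mem_V4.1 (cv x hx (mem_Ce.2 (hc _ vS).symm)) with e | e | e | e
    exacts [.inl e, .inr e, absurd (h.inj (by simpa [e] using hc _ tS)) k10,
      absurd (h.inj (by simpa [e] using hc _ tS)) k11]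
  have hG : IsSyl 2 S ⊤ := isSyl_of_isSyl_normalizer (hS.of_le (le_inf le_top le_normalizer)
    fun g hg => mem_Ce'.2 ((zc _ (conj_mem_of_mem_normalizer hg.2 (hle (mem_sup_left
      (left_mem_V4 _ _)))) fun y hy => by
        simpa [mul_assoc] using mem_Ce.1 (conj_mem_Ce (hS.le
          (conj_mem_of_mem_normalizer' hg.2 hy)) g)).resolve_left (by
      simpa using H42.Ree.ne_one_of_two hp.ot)))
  obtain ⟨g, -, hg⟩ := hG.exists_cj_le (isPGroup_zpowers (k := 1) ((sq _).trans h.ss)) le_top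
  replace hg := hg (conj_mem_cj (mem_zpowers s))
  have ns : ∀ x, IsConj (φ u0) x → ∀ c, c * x * c⁻¹ ≠ g * s * g⁻¹ := fun x hx c e =>
    h.not_conj_us (hx.trans (isConj_iff.2 ⟨g⁻¹ * c, by
      rw [mul_assoc g⁻¹, mul_inv_rev, ← mul_assoc, mul_assoc g⁻¹, e]; group⟩))
  have s1 : g * s * g⁻¹ ≠ 1 := fun e => h.not_conj_y 1 (by
    have := h.sz; rw [conj_eq_one_iff.1 e] at this
    have e' : z0 = z1 := h.inj (by simpa using this)
    exact absurd e' (by decide +kernel))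
  have s2 : g * s * g⁻¹ * (g * s * g⁻¹) = 1 := by rw [conj_mul, h.ss]; simp
  have cuv : IsConj (φ u0) (φ v0) := φ.map_isConj (isConj_iff.2 ⟨xx 2, rfl⟩)
  have h4 : Nat.card (centralizer ({⟨φ v0, vS⟩} : Set S)) = 4 := by
    rw [← hp.card_V4, ← Nat.card_congr (subgroupOfEquivOfLe (le_sup_left.trans hle)).toEquiv]
    congr 2
    ext x
    exact ⟨fun e => cv _ x.2 (mem_Ce.2 (congrArg Subtype.val (mem_Ce.1 e))),
      fun e => mem_Ce.2 (Subtype.ext (hp.comm_V4 e (right_mem_V4 _ _)))⟩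
  rcases Cfsg.Agent.S3224.result hS.isPGroup ⟨_, vS⟩ ((orderOf_coe _).symm.trans hp.ou) h4 with
    ⟨n, ⟨e⟩⟩ | e | e
  · obtain ⟨r, σ, hd, hr⟩ := H85.exists_Dih e
    have nr : ∀ x ∈ S, x * x = 1 → x ≠ 1 → x ≠ φ u0 → x ∉ zpowers r := fun x hx a b c d =>
      (zc x hx fun y hy => mul_inv_eq_iff_eq_mul.1 ((hd.conj_mem_zpowers hy d).elim id fun e =>
        e.trans (inv_eq_of_mul_eq_one_right a))).elim b c
    have nv := nr _ vS (by rw [← map_mul, k3, map_one]) (H42.Ree.ne_one_of_two hp.ou) hp.ne.symm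
    have nt := nr _ tS t2 (fun e => k10 (h.inj (by simp [e]))) fun e => k10 (h.inj e ▸ k6)
    have cj2 : ∀ x ∈ S, x ∉ zpowers r → ∀ i : ℤ, ∃ c ∈ S, c * x * c⁻¹ = x * r ^ (2 * i) :=
      fun x a b i => ⟨r ^ (-i), zpow_mem hd.r_mem _, by rw [hd.rot_conj_refl a b ⟨_, rfl⟩]; group⟩
    obtain ⟨_, ⟨i, rfl⟩, ei⟩ := (hd.of_refl vS nv).exists_eq_of_refl tS nt
    obtain ⟨_, ⟨j, rfl⟩, ej⟩ := (hd.of_refl vS nv).exists_eq_of_refl hg
      (nr _ hg s2 s1 fun e => ns _ (IsConj.refl _) 1 (by simp [e]))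
    obtain ⟨c, hc, e1⟩ : ∃ c ∈ S, c * φ v0 * c⁻¹ = φ (xx 1) := by
      rcases Int.even_or_odd' i with ⟨i, rfl | rfl⟩
      · exact ei ▸ cj2 _ vS nv i
      rcases Int.even_or_odd' j with ⟨j, rfl | rfl⟩
      · obtain ⟨c, -, e⟩ := cj2 _ vS nv j
        exact absurd (e.trans ej.symm) (ns _ cuv c)
      · obtain ⟨c, -, e⟩ := cj2 _ tS nt (j - i)
        exact absurd (e.trans (by rw [ej, ei]; group)) (ns _ h.conj_t c)
    have hn : 2 ≤ n := by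
      have := hp.four_dvd (hle (mem_sup_left (left_mem_V4 _ _))) vS
      have := orderOf_pos r
      rw [hd.card] at *; omega
    obtain ⟨N, hN, ho, k, hk⟩ := Cfsg.Agent.S0514.result hG.toSylowTop n hn ⟨e⟩ _ hp.ot
    have nN : ∀ g ∈ Ce (φ u0), ∀ x ∈ N.map (Ce (φ u0)).subtype,
        g * x * g⁻¹ ∈ N.map (Ce (φ u0)).subtype := by
      rintro g hg _ ⟨x, hx, rfl⟩; exact ⟨_, hN.conj_mem x hx ⟨g, hg⟩, rfl⟩
    have zN : φ z0 ∈ N.map (Ce (φ u0)).subtype := zpowers_le_of_mem (g := φ z0 ^ 2 ^ k)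
      (H := N.map (Ce (φ u0)).subtype) ⟨_, hk ▸ N.pow_index_mem ⟨_, map_mem_Ce k12⟩, rfl⟩
      (mem_zpowers_pow_iff.2 (by rw [h.ordZ]; exact Nat.Coprime.pow_left k (by decide)))
    obtain ⟨a, ha, e2⟩ := (h.sylU.of_le (zpowers_le_of_mem zN) (map_subtype_le _)).exists_cj_le
      (isPGroup_zpowers (k := 1) (by rw [pow_one, conj_pow, map_cube z3.1]; simp))
      (zpowers_le_of_mem (nN c (hS.le hc) _ zN))
    have h5 : a * φ (xx 1) * a⁻¹ ∈ Ce (φ z0) := by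
      simpa [← e1, mul_assoc] using conj_mem_of_mem_normalizer (mem_nor_cen (g := a * c) (by
        simpa [mul_assoc] using e2 (conj_mem_cj (mem_zpowers _)))) (map_mem_Ce k13.symm)
    obtain ⟨m, hm⟩ := h.pull h5
    obtain ⟨b1, b2⟩ := ((k_all m).2.2.2.2.1 (h.comm (hm ▸ mul_mem (mul_mem (map_subtype_le _ ha) tU)
      (inv_mem (map_subtype_le _ ha)))) (h.comm (hm ▸ h5))).2.2 (h.inj (by
        rw [map_pow, hm, conj_pow, sq, t2]; simp))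
    have h6 : φ (xx 1 * m) ∈ N.map (Ce (φ u0)).subtype := by
      simpa [hm, mul_assoc, inv_eq_of_mul_eq_one_right t2] using mul_mem (nN _ tU a ha) (inv_mem ha)
    have h7 : orderOf (φ (xx 1 * m)) = 1 := Nat.eq_one_of_dvd_coprimes
      (Nat.Coprime.pow_left 2 (Nat.coprime_two_left.2 (card_map_of_injective (K := N)
        (Ce (φ u0)).subtype_injective ▸ ho))) (orderOf_dvd_of_pow_eq_one (by rw [← map_pow, b2, map_one]))
      (orderOf_dvd_natCard _ h6)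
    have h8 : xx 1 * m = xx 1 * xx 1 := h.inj (by rw [orderOf_eq_one_iff.1 h7, k7, map_one])
    exact k10 (mul_left_cancel h8 ▸ b1)
  · obtain ⟨k, x, y, hq⟩ := H86.exists_QD e
    have ez := (zc _ (hq.x_mem _) fun y => hq.z_comm).resolve_left hq.z_ne_one
    obtain ⟨i, ei⟩ := (hq.eq_of_orderOf_two vS hp.ou).resolve_left fun e => hp.ne (ez ▸ e).symm
    obtain ⟨j, ej⟩ := (hq.eq_of_orderOf_two hg (two_of_sq s2 s1)).resolve_left fun e =>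
      ns _ (IsConj.refl _) 1 (by simp [e, ez])
    obtain ⟨a, ha⟩ := hq.exists_conj_yx (2 * i) (j - i)
    exact ns _ cuv (x ^ a) (by rw [ei, ha, ej]; group)
  · exact k10 (h.inj (by simpa using hp.comm_V4 ((eq_of_le_of_card_ge (le_sup_left.trans hle)
      (by rw [e, hp.card_V4])).ge tS) (right_mem_V4 _ _)))

theorem exists_W : opp 3 (Ce (φ u0) ⊓ Ce (φ v0)) ⊓ Ce (φ z1) ≠ ⊥ := fun e =>
  h.not_le_range (h.burn.2 _ (zpowers_le_of_mem ⟨_, rfl⟩) (h.gen_D (coprime_card_opp _) h.D_nr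
    (fun _ hg => h.pull hg.2) (e ▸ bot_le)))

end Hyp

end H19.A8
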