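import Cfsg.Agent.H19.A8B
import Cfsg.Agent.H59.CharAux

/-! The `3`-local data of `A₈`: the subgroup `A₈` and the centralizer of `(4 5)(6 7)`. -/

set_option autoImplicit false
set_option synthInstance.maxSize 5000

namespace H19.A8

open Subgroup H98 H14 H56.L3 H42.L3
open H42.Ree (Pair V4 V4_le left_mem_V4 right_mem_V4 two_of_sq cj_zpowers mem_nor_cen)

variable {G : Type*} [Group G] {φ : K →* G} {s : G} {ψ : A →* G}

/-- Moore's generators inside `K`. -/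
def κ : Fin 6 → K := ![z0, 1, xx 0, xx 1, xx 2, xx 3]

/-- The subgroup `A₈` has been found. -/
structure Hyp2 (φ : K →* G) (ψ : A →* G) : Prop where
  hyp : Hyp φ (ψ sA)
  inj : Function.Injective ψ
  eq : ∀ j, j ≠ 1 → ψ (g j) = φ (κ j)

theorem range_le (h : ∀ j, j ≠ 1 → ψ (g j) = φ (κ j)) : φ.range ≤ ψ.range := by
  rintro _ ⟨k, rfl⟩
  exact k_gen (ψ.range.comap φ) ⟨_, h 0 (by decide)⟩
    (fun i => ⟨g (i.addNat 2), (h _ (by revert i; decide)).trans (by fin_cases i <;> rfl)⟩) k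

theorem eZ' (h : ∀ j, j ≠ 1 → ψ (g j) = φ (κ j)) : ψ (g 4 * g 5) = φ z1 := by
  rw [map_mul, h 4 (by decide), h 5 (by decide), ← map_mul]; rfl

theorem a4_core (α β : G ≃* G) {x y z : G} (e1 : x * y * z = 1) (h1 : α x = x) (h2 : β y = y)
    (h3 : α (β z) = z) (h4 : α (α (β z)) = β z) (h5 : α (β x) = β (α x)) :
    (β x)⁻¹ * x * ((β x)⁻¹ * x) = 1 := by
  have e2 := congrArg α e1
  have e3 := congrArg β e1
  have e4 := congrArg α e3
  rw [h3] at h4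
  simp only [map_mul, map_one, h1, h2, h3, h5] at e2 e3 e4
  calc _ = (β x)⁻¹ * (x * y) * (β x * y)⁻¹ * x := by group
    _ = 1 := by rw [mul_right_cancel (e1.trans e4.symm), mul_right_cancel (e3.trans (h4 ▸ e2).symm)]
                group

variable [Finite G]

/-- `A₄` acts on an abelian group of odd order. -/
theorem a4_bot {N : Subgroup G} {z a : G} (od : ∀ x ∈ N, x * x = 1 → x = 1)
    (cm : ∀ x ∈ N, ∀ y ∈ N, x * y = y * x) (nz : z ∈ nr N) (na : a ∈ nr N) (z3 : z * z * z = 1)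
    (k6 : a * a = 1) (k7 : z * z * a * (z * z)⁻¹ = a * (z * a * z⁻¹))
    (k8 : a * (z * a * z⁻¹) = z * a * z⁻¹ * a) (hz : ∀ x ∈ N, x ∈ Ce z → x = 1)
    (hab : ∀ x ∈ N, x ∈ Ce a → x ∈ Ce (z * a * z⁻¹) → x = 1) : N = ⊥ := by
  have h6 : N ⊓ Ce a = ⊥ := eq_bot_iff.2 fun x ⟨hx, ha⟩ => hab x hx ha (by
    have x2 := conj_mem_of_mem_normalizer nz hx
    have x3 := conj_mem_of_mem_normalizer (mul_mem nz nz) hx
    have e1 : x * (z * x * z⁻¹) * (z * z * x * (z * z)⁻¹) = 1 :=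
      hz _ (mul_mem (mul_mem hx x2) x3) (Ce_symm (mem_Ce'.2 (by
        rw [← conj_mul, ← conj_mul, mul_assoc x, cm x hx _ (mul_mem x2 x3),
          show z * (z * z * x * (z * z)⁻¹) * z⁻¹ = z * z * z * x * (z * z * z)⁻¹ by group, z3]
        group)))
    have := a4_core (MulAut.conj a) (MulAut.conj (z * a * z⁻¹)) e1 (mem_Ce'.1 (Ce_symm ha))
      (mem_Ce'.1 (Ce_symm (conj_mem_Ce ha z)))
      (by rw [← MulAut.mul_apply, ← map_mul, ← k7]; exact mem_Ce'.1 (Ce_symm (conj_mem_Ce ha _)))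
      (by rw [← MulAut.mul_apply, ← map_mul, k6, map_one, MulAut.one_apply])
      (by rw [← MulAut.mul_apply, ← map_mul, k8, map_mul, MulAut.mul_apply])
    exact Ce_symm (mem_Ce'.2 (inv_mul_eq_one.1 (od _ (mul_mem (inv_mem (conj_mem_of_mem_normalizer
      (mul_mem (mul_mem nz na) (inv_mem nz)) hx)) hx) this))))
  refine eq_bot_iff.2 fun x hx => h6.le ⟨hx, Ce_symm (mem_Ce'.2 ?_)⟩
  have i2 : ∀ c ∈ nr N, ∀ y ∈ N, c * a * c⁻¹ * y * (c * a * c⁻¹)⁻¹ = y⁻¹ := fun c hc y hy => by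
    rw [show c * a * c⁻¹ * y * (c * a * c⁻¹)⁻¹ = c * (a * (c⁻¹ * y * c) * a⁻¹) * c⁻¹ by group,
      H42.Ree.inv_of_fpf k6 na h6 (conj_mem_of_mem_normalizer' hc hy)]; group
  have := i2 _ (mul_mem nz nz) _ (inv_mem hx)
  rw [k7, show ∀ b, a * b * x⁻¹ * (a * b)⁻¹ = a * (b * x⁻¹ * b⁻¹) * a⁻¹ from fun b => by group,
    i2 z nz _ (inv_mem hx)] at this
  simpa using this

theorem Hyp.exists_e (h : Hyp φ s) : ∃ E : G, E ^ 2 = 1 ∧ (φ z0 * E) ^ 3 = 1 ∧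
    (E * φ (xx 0)) ^ 3 = 1 ∧ ∀ j : Fin 6, 2 < j → E ∈ Ce (φ (κ j)) := by
  let χ : K →* G := (MulAut.conj s).toMonoidHom.comp φ
  have hi : Function.Injective χ := (MulAut.conj s).injective.comp h.inj
  have e0 : χ z0 = φ z1 := h.sz
  have e1 : χ z1 = φ z0 := h.sz'
  have pl : ∀ x, x * φ z1 * x⁻¹ ∈ zpowers (φ z1) → ∃ k, χ k = x := fun x hx => by
    obtain ⟨k, hk⟩ := h.nor.le (mem_Nz.2 (show s⁻¹ * x * s * φ z0 * (s⁻¹ * x * s)⁻¹ ∈ _ by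
      rw [← h.sz, ← cj_zpowers, mem_cj] at hx; simpa [mul_assoc] using hx))
    exact ⟨k, by simp [χ, hk, mul_assoc]⟩
  let W := opp 3 (Ce (φ u0) ⊓ Ce (φ v0)) ⊓ Ce (φ z1)
  have nW : φ z0 ∈ nr W := le_normalizer_inf h.D_nr (inf_le_right.trans le_normalizer) z0_mem
  obtain ⟨e, he, he'⟩ := k_four (W.comap χ) (fun w hw => hi (by simpa [e0] using mem_Ce.1 hw.2))
    (fun w hw => by simpa [e1] using conj_mem_of_mem_normalizer nW hw)
    (fun w hw h3 => hi (by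
      rw [map_one, ← orderOf_eq_one_iff]
      exact Nat.eq_one_of_dvd_coprimes (coprime_card_opp _) (orderOf_dvd_natCard _ hw.1)
        (orderOf_dvd_of_pow_eq_one (by rw [← map_pow, h3, map_one]))))
    fun e => h.exists_W (eq_bot_iff.2 fun x hx => by
      obtain ⟨k, rfl⟩ := pl x ((mem_Ce'.1 hx.2).symm ▸ mem_zpowers _)
      rw [mem_bot.1 (e.le hx), map_one]; exact one_mem _)
  have kk : xx 0 ^ 2 = 1 ∧ xx 2 * z1 * (xx 2)⁻¹ = z1⁻¹ ∧ xx 2 * z0 * (xx 2)⁻¹ = z0⁻¹ ∧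
    xx 2 ^ 2 = 1 ∧ xx 0 * xx 2 = xx 2 * xx 0 ∧ xx 3 = xx 2 * z1 ∧ xx 1 = u0 * (xx 2 * z1) := by
    decide +kernel
  obtain ⟨k1, k2, k3, k4, k5, k6, k7⟩ := kk
  obtain ⟨a, ha⟩ := pl (φ (xx 0)) (by rw [map_conj, z3.2.2.2.2.2.2]; exact mem_zpowers _)
  obtain ⟨b, hb⟩ := pl (φ (xx 2)) (by rw [map_conj, k2, map_inv]; exact inv_mem (mem_zpowers _))
  obtain ⟨c, hc, c1, c2, c3, c4⟩ := k_moore a ⟨hi (by
      rw [map_mul, map_mul, ha, e0]; exact mem_Ce.1 (mem_Ce'.2 ((map_conj _ _).trans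
        (congrArg φ z3.2.2.2.2.2.2)))),
    hi (by rw [← map_conj, map_inv, ha, e1, map_conj, z3.2.2.2.2.2.1, map_inv]),
    hi (by rw [map_pow, ha, ← map_pow, k1, map_one, map_one])⟩ b
    ⟨hi (by rw [← map_conj, map_inv, hb, e0, map_conj, k2, map_inv]),
    hi (by rw [← map_conj, map_inv, hb, e1, map_conj, k3, map_inv]),
    hi (by rw [map_pow, hb, ← map_pow, k4, map_one, map_one]),
    hi (by rw [map_mul, map_mul, ha, hb, ← map_mul, k5, map_mul])⟩ e he'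
  have hW : χ c ∈ W := by
    simp only [List.mem_cons, List.not_mem_nil, or_false] at hc
    rcases hc with rfl | rfl | rfl
    exacts [he, by simpa [e1] using conj_mem_of_mem_normalizer nW he,
      by simpa [e1] using conj_mem_of_mem_normalizer' nW he]
  have h4 : φ (xx 2) ∈ Ce (χ c) := hb ▸ map_mem_Ce c4.symm
  have h5 : φ (xx 2 * z1) ∈ Ce (χ c) := map_mul φ _ _ ▸ mul_mem h4 (Ce_symm hW.2)
  refine ⟨χ c, by rw [← map_pow, c1, map_one], by rw [← e1, ← map_mul, ← map_pow, c2, map_one],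
    by rw [← ha, ← map_mul, ← map_pow, c3, map_one], fun j hj => Ce_symm ?_⟩
  fin_cases j <;> simp only [Fin.lt_def] at hj <;> try omega
  exacts [show φ (xx 1) ∈ _ by rw [k7, map_mul]; exact mul_mem (Ce_symm (opp_le _ hW.1).1) h5, h4,
    show φ (xx 3) ∈ _ from k6 ▸ h5]

theorem Hyp.exists_psi (h : Hyp φ s) : ∃ ψ : A →* G, Hyp2 φ ψ := by
  obtain ⟨E, e1, e2, e3, e4⟩ := h.exists_e
  have kk : (∀ i : Fin 6, 1 ≤ i.val → κ i ^ 2 = 1) ∧ ∀ i j : Fin 6, i ≠ 1 → j ≠ 1 →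
      (j.val = i.val + 1 → (κ i * κ j) ^ 3 = 1) ∧ (i.val + 1 < j.val → (κ i * κ j) ^ 2 = 1) := by
    decide +kernel
  have k1 : ∀ i : Fin 6, 1 ≤ i.val → φ (κ i) ^ 2 = 1 := fun i hi => by
    rw [← map_pow, kk.1 i hi, map_one]
  obtain ⟨ψ, hψ⟩ := Moore.exists_hom (fun i : Fin 6 => if i = 1 then E else φ (κ i))
    (fun i hi => by split_ifs; exacts [e1, k1 i hi])
    (fun i hi => by obtain rfl : i = 0 := Fin.ext hi; exact map_cube z3.1)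
    (fun i j hij => by
      split_ifs with a b b
      · omega
      · obtain rfl : j = 2 := Fin.ext (by omega); exact e3
      · obtain rfl : i = 0 := Fin.ext (by omega); exact e2
      · rw [← map_mul, ← map_pow, (kk.2 i j a b).1 hij, map_one])
    (fun i j hij => by
      split_ifs with a b b
      · omega
      · rw [Commute.mul_pow (mem_Ce.1 (e4 j (by omega))), e1, k1 j (by omega), one_mul]
      · omega
      · rw [← map_mul, ← map_pow, (kk.2 i j a b).2 hij, map_one])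
  have he : ∀ j, j ≠ 1 → ψ (g j) = φ (κ j) := fun j hj => (hψ j).trans (if_neg hj)
  have hs : ψ sA * φ z0 * (ψ sA)⁻¹ = φ z1 := by
    rw [← eZ' he, show φ z0 = ψ (g 0) from (he 0 (by decide)).symm, ← map_inv, ← map_mul, ← map_mul]
    exact congrArg ψ (by decide +kernel)
  have := alternatingGroup.isSimpleGroup (α := Fin 8) (by simp)
  refine ⟨ψ, ⟨h.inj, h.nor, h.syl, by rw [← map_mul, H42.Ree.sq_of_two ord_sA, map_one], hs,
    fun x hx => (h.nD x hx).imp_right fun e => ?_, h.cy⟩, (MonoidHom.ker_eq_bot_iff ψ).1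
    ((ψ.normal_ker.eq_bot_or_eq_top).resolve_right fun e => z3.2.2.2.1 (h.inj ?_)), he⟩
  · have : s⁻¹ * ψ sA ∈ φ.range := h.pull (mem_Ce'.2 (by
      rw [mul_inv_rev, mul_assoc s⁻¹, ← mul_assoc, mul_assoc s⁻¹, hs, ← h.sz]; group))
    simpa [mul_assoc] using mul_mem e this
  · rw [map_one]; exact (he 0 (by decide)).symm.trans (e.ge (mem_top (g 0)))

namespace Hyp2

variable (h : Hyp2 φ ψ)
include h

omit [Finite G] in
theorem eU : ψ uA = φ u0 := by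
  rw [uA_eq.1, map_mul, h.eq 3 (by decide), h.eq 5 (by decide), ← map_mul]; rfl

omit [Finite G] in
theorem eV : ψ vA = φ v0 := by
  rw [uA_eq.2, map_mul, map_mul, map_inv, h.eq 4 (by decide), h.eU, map_conj]; rfl

omit [Finite G] in
theorem eZ : ψ (g 0) = φ z0 := h.eq 0 (by decide)

theorem cZ : Ce (φ z0) ≤ ψ.range := fun _ hx => range_le h.eq (h.hyp.pull hx)

theorem cZ' : Ce (φ z1) ≤ ψ.range := by
  rw [← h.hyp.sz, Ce, ← cj_centralizer_singleton]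
  exact cj_le_of_le_of_mem h.cZ ⟨_, rfl⟩

omit [Finite G] in
theorem nD : nr (DD φ) ≤ ψ.range := fun x hx => (h.hyp.nD x hx).elim (range_le h.eq ·) fun e =>
  (ψ.range.mul_mem_cancel_right ⟨_, rfl⟩).1 (range_le h.eq e)

theorem se {x g : G} (hx : x ∈ ψ.range) (ho : orderOf x = 3) (hg : g * x * g⁻¹ ∈ ψ.range) :
    g ∈ ψ.range :=
  se_ab h.hyp.syl (fun _ ha _ hb => mem_Ce.1 ((h.hyp.cases_D ha).2.1 hb)) le_top
    (inf_le_right.trans h.nD) (fun _ ha h1 => inf_le_right.trans (((h.hyp.cases_D ha).2.2 h1).elim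
      (·.le.trans h.cZ) (·.elim (·.le.trans h.cZ') (·.trans h.nD)))) hx ho trivial hg

theorem cV : Ce (φ u0) ⊓ Ce (φ v0) ≤ ψ.range :=
  h.hyp.burn.2 _ (zpowers_le_of_mem ⟨_, h.eZ⟩) (h.hyp.gen_D (coprime_card_opp _) h.hyp.D_nr
    (inf_le_right.trans h.cZ) (inf_le_right.trans h.cZ'))

theorem nV {g : G} (h1 : g * φ u0 * g⁻¹ ∈ V4 (φ u0) (φ v0))
    (h2 : g * φ v0 * g⁻¹ ∈ V4 (φ u0) (φ v0)) : g ∈ ψ.range := by
  have h3 : g ∈ nr (V4 (φ u0) (φ v0)) :=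
    mem_normalizer_of_cj_le (by rw [H42.Ree.cj_V4]; exact V4_le h1 h2)
  exact h.se ⟨_, h.eZ⟩ h.hyp.ordZ (h.cV (Pair.cens_V4.le (conj_mem_of_mem_normalizer
    (normalizer_le_normalizer_centralizer _ h3) (Pair.cens_V4.ge
    ⟨map_mem_Ce kv.2.2.2.2.2.2.2.2.2.2.2.1, map_mem_Ce kv.2.2.2.2.2.2.2.2.2.2.2.2.1⟩))))

theorem conj_u (x : A) (e : IsConj (ψ uA) (ψ x)) : IsConj uA x := by
  obtain ⟨c, hc⟩ := isConj_iff.1 e
  refine (inv_cases ?_).resolve_right fun f => h.hyp.not_conj_us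
    (h.eU ▸ e.trans (ψ.map_isConj f).symm)
  rw [← orderOf_injective ψ h.inj, ← hc, H42.Ree.orderOf_conj, h.eU, h.hyp.pair.ot]

theorem isolated {g : G} (hg : g ∈ Ce (φ u0))
    (e : g * φ v0 * g⁻¹ * φ v0 * (g * φ v0 * g⁻¹)⁻¹ = φ v0 ∨
      g * φ v0 * g⁻¹ * φ v0 * (g * φ v0 * g⁻¹)⁻¹ = φ v0 * φ u0) :
    g * φ v0 * g⁻¹ = φ v0 ∨ g * φ v0 * g⁻¹ = φ v0 * φ u0 := by
  have hp := h.hyp.pair
  have vu : φ v0 * φ u0 ∈ V4 (φ u0) (φ v0) := mul_mem (right_mem_V4 _ _) (left_mem_V4 _ _)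
  have h1 : g * φ v0 * g⁻¹ ∈ Ce (φ u0) := mul_mem (mul_mem hg (mem_Ce.2 hp.comm.symm)) (inv_mem hg)
  obtain ⟨k, hk⟩ := h.nV ((mem_Ce'.1 h1).symm ▸ left_mem_V4 _ _)
    (e.elim (·.symm ▸ right_mem_V4 _ _) (·.symm ▸ vu))
  have c1 : IsConj (φ u0) (φ v0) := φ.map_isConj (isConj_iff.2 ⟨z1, kv.2.2.2.2.2.2.2.2.2.2.2.2.2.1⟩)
  have c2 : IsConj (φ v0) (φ v0 * φ u0) := by
    rw [← hp.comm, ← map_mul]
    exact φ.map_isConj (isConj_iff.2 ⟨z1, kv.2.2.2.2.2.2.2.2.2.2.2.2.2.2.1⟩)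
  have h2 : g * (φ v0 * φ u0) * g⁻¹ = ψ k * φ u0 := by rw [← conj_mul, mem_Ce'.1 hg, hk]
  rcases a_u (h.inj (by rw [map_mul, map_mul, hk, h.eU]; exact mem_Ce.1 h1))
    (h.conj_u k (h.eU ▸ c1.trans (isConj_iff.2 ⟨g, hk.symm⟩))) (h.conj_u _ (by
      rw [map_mul, h.eU]; exact (c1.trans c2).trans (isConj_iff.2 ⟨g, h2⟩))) with
    rfl | rfl | ⟨x, x1, x2, x3⟩
  · exact .inl (hk.symm.trans h.eV)
  · exact .inr (by rw [← hk, map_mul, h.eU, h.eV])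
  replace x2 := congrArg ψ x2
  replace x3 := congrArg ψ x3
  simp only [map_mul, map_inv, h.eU] at x2 x3
  have e' : ∀ y, g⁻¹ * ψ x * g⁻¹⁻¹ * y * (g⁻¹ * ψ x * g⁻¹⁻¹)⁻¹ =
    g⁻¹ * (ψ x * (g * y * g⁻¹) * (ψ x)⁻¹) * g := fun y => by group
  have h3 : g⁻¹ ∈ ψ.range := h.se ⟨x, rfl⟩ (orderOf_eq_prime (by rw [← map_pow, x1, map_one])
    fun e => H42.Ree.ne_one_of_two hp.ot (by simpa [e] using x3)) (h.nV
      (by
        rw [e' (φ u0), mem_Ce'.1 hg, x2, hk]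
        simpa [mul_assoc] using right_mem_V4 _ _)
      (by
        rw [e' (φ v0), ← hk, x3, ← h2]
        simpa [mul_assoc] using vu))
  obtain ⟨m, rfl⟩ := (inv_mem_iff (H := ψ.range)).1 h3
  simpa [← h.inj.eq_iff, h.eU, h.eV] using
    a_v (k := m) (h.inj (by rw [map_mul, map_mul, h.eU]; exact mem_Ce.1 hg))

/-- An odd order normal subgroup of `C(u)` is trivial. -/
theorem odd_bot {N : Subgroup G} (h1 : N ≤ Ce (φ u0)) (h2 : Ce (φ u0) ≤ nr N)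
    (h3 : Odd (Nat.card N)) : N = ⊥ := by
  have kk : g 1 * uA = uA * g 1 ∧ (g 1 * g 0 * (g 1)⁻¹ * (g 0)⁻¹) ^ 2 = 1 ∧
      g 1 * g 0 * (g 1)⁻¹ * (g 0)⁻¹ ≠ 1 ∧ sA * (g 3 * g 4) * uA * (sA * (g 3 * g 4))⁻¹ = g 1 ∧
      sA * (g 3 * g 4) * vA * (sA * (g 3 * g 4))⁻¹ = g 0 * g 1 * (g 0)⁻¹ ∧ g 1 * g 1 = 1 ∧
      g 0 * g 0 * g 1 * (g 0 * g 0)⁻¹ = g 1 * (g 0 * g 1 * (g 0)⁻¹) ∧
      g 1 * (g 0 * g 1 * (g 0)⁻¹) = g 0 * g 1 * (g 0)⁻¹ * g 1 := by decide +kernel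
  obtain ⟨k1, k2, k3, k4, k5, k6, k7, k8⟩ := kk
  have od : ∀ x ∈ N, x * x = 1 → x = 1 := fun x hx =>
    H42.Ree.eq_one_of_odd_of_sq (H42.Ree.odd_orderOf_of_mem h3 hx)
  have na : ψ (g 1) ∈ nr N := h2 (mem_Ce.2 (by rw [← h.eU, ← map_mul, k1, map_mul]))
  have nz : ψ (g 0) ∈ nr N := h.eZ ▸ h2 (h.hyp.sylU.le (mem_zpowers _))
  have h4 : (Nat.card N).Coprime 3 := coprime_of_inf h.hyp.sylU h1 (h.hyp.sylU.le.trans h2)
    (eq_bot_iff.2 fun x hx => mem_bot.2 (by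
      by_contra h0
      have : ψ (g 0) ∈ N := by
        rcases (mem_zp3 (map_cube z3.1)).1 hx.1 with e | e | e
        exacts [absurd e h0, h.eZ ▸ e ▸ hx.2, h.eZ ▸ inv_mem_iff.1 (e ▸ hx.2)]
      refine k3 (h.inj ((od _ ?_ (by rw [← map_mul, ← sq, k2, map_one])).trans ψ.map_one.symm))
      simpa using mul_mem (conj_mem_of_mem_normalizer na this) (inv_mem this)))
  have h5 : ∀ x ∈ N, x ∈ ψ.range → x = 1 := by
    rintro _ hx ⟨k, rfl⟩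
    refine orderOf_eq_one_iff.1 (Nat.eq_one_of_dvd_coprimes (Nat.Coprime.mul_right
      ((Nat.coprime_two_right.2 h3).pow_right 6) h4) (orderOf_dvd_natCard _ hx)
      (orderOf_dvd_of_pow_eq_one ?_))
    rw [← map_pow, show 2 ^ 6 * 3 = 192 from rfl,
      pow_cen_uA (h.inj (by rw [map_mul, map_mul, h.eU]; exact mem_Ce.1 (h1 hx))), map_one]
  have cm : ∀ x ∈ N, ∀ y ∈ N, x * y = y * x := fun x hx y hy => H42.Ree.comm_of_inv
    (fun y hy => H42.Ree.inv_of_fpf (H42.Ree.sq_of_two h.hyp.pair.ou)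
      (h2 (mem_Ce.2 h.hyp.pair.comm.symm))
      (eq_bot_iff.2 fun x hx => h5 x hx.1 (h.cV ⟨h1 hx.1, hx.2⟩)) hy) hx hy
  have z3' : ψ (g 0) * ψ (g 0) * ψ (g 0) = 1 := by rw [← pow_three', h.eZ, map_cube z3.1]
  replace k6 := congrArg ψ k6
  replace k7 := congrArg ψ k7
  replace k8 := congrArg ψ k8
  simp only [map_mul, map_inv, map_one] at k6 k7 k8
  have cab : Ce (ψ (g 1)) ⊓ Ce (ψ (g 0) * ψ (g 1) * (ψ (g 0))⁻¹) ≤ ψ.range := by
    rw [← map_inv, ← map_mul, ← map_mul, ← k5]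
    nth_rewrite 1 [← k4]
    simp only [map_mul ψ _ uA, map_mul ψ _ vA, map_mul ψ _ _⁻¹, map_inv, h.eU, h.eV, Ce,
      ← cj_centralizer_singleton, ← cj_inf]
    exact cj_le_of_le_of_mem h.cV ⟨_, rfl⟩
  exact a4_bot od cm nz na z3' k6 k7 k8 (fun x hx e => h5 x hx (h.cZ (h.eZ ▸ e)))
    fun x hx e f => h5 x hx (cab ⟨e, f⟩)

theorem cU : Ce (φ u0) ≤ ψ.range := fun g hg => by
  have hp := h.hyp.pair
  obtain ⟨O, h1, h2, ⟨m, hm, h3⟩, h4⟩ := H59.zstar_mod (B := Ce (φ u0)) (H42.Ree.sq_of_two hp.ot)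
    (mem_Ce.2 rfl) (fun g hg => (mem_Ce.1 hg).symm) (H42.Ree.sq_of_two hp.ou)
    (mem_Ce.2 hp.comm.symm) (H42.Ree.ne_one_of_two hp.ou) hp.ne.symm fun g hg => h.isolated hg
  obtain ⟨c, hc, o, ho, rfl, e⟩ := h4 g hg
  have h5 : IsSyl 2 (O ⊓ zpowers (φ u0)) O := ⟨inf_le_left, (isPGroup_zpowers (k := 1)
    ((sq _).trans (H42.Ree.sq_of_two hp.ot))).to_inf_right, fun Q hQ a b =>
      le_antisymm (fun x hx => ⟨b hx, by
        obtain ⟨n, hn⟩ := isPGroup_iff_forall.1 hQ x hx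
        refine zpowers_le_of_mem (g := x ^ m) (H := zpowers (φ u0))
          ((h3 x (b hx)).elim (·.symm ▸ one_mem _) (·.symm ▸ mem_zpowers _))
          (mem_zpowers_pow_iff.2 (((Nat.coprime_two_right.2 hm).pow_right n).coprime_dvd_right
            (orderOf_dvd_of_pow_eq_one hn)))⟩) a⟩
  refine mul_mem (h.nV ((mem_Ce'.1 hc).symm ▸ left_mem_V4 _ _) (e.elim (·.symm ▸ right_mem_V4 _ _)
    (·.symm ▸ mul_mem (right_mem_V4 _ _) (left_mem_V4 _ _)))) ((H87.burnside_dec h5 fun x hx =>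
      centralizer_le inf_le_right ((H42.Ree.cens_zpowers (φ u0)).ge (h1 hx.1))).2 ψ.range
      (inf_le_right.trans (zpowers_le_of_mem ⟨_, h.eU⟩)) ?_ ho)
  rw [h.odd_bot ((opp_le O).trans h1) (le_trans (fun x hx => mem_normalizer_of_cj_le (by
    rintro _ ⟨y, hy, rfl⟩; exact h2 x hx y hy)) (normalizer_le_normalizer_opp O))
    (H10.W.odd_card_opp O)]
  exact bot_le

end Hyp2

end H19.A8
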