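import Cfsg.Agent.H19.Moore

/-! Finite facts on `A₈` and on the normalizer of a `3`-cycle in it. -/

set_option autoImplicit false
set_option synthInstance.maxSize 5000
set_option synthInstance.maxHeartbeats 200000

namespace H19.A8

open Equiv Moore

attribute [local instance 2000] List.decidableBAll List.decidableBEx

/-- The even elements of `S₃ × S₅`. -/
abbrev K := ((Perm.sign.comp (MonoidHom.fst (Perm (Fin 3)) (Perm (Fin 5)))) *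
  (Perm.sign.comp (MonoidHom.snd (Perm (Fin 3)) (Perm (Fin 5))))).ker

/-- the `3`-cycle -/
def z0 : K := ⟨(swap 0 1 * swap 1 2, 1), by decide⟩

/-- the Moore generators -/
def xx (i : Fin 4) : K := ⟨(swap 0 1, H75.adjSwap i), by revert i; decide⟩

/-- the second `3`-cycle -/
def z1 : K := xx 2 * xx 3

/-- `(4 5)(6 7)` -/
def u0 : K := xx 1 * xx 3

/-- `(4 6)(5 7)` -/
def v0 : K := xx 2 * u0 * (xx 2)⁻¹

theorem k_all : ∀ k : K, (k.1.2 = 1 → k = 1 ∨ k = z0 ∨ k = z0⁻¹) ∧ (k ^ 3 = 1 → k ≠ 1 →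
    (∀ i, xx i * k * (xx i)⁻¹ * k = k * (xx i * k * (xx i)⁻¹)) → k = z0 ∨ k = z0⁻¹) ∧
    (k * z0 = z0 * k → k * z1 = z1 * k → ∃ a ∈ [1, z0, z0⁻¹], ∃ b ∈ [1, z1, z1⁻¹], k = a * b) ∧
    (k * (z0 * z1) = z0 * z1 * k → k * z0 = z0 * k ∧ k * z1 = z1 * k) ∧
    (k * u0 = u0 * k → k * z0 = z0 * k → k ^ 6 = 1 ∧ (k ^ 3 = 1 → k = 1 ∨ k = z0 ∨ k = z0⁻¹) ∧
      (k ^ 2 = 1 → k * v0 = v0 * k ∧ (xx 1 * k) ^ 4 = 1)) ∧
    (k * u0 = u0 * k → k * v0 = v0 * k → k * z0 = z0 * k ∧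
      (k ^ 2 = 1 → k = 1 ∨ k = u0 ∨ k = v0 ∨ k = u0 * v0)) ∧
    (k * z0 = z0 * k → k ^ 2 = 1 → k ≠ 1 → ∃ m, m * u0 * m⁻¹ = k) := by
  decide +kernel

theorem k_gen (H : Subgroup K) (h0 : z0 ∈ H) (h1 : ∀ i, xx i ∈ H) (k : K) : k ∈ H := by
  have e : ∀ τ ∈ Subgroup.closure (Set.range (H75.adjSwap (n := 4))), ∃ a ∈ H, a.1.2 = τ :=
    fun τ hτ => Subgroup.mem_map.1 ((Subgroup.closure_le
      (H.map ((MonoidHom.snd _ _).comp K.subtype))).2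
      (by rintro _ ⟨i, rfl⟩; exact ⟨_, h1 i, rfl⟩) hτ)
  obtain ⟨a, ha, e⟩ := e k.1.2 (H75.adjSwap_closure 4 ▸ trivial)
  rw [← H.mul_mem_cancel_left (inv_mem ha)]
  rcases (k_all (a⁻¹ * k)).1 (by simp [e]) with e | e | e <;> rw [e]
  exacts [one_mem _, h0, inv_mem h0]

theorem k_norm (k : K) (h3 : k ^ 3 = 1) (h : k.1.2 ≠ 1) : ∃ m : K, (m * k * m⁻¹).1.2 = z1.1.2 := by
  have : ∀ b : Perm (Fin 5), b ^ 3 = 1 → b ≠ 1 → ∃ c, c * b * c⁻¹ = z1.1.2 := by decide +kernel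
  obtain ⟨c, hc⟩ := this k.1.2 (congrArg (·.1.2) h3) h
  rcases Int.units_eq_one_or (Perm.sign c) with s | s
  · exact ⟨⟨(1, c), by simp [s]⟩, hc⟩
  · exact ⟨⟨(swap 0 1, c), by simp [s]⟩, hc⟩

theorem k_card :
    (Finset.univ.filter fun k : K => k * z1 * k⁻¹ * z1 = z1 * (k * z1 * k⁻¹)).card = 36 := by
  decide +kernel

theorem k_five : ∃ k : K, k * z0 = z0 * k ∧ k ^ 18 ≠ 1 :=
  ⟨xx 0 * xx 1 * (xx 2 * xx 3), by decide +kernel⟩

theorem k_four (W : Subgroup K) (hz : ∀ w ∈ W, w * z0 = z0 * w) (h1 : ∀ w ∈ W, z1 * w * z1⁻¹ ∈ W)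
    (h3 : ∀ w ∈ W, w ^ 3 = 1 → w = 1) (hW : W ≠ ⊥) :
    ∃ e ∈ W, e * z0 = z0 * e ∧ e ^ 2 = 1 ∧ e ≠ 1 ∧ (z1 * e) ^ 3 = 1 := by
  have key : ∀ e : K, e * z0 = z0 * e → ((e ^ 2) ^ 3 = 1 ∨ (e ^ 5) ^ 3 = 1) ∧ (e ≠ 1 →
      (e ^ 5 = 1 → ∃ w ∈ [e, e⁻¹, e * e], (w * (z1 * e * z1⁻¹)) ^ 3 = 1 ∧ w * (z1 * e * z1⁻¹) ≠ 1) ∧
      (e ^ 2 = 1 → e * (z1 * e * z1⁻¹) ≠ 1 ∧ ((z1 * e) ^ 3 = 1 ∨ (e * (z1 * e * z1⁻¹)) ^ 3 = 1 ∨
        (e * (z1 * e * z1⁻¹)) ^ 5 = 1))) := by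
    decide +kernel
  have h5 : ∀ e ∈ W, e ^ 5 = 1 → e = 1 := fun e he h => by
    by_contra h0
    obtain ⟨w, hw, a, b⟩ := ((key e (hz e he)).2 h0).1 h
    refine b (h3 _ (mul_mem ?_ (h1 e he)) a)
    simp only [List.mem_cons, List.not_mem_nil, or_false] at hw
    rcases hw with rfl | rfl | rfl
    exacts [he, inv_mem he, mul_mem he he]
  obtain ⟨⟨e, he⟩, h0⟩ := (W.ne_bot_iff_exists_ne_one).1 hW
  replace h0 : e ≠ 1 := fun h => h0 (Subtype.ext h)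
  obtain ⟨a, b⟩ := key e (hz e he)
  have h2 : e ^ 2 = 1 := a.elim (h3 _ (pow_mem he 2)) fun h => absurd (h5 e he (h3 _ (pow_mem he 5) h)) h0
  obtain ⟨c, d⟩ := (b h0).2 h2
  exact ⟨e, he, hz e he, h2, h0, d.elim id fun d => absurd (d.elim (h3 _ (mul_mem he (h1 e he)))
    (h5 _ (mul_mem he (h1 e he)))) c⟩

theorem k_moore : ∀ a : K, a * z0 = z0 * a ∧ a * z1 * a⁻¹ = z1⁻¹ ∧ a ^ 2 = 1 →
    ∀ b : K, b * z0 * b⁻¹ = z0⁻¹ ∧ b * z1 * b⁻¹ = z1⁻¹ ∧ b ^ 2 = 1 ∧ a * b = b * a →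
    ∀ e : K, e * z0 = z0 * e ∧ e ^ 2 = 1 ∧ e ≠ 1 ∧ (z1 * e) ^ 3 = 1 →
    ∃ c ∈ [e, z1 * e * z1⁻¹, z1⁻¹ * e * z1], c ^ 2 = 1 ∧ (z1 * c) ^ 3 = 1 ∧ (c * a) ^ 3 = 1 ∧
      c * b = b * c := by
  decide +kernel

/-- The alternating group of degree eight. -/
abbrev A := alternatingGroup (Fin 8)

/-- Moore's generators -/
abbrev g (i : Fin 6) : A := gen (m := 6) i

/-- `(4 5)(6 7)` -/
def uA : A := ⟨swap 4 5 * swap 6 7, Perm.mem_alternatingGroup.2 (by decide)⟩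

/-- `(4 6)(5 7)` -/
def vA : A := ⟨swap 4 6 * swap 5 7, Perm.mem_alternatingGroup.2 (by decide)⟩

/-- `(0 5)(1 6)(2 7)(3 4)` -/
def sA : A := ⟨swap 0 5 * swap 1 6 * (swap 2 7 * swap 3 4), Perm.mem_alternatingGroup.2 (by decide)⟩

theorem uA_eq : uA = g 3 * g 5 ∧ vA = g 4 * uA * (g 4)⁻¹ := by decide +kernel

theorem conj_sw (k : Perm (Fin 8)) (a b c d : Fin 8) :
    k * (swap a b * swap c d) * k⁻¹ = swap (k a) (k b) * swap (k c) (k d) := by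
  simp [swap_apply_apply, mul_assoc]

theorem a_v {k : A} (h : k * uA = uA * k) : k * vA * k⁻¹ = vA ∨ k * vA * k⁻¹ = vA * uA := by
  have key : ∀ e, e ≠ uA.1 e → ∀ f, f ≠ uA.1 f → f ≠ e → f ≠ uA.1 e →
      swap e f * swap (uA.1 e) (uA.1 f) = vA.1 ∨ swap e f * swap (uA.1 e) (uA.1 f) = vA.1 * uA.1 := by
    decide +kernel
  have e : ∀ i j, uA.1 i = j → uA.1 (k.1 i) = k.1 j := fun i j e => by
    rw [← e]; exact (DFunLike.congr_fun (congrArg Subtype.val h) i).symm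
  have e4 := e 4 5 (by decide)
  have e6 := e 6 7 (by decide)
  have := key (k.1 4) (by simp [e4]) (k.1 6) (by simp [e6]) (by simp) (by simp [e4])
  rw [e4, e6, ← conj_sw] at this
  exact this.imp Subtype.ext Subtype.ext

theorem a_u {k : A} (h : k * uA = uA * k) (h1 : IsConj uA k) (h2 : IsConj uA (k * uA)) :
    k = vA ∨ k = vA * uA ∨ ∃ x : A, x ^ 3 = 1 ∧ x * uA * x⁻¹ = k ∧ x * k * x⁻¹ = k * uA := by
  have key : ∀ a b : Fin 8, b ≠ a → ∀ c, c ≠ a ∧ c ≠ b → ∀ d, d ≠ a ∧ d ≠ b ∧ d ≠ c →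
      ∀ k ∈ [swap a b * swap c d], k * uA.1 = uA.1 * k → (∃ i, (k * uA.1) i = i) → k * uA.1 ≠ 1 →
      k = vA.1 ∨ k = vA.1 * uA.1 ∨ ∃ p ∈ [(a, b), (c, d)],
        ∃ x ∈ [swap 4 p.1 * swap p.1 6 * (swap 5 p.2 * swap p.2 7),
          swap 6 p.1 * swap p.1 4 * (swap 7 p.2 * swap p.2 5)],
        x * uA.1 * x⁻¹ = k ∧ x * k * x⁻¹ = k * uA.1 ∧ x ^ 3 = 1 := by
    decide +kernel
  obtain ⟨c, hc⟩ := isConj_iff.1 h1
  obtain ⟨d, hd⟩ := isConj_iff.1 h2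
  refine (key (c.1 4) (c.1 5) (by simp) (c.1 6) (by simp) (c.1 7) (by simp) k.1
    (List.mem_singleton.2 ?_) (congrArg Subtype.val h) ⟨d.1 0, ?_⟩ fun e => ?_).imp Subtype.ext
    (Or.imp Subtype.ext ?_)
  · rw [← conj_sw, ← hc]; rfl
  · rw [show k.1 * uA.1 = d.1 * uA.1 * d.1⁻¹ from (congrArg Subtype.val hd).symm]
    simpa using by decide
  · exact absurd (isConj_one_left.1 ((show k * uA = 1 from Subtype.ext e) ▸ h2)) (by decide)
  rintro ⟨_, _, x, -, x3, x4, x2⟩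
  have x1 := congrArg Perm.sign x2
  rw [map_pow, map_one, pow_succ, Int.units_sq, one_mul] at x1
  exact ⟨⟨x, x1⟩, Subtype.ext x2, Subtype.ext x3, Subtype.ext x4⟩

theorem cycleType_two {σ : Perm (Fin 8)} (h : orderOf σ = 2) :
    ∃ n, σ.cycleType = Multiset.replicate n 2 ∧ σ.support.card = 2 * n := by
  obtain ⟨n, e⟩ := Perm.cycleType_prime_order (h ▸ Nat.prime_two)
  exact ⟨n + 1, h ▸ e, by rw [← Perm.sum_cycleType, e, h]; simp; ring⟩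

theorem isConj_of_card {x y : A} (hx : orderOf x = 2) (hy : orderOf y = 2)
    (h : x.1.support.card = y.1.support.card) {t : Perm (Fin 8)} (h1 : Perm.sign t = -1)
    (h2 : t * x = x * t) : IsConj x y := by
  obtain ⟨n, e, e'⟩ := cycleType_two ((Subgroup.orderOf_coe x).trans hx)
  obtain ⟨m, f, f'⟩ := cycleType_two ((Subgroup.orderOf_coe y).trans hy)
  obtain rfl : n = m := by omega
  obtain ⟨c, hc⟩ := isConj_iff.1 (Perm.isConj_iff_cycleType_eq.2 (e.trans f.symm))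
  rcases Int.units_eq_one_or (Perm.sign c) with s | s
  · exact isConj_iff.2 ⟨⟨c, s⟩, Subtype.ext hc⟩
  · refine isConj_iff.2 ⟨⟨c * t, by simp [s, h1]⟩, Subtype.ext ?_⟩
    simp [← hc, mul_assoc, ← mul_assoc t, h2]

theorem ord_uA : orderOf uA = 2 := orderOf_eq_prime (by decide) (by decide)

theorem ord_sA : orderOf sA = 2 := orderOf_eq_prime (by decide) (by decide)

theorem inv_cases {x : A} (hx : orderOf x = 2) :
    IsConj uA x ∨ IsConj sA x := by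
  obtain ⟨n, e, e'⟩ := cycleType_two ((Subgroup.orderOf_coe x).trans hx)
  have h1 := Perm.sign_of_cycleType x.1
  have h2 : x.1.support.card ≤ 8 := (Finset.card_le_univ _).trans (by simp)
  have h3 : n ≠ 0 := by
    rintro rfl
    rw [show x = 1 from Subtype.ext (Perm.cycleType_eq_zero.1 e)] at hx
    simp at hx
  rw [Perm.mem_alternatingGroup.1 x.2, e] at h1
  obtain rfl | rfl | rfl | rfl : n = 1 ∨ n = 2 ∨ n = 3 ∨ n = 4 := by omega
  · exact absurd h1 (by decide)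
  · exact .inl (isConj_of_card ord_uA hx (e'.symm ▸ by decide) (t := swap 4 5) (by decide)
      (by decide))
  · exact absurd h1 (by decide)
  · exact .inr (isConj_of_card ord_sA hx (e'.symm ▸ by decide) (t := swap 0 5) (by decide)
      (by decide))

theorem pow_cen_uA {k : A} (h : k * uA = uA * k) : k ^ 192 = 1 := by
  obtain ⟨n, e, e'⟩ := cycleType_two ((Subgroup.orderOf_coe uA).trans ord_uA)
  obtain rfl : n = 2 := by
    have : uA.1.support.card = 4 := by decide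
    omega
  have h1 := Perm.nat_card_centralizer uA.1
  rw [e, show _ * _ * _ = 192 by decide] at h1
  have := pow_card_eq_one' (G := Subgroup.centralizer {uA.1}) (x := ⟨k.1,
    Subgroup.mem_centralizer_singleton_iff.2 (congrArg Subtype.val h)⟩)
  rw [h1] at this
  exact Subtype.ext (congrArg Subtype.val this :)

theorem card_cen_sA : 64 ∣ Nat.card (Subgroup.centralizer ({sA} : Set A)) := by
  obtain ⟨n, e, e'⟩ := cycleType_two ((Subgroup.orderOf_coe sA).trans ord_sA)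
  obtain rfl : n = 4 := by
    have : sA.1.support.card = 8 := by decide
    omega
  have h1 := Perm.nat_card_centralizer sA.1
  rw [e] at h1
  have h2 := Subgroup.card_mul_index (A.subgroupOf (Subgroup.centralizer {sA.1}))
  have h3 : (A.subgroupOf (Subgroup.centralizer {sA.1})).index ∣ 2 :=
    alternatingGroup.index_eq_two (α := Fin 8) ▸ Subgroup.relIndex_dvd_index_of_normal _ _
  have h4 : Nat.card (A.subgroupOf (Subgroup.centralizer {sA.1})) =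
      Nat.card (Subgroup.centralizer ({sA} : Set A)) := Nat.card_congr
    ⟨fun x => ⟨⟨x.1.1, x.2⟩, Subgroup.mem_centralizer_singleton_iff.2
      (Subtype.ext (Subgroup.mem_centralizer_singleton_iff.1 x.1.2))⟩,
    fun x => ⟨⟨x.1.1, Subgroup.mem_centralizer_singleton_iff.2 (congrArg Subtype.val
      (Subgroup.mem_centralizer_singleton_iff.1 x.2))⟩, x.1.2⟩, fun _ => rfl, fun _ => rfl⟩
  rw [h1, h4, show _ * _ * _ = 384 by decide] at h2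
  rcases (Nat.dvd_prime Nat.prime_two).1 h3 with h | h <;> rw [h] at h2 <;> omega

theorem a5 : ∀ y : alternatingGroup (Fin 5), y ^ 3 = 1 → y ≠ 1 → ∀ t, t * y * t⁻¹ = y⁻¹ →
    ∀ b, b ^ 4 = 1 → (b * t) ^ 4 = 1 → b ≠ 1 → b ≠ t → (y * b) ^ 5 = 1 ∧ y * b ≠ 1 := by
  decide +kernel

end H19.A8
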