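import Cfsg.Agent.H19.A8M
import Cfsg.Agent.H42.L3Kit
import Cfsg.Agent.H28.OrbTr

/-! The `3`-local data of `A₈` in normal form. -/

set_option autoImplicit false
set_option synthInstance.maxSize 5000

namespace H19.A8

open Subgroup H98 H56.L3 H42.L3

attribute [local instance 2000] List.decidableBAll List.decidableBEx

variable {G : Type*} [Group G]

theorem mem_zp3 {w x : G} (h : w ^ 3 = 1) : x ∈ zpowers w ↔ x = 1 ∨ x = w ∨ x = w⁻¹ := by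
  refine ⟨fun ⟨n, e⟩ => ?_, fun e => ?_⟩
  · have e1 := zpow_eq_zpow_emod' n h
    have e2 : w ^ (2 : ℤ) = w⁻¹ := eq_inv_of_mul_eq_one_left (by rw [← h]; group)
    obtain f | f | f : n % (3 : ℕ) = 0 ∨ n % (3 : ℕ) = 1 ∨ n % (3 : ℕ) = 2 := by omega
    all_goals rw [f, show w ^ n = x from e] at e1; simp [e1, e2]
  · rcases e with rfl | rfl | rfl
    exacts [one_mem _, mem_zpowers _, inv_mem (mem_zpowers _)]

/-- The Sylow `3`-subgroup. -/
abbrev DD (φ : K →* G) : Subgroup G := Ce (φ z0) ⊓ Ce (φ z1)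

/-- The hypotheses of the theorem in normal form. -/
structure Hyp (φ : K →* G) (s : G) : Prop where
  inj : Function.Injective φ
  nor : Nz (φ z0) = φ.range
  syl : IsSyl 3 (DD φ) ⊤
  ss : s * s = 1
  sz : s * φ z0 * s⁻¹ = φ z1
  nD : ∀ g ∈ nr (DD φ), g ∈ φ.range ∨ g * s ∈ φ.range
  cy : Ce (φ (z0 * z1)) ≤ nr (DD φ)

theorem z3 : z0 ^ 3 = 1 ∧ z1 ^ 3 = 1 ∧ z0 * z1 = z1 * z0 ∧ z0 ≠ 1 ∧ (z0 * z1) ^ 2 ≠ 1 ∧
    xx 0 * z0 * (xx 0)⁻¹ = z0⁻¹ ∧ xx 0 * z1 * (xx 0)⁻¹ = z1 := by decide +kernel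

variable {φ : K →* G}

theorem map_cube {k : K} (h : k ^ 3 = 1) : φ k ^ 3 = 1 := by rw [← map_pow, h, map_one]

theorem map_mem_Ce {a b : K} (h : a * b = b * a) : φ a ∈ Ce (φ b) :=
  mem_Ce.2 (by rw [← map_mul, h, map_mul])

theorem z0_mem : φ z0 ∈ DD φ := ⟨map_mem_Ce rfl, map_mem_Ce z3.2.2.1⟩

theorem z1_mem : φ z1 ∈ DD φ := ⟨map_mem_Ce z3.2.2.1.symm, map_mem_Ce rfl⟩

variable [Finite G]

theorem Ce_le_Nz (x : G) : Ce x ≤ Nz x := fun _ h => mem_Nz.2 ((mem_Ce'.1 h).symm ▸ mem_zpowers x)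

theorem mem_DD (hi : Function.Injective φ) (hn : Nz (φ z0) = φ.range) {g : G} (hg : g ∈ DD φ) :
    ∃ a ∈ [1, z0, z0⁻¹], ∃ b ∈ [1, z1, z1⁻¹], g = φ (a * b) := by
  obtain ⟨k, rfl⟩ := hn.le (Ce_le_Nz _ hg.1)
  obtain ⟨a, ha, b, hb, rfl⟩ := (k_all k).2.2.1 (hi (by simpa using mem_Ce.1 hg.1))
    (hi (by simpa using mem_Ce.1 hg.2))
  exact ⟨a, ha, b, hb, rfl⟩

theorem mem_nr_DD (hi : Function.Injective φ) (hn : Nz (φ z0) = φ.range) {g : G}
    (h0 : g * φ z0 * g⁻¹ ∈ DD φ) (h1 : g * φ z1 * g⁻¹ ∈ DD φ) : g ∈ nr (DD φ) := by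
  refine mem_normalizer_of_cj_le ?_
  rintro _ ⟨x, hx, rfl⟩
  obtain ⟨a, ha, b, hb, rfl⟩ := mem_DD hi hn hx
  simp only [List.mem_cons, List.not_mem_nil, or_false] at ha hb
  have e : ∀ z : K, g * φ z * g⁻¹ ∈ DD φ → ∀ a, a = 1 ∨ a = z ∨ a = z⁻¹ →
      MulAut.conj g (φ a) ∈ DD φ := by
    rintro z h _ (rfl | rfl | rfl)
    exacts [by simp, h, by rw [map_inv, map_inv]; exact inv_mem h]
  rw [map_mul, map_mul]
  exact mul_mem (e _ h0 a ha) (e _ h1 b hb)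

theorem move (hi : Function.Injective φ) (hn : Nz (φ z0) = φ.range)
    (h2 : φ.range.relIndex (nr (DD φ)) = 2) {g : G} (hg : g ∈ nr (DD φ)) (h : g ∉ φ.range) :
    g * φ z0 * g⁻¹ = φ z1 ∨ g * φ z0 * g⁻¹ = (φ z1)⁻¹ := by
  obtain ⟨a, ha, b, hb, e⟩ := mem_DD hi hn (conj_mem_of_mem_normalizer hg z0_mem)
  have hx : φ (xx 0) ∈ nr (DD φ) := mem_nr_DD hi hn
    (by rw [← map_inv, ← map_mul, ← map_mul, z3.2.2.2.2.2.1, map_inv]; exact inv_mem z0_mem)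
    (by rw [← map_inv, ← map_mul, ← map_mul, z3.2.2.2.2.2.2]; exact z1_mem)
  have h3 : g⁻¹ * φ (xx 0) * g ∈ Nz (φ z0) := by
    rw [hn, H28.OT.mul_mem_of_two h2 (mul_mem (inv_mem hg) hx) hg,
      φ.range.mul_mem_cancel_right ⟨_, rfl⟩, inv_mem_iff]
  have key : ∀ a ∈ [1, z0, z0⁻¹], ∀ b ∈ [1, z1, z1⁻¹], ∀ c ∈ [1, a * b, (a * b)⁻¹],
      xx 0 * (a * b) * (xx 0)⁻¹ = c → a * b ∈ [1, z0, z0⁻¹] ∨ a * b = z1 ∨ a * b = z1⁻¹ := by
    decide +kernel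
  have h4 : ∃ c ∈ [1, a * b, (a * b)⁻¹], xx 0 * (a * b) * (xx 0)⁻¹ = c := by
    refine ⟨_, ?_, rfl⟩
    have : φ (xx 0 * (a * b) * (xx 0)⁻¹) =
      g * (g⁻¹ * φ (xx 0) * g * φ z0 * (g⁻¹ * φ (xx 0) * g)⁻¹) * g⁻¹ := by
      rw [map_mul, map_mul, ← e, map_inv]; group
    simp only [List.mem_cons, List.not_mem_nil, or_false, ← hi.eq_iff, this, map_inv, ← e, map_one]
    rcases (mem_zp3 (map_cube z3.1)).1 (mem_Nz.1 h3) with f | f | f <;> rw [f] <;> simp [mul_assoc]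
  obtain ⟨c, hc, h4⟩ := h4
  rcases key a ha b hb c hc h4 with f | f | f
  · refine absurd (hn.le (mem_Nz.2 ((mem_zp3 (map_cube z3.1)).2 ?_))) h
    simpa [e, ← hi.eq_iff] using f
  · exact .inl (f ▸ e)
  · exact .inr (by rw [e, f, map_inv])

theorem exists_phi {y z : G} (hy : y ^ 3 = 1) (hz : z ^ 3 = 1) (h1 : z ≠ 1) (h2 : y ∉ zpowers z)
    (hc : y ∈ Ce z) (eL : Nz z ≃* K) : ∃ φ : K →* G, Function.Injective φ ∧
      Nz (φ z0) = φ.range ∧ zpowers (φ z0) = zpowers z ∧ ∃ b ∈ [1, z0, z0⁻¹], y = φ (b * z1) := by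
  let ψ : K →* G := (Nz z).subtype.comp eL.symm.toMonoidHom
  have hi : Function.Injective ψ := Subtype.val_injective.comp eL.symm.injective
  have hr : ψ.range = Nz z := le_antisymm (by rintro _ ⟨k, rfl⟩; exact (eL.symm k).2)
    fun g hg => ⟨eL ⟨g, hg⟩, congrArg Subtype.val (eL.symm_apply_apply _)⟩
  clear_value ψ
  clear eL
  obtain ⟨k, rfl⟩ := hr.ge (Ce_le_Nz _ (mem_Ce.2 (rfl : z * z = z * z)))
  obtain ⟨l, rfl⟩ := hr.ge (Ce_le_Nz _ hc)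
  have hk : ∀ m, ψ (m * k * m⁻¹) ∈ zpowers (ψ k) := fun m => by
    simpa using mem_Nz.1 (hr.le ⟨m, rfl⟩)
  have e : zpowers (ψ z0) = zpowers (ψ k) := by
    rcases (k_all k).2.1 (hi (by simpa using hz)) (fun e => h1 (by rw [e, map_one]))
      (fun i => hi (by
        obtain ⟨n, e⟩ := hk (xx i)
        rw [map_mul, map_mul ψ k, ← e]; group)) with rfl | rfl
    exacts [rfl, by rw [map_inv, zpowers_inv]]
  have e3 : ∀ b : K, b.1.2 = 1 → ψ b ∈ zpowers (ψ k) := fun b hb => by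
    rw [← e, mem_zp3 (map_cube z3.1)]
    simpa [← hi.eq_iff] using (k_all b).1 hb
  obtain ⟨m, hm⟩ := k_norm l (hi (by simpa using hy)) fun h => h2 (e3 l h)
  have e' : zpowers (ψ (m⁻¹ * z0 * m)) = zpowers (ψ k) := by
    rw [show ψ (m⁻¹ * z0 * m) = ψ m⁻¹ * ψ z0 * (ψ m⁻¹)⁻¹ by simp, ← H42.Ree.cj_zpowers, e]
    exact cj_eq_self (hr.le ⟨m⁻¹, rfl⟩)
  refine ⟨ψ.comp (MulAut.conj m).symm.toMonoidHom, hi.comp (MulAut.conj m).symm.injective, ?_,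
    e', m * l * m⁻¹ * z1⁻¹, by simpa using (k_all _).1 (by simpa [mul_inv_eq_one] using hm),
    by simp [mul_assoc]⟩
  rw [MonoidHom.range_comp, MonoidHom.range_eq_top.2 (MulAut.conj m).symm.surjective,
    ← MonoidHom.range_eq_map, hr]
  exact congrArg (fun X : Subgroup G => nr X) e'

theorem exists_hyp {D : Subgroup G} (hD : IsSyl 3 D ⊤) {y z : G} (hgen : closure {y, z} = D)
    (hcard : Nat.card D = 9) (hexp : ∀ a ∈ D, a ^ 3 = 1) (hC : cn D = D)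
    (hN : Nat.card (nr D) = 72) (hyn : Ce y ≤ nr D) (hy : Nat.card (Ce y) = 18) (eL : Nz z ≃* K) :
    ∃ (φ : K →* G) (s : G), Hyp φ s := by
  have yD : y ∈ D := hgen ▸ subset_closure (by simp)
  have zD : z ∈ D := hgen ▸ subset_closure (by simp)
  have hc : ∀ a ∈ D, ∀ b ∈ D, a ∈ Ce b := fun a ha b hb => mem_Ce.2 (hC.ge ha b hb).symm
  have nc : ∀ a ∈ D, y ∈ zpowers a → z ∈ zpowers a → False := fun a ha h1 h2 => by
    have := card_dvd_of_le (show D ≤ zpowers a from hgen ▸ (closure_le _).2 (by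
      rintro _ (rfl | rfl) <;> assumption))
    rw [hcard, Nat.card_zpowers] at this
    exact absurd (this.trans (orderOf_dvd_of_pow_eq_one (hexp a ha))) (by decide)
  obtain ⟨φ, hi, hn, e, b, hb, rfl⟩ := exists_phi (hexp y yD) (hexp z zD)
    (fun h => nc y yD (mem_zpowers y) (h ▸ one_mem _)) (fun h => nc z zD h (mem_zpowers z))
    (hc y yD z zD) eL
  have hb' : φ b ∈ zpowers (φ z0) := by simpa [mem_zp3 (map_cube z3.1), ← hi.eq_iff] using hb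
  have h0 : φ z0 ∈ D := zpowers_le_of_mem zD (e ▸ mem_zpowers _)
  obtain rfl : D = DD φ := by
    rw [map_mul, D.mul_mem_cancel_left (zpowers_le_of_mem h0 hb')] at yD
    refine le_antisymm (fun a ha => ⟨hc a ha _ h0, hc a ha _ yD⟩) fun a ha => hC.le fun d hd => ?_
    have : zpowers (φ z0) ≤ Ce a := zpowers_le_of_mem (mem_Ce.2 (mem_Ce.1 ha.1).symm)
    refine mem_Ce.1 ((closure_le (Ce a)).2 ?_ (hgen.ge hd))
    rintro _ (rfl | rfl)
    · exact map_mul φ b z1 ▸ mul_mem (this hb') (mem_Ce.2 (mem_Ce.1 ha.2).symm)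
    · exact this (e ▸ mem_zpowers _)
  have h2 : φ.range.relIndex (nr (DD φ)) = 2 := by
    have h3 : Nat.card ((nr (DD φ)).comap φ) = 36 := (Nat.subtype_card _ fun k => by
      simp only [Finset.mem_filter, Finset.mem_univ, true_and, ← hi.eq_iff]
      refine ⟨fun h => mem_nr_DD hi hn (zpowers_le_of_mem z0_mem (mem_Nz.1 (hn.ge ⟨k, rfl⟩)))
        ⟨?_, mem_Ce.2 (by simpa using h)⟩,
        fun h => by simpa using mem_Ce.1 (conj_mem_of_mem_normalizer h z1_mem).2⟩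
      have : (φ k)⁻¹ * φ z0 * (φ k)⁻¹⁻¹ ∈ Ce (φ z1) :=
        zpowers_le_of_mem z0_mem.2 (mem_Nz.1 (inv_mem (hn.ge ⟨k, rfl⟩)))
      simpa [mul_assoc] using conj_mem_Ce (mem_Ce.2 (mem_Ce.1 this).symm) (φ k)).trans k_card
    have h4 := (φ.range.subgroupOf (nr (DD φ))).index_mul_card
    rw [← card_map_of_injective hi, map_comap_eq,
      ← Nat.card_congr (subgroupOfEquivOfLe inf_le_right).toEquiv, inf_subgroupOf_right] at h3
    rw [h3, hN] at h4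
    exact Nat.eq_of_mul_eq_mul_right (by decide) h4
  have hY : Ce (φ (z0 * z1)) ≤ nr (DD φ) ∧ Nat.card (Ce (φ (z0 * z1))) = 18 := by
    simp only [List.mem_cons, List.not_mem_nil, or_false] at hb
    rcases hb with rfl | rfl | rfl
    · obtain ⟨g, hg, h⟩ := H28.OT.exists_not_mem_of_two h2
      obtain ⟨k, h1, h3⟩ := k_five
      have h4 : g * φ k * g⁻¹ ∈ Ce (φ (1 * z1)) := by
        have := conj_mem_Ce (map_mem_Ce (φ := φ) h1) g
        rcases move hi hn h2 hg h with f | f <;> rw [f] at this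
        · rwa [one_mul]
        · exact mem_Ce.2 (by simpa using (show Commute _ _ from mem_Ce.1 this).inv_right.eq)
      have := congrArg Subtype.val (hy ▸ pow_card_eq_one' (x := (⟨_, h4⟩ : Ce _)))
      exact absurd (hi (by simpa [conj_pow] using this)) h3
    · exact ⟨hyn, hy⟩
    · have e : Ce (φ (z0 * z1)) = cj (φ (xx 0)) (Ce (φ (z0⁻¹ * z1))) := by
        rw [H14.cj_centralizer_singleton, ← map_inv, ← map_mul, ← map_mul]
        exact congrArg (fun x => Ce (φ x)) (by decide +kernel)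
      refine ⟨e ▸ cj_le_of_le_of_mem hyn (mem_nr_DD hi hn ?_ ?_), by rw [e, card_cj, hy]⟩ <;>
        rw [← map_inv, ← map_mul, ← map_mul]
      exacts [by rw [z3.2.2.2.2.2.1, map_inv]; exact inv_mem z0_mem, z3.2.2.2.2.2.2.symm ▸ z1_mem]
  obtain ⟨⟨s, hs⟩, ho⟩ := exists_prime_orderOf_dvd_card' (G := Ce (φ (z0 * z1))) 2 (hY.2 ▸ by decide)
  rw [← orderOf_coe] at ho
  have ss : s * s = 1 := by rw [← sq, ← ho]; exact pow_orderOf_eq_one s
  have hs' : s ∉ φ.range := by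
    rintro ⟨k, rfl⟩
    have := (k_all k).2.2.2.1 (hi (by simpa using mem_Ce.1 hs))
    have := orderOf_dvd_of_pow_eq_one (hexp _ ⟨map_mem_Ce this.1, map_mem_Ce this.2⟩)
    exact absurd (ho ▸ this) (by decide)
  refine ⟨φ, s, hi, hn, hD, ss, (move hi hn h2 (hY.1 hs) hs').resolve_right fun f => ?_,
    fun g hg => by rw [H28.OT.mul_mem_of_two h2 hg (hY.1 hs)]; tauto, hY.1⟩
  have f' : s * φ z1 * s⁻¹ = (φ z0)⁻¹ := by
    rw [← inv_inv (φ z1), ← f, inv_eq_of_mul_eq_one_right ss]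
    simp [mul_assoc, inv_eq_of_mul_eq_one_right ss, ← mul_assoc s s, ss]
  refine z3.2.2.2.2.1 (hi ?_)
  rw [map_pow, sq, map_one]
  nth_rewrite 1 [← mem_Ce'.1 hs]
  rw [map_mul, ← conj_mul, f, f']; group

end H19.A8
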