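/- The geometric classes for the isometry group of an arbitrary non-degenerate quadratic form
(the statement of Aschbacher's theorem in the orthogonal case is `H19.asch_orth`). -/
import Cfsg.Agent.Base

set_option autoImplicit false

namespace H19
open Cfsg Cfsg.Geo Matrix
open scoped MatrixGroups

variable {ι : Type} [Fintype ι] [DecidableEq ι] {F : Type*} [Field F] [Fintype F]

/-- `M` is the stabiliser in `GL` of a geometric structure compatible with the quadratic form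
`Q` (not intersected with the isometry group). -/
def InOrthClass (Q : (ι → F) → F) (M : Subgroup (GL ι F)) : Prop :=
  (∃ W : Submodule F (ι → F), W ≠ ⊥ ∧ IsTotallySingularQuad Q W ∧ M = subspaceStabilizer W) ∨
  (∃ W : Submodule F (ι → F), W ≠ ⊥ ∧ W ≠ ⊤ ∧ IsNondegenerateOn (QuadraticMap.polar Q) W ∧
      M = subspaceStabilizer W) ∨
  (¬ Odd (Fintype.card F) ∧ ∃ v : ι → F, Q v ≠ 0 ∧
      M = subspaceStabilizer (Submodule.span F {v})) ∨
  (∃ (t k : ℕ) (D : Fin t → Submodule F (ι → F)), IsOrthogonalMDecomposition Q k D ∧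
      (k = 1 → (Fintype.card F).Prime) ∧ M = decompositionStabilizer D) ∨
  (∃ (k : ℕ) (D : Fin 2 → Submodule F (ι → F)), IsMDecomposition k D ∧
      (∀ i, IsTotallySingularQuad Q (D i)) ∧ M = decompositionStabilizer D) ∨
  (∃ (r : ℕ) (K : Subalgebra F (Matrix ι ι F)), r.Prime ∧ Fintype.card ι ≠ r ∧
      IsFieldSubalgebra r K ∧ IsSelfAdjointFor (QuadraticMap.polar Q) K ∧
      M = subalgebraNormalizer K) ∨
  (∃ K : Subalgebra F (Matrix ι ι F), IsFieldSubalgebra 2 K ∧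
      IsAdjointClosedFor (QuadraticMap.polar Q) K ∧ ¬ IsSelfAdjointFor (QuadraticMap.polar Q) K ∧
      (∀ k ∈ K, ∃ c : F, ∀ v : ι → F, Q (Matrix.mulVec k v) = c * Q v) ∧
      M = subalgebraNormalizer K) ∨
  (∃ (n₁ n₂ : ℕ) (e : ι ≃ Fin n₁ × Fin n₂) (P : GL ι F)
      (f₁ : (Fin n₁ → F) → (Fin n₁ → F) → F) (f₂ : (Fin n₂ → F) → (Fin n₂ → F) → F),
      Odd (Fintype.card F) ∧ 3 ≤ n₁ ∧ n₁ ≤ n₂ ∧ ¬ (Fintype.card F = 3 ∧ n₁ = 3) ∧
      IsSymmetricForm f₁ ∧ IsSymmetricForm f₂ ∧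
      IsTensorFormStructure id (QuadraticMap.polar Q) f₁ f₂ e P ∧
      M = tensorProductSubgroup n₁ n₂ e P) ∨
  (∃ (n₁ n₂ : ℕ) (e : ι ≃ Fin n₁ × Fin n₂) (P : GL ι F)
      (f₁ : (Fin n₁ → F) → (Fin n₁ → F) → F) (f₂ : (Fin n₂ → F) → (Fin n₂ → F) → F),
      2 ≤ n₁ ∧ n₁ ≤ n₂ ∧ ¬ (Fintype.card F = 2 ∧ n₁ = 2) ∧
      IsSymplecticForm f₁ ∧ IsSymplecticForm f₂ ∧
      IsTensorFormStructure id (QuadraticMap.polar Q) f₁ f₂ e P ∧
      (∀ (x₁ : Fin n₁ → F) (x₂ : Fin n₂ → F), Q (Matrix.mulVec (P : Matrix ι ι F)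
        ((fun a : Fin n₁ × Fin n₂ => x₁ a.1 * x₂ a.2) ∘ e)) = 0) ∧
      M = tensorProductSubgroup n₁ n₂ e P) ∨
  (∃ (F₀ : Subfield F) (r : ℕ) (P : GL ι F) (ζ : F), r.Prime ∧
      Fintype.card F = Nat.card F₀ ^ r ∧ ζ ≠ 0 ∧
      IsQuadFormRationalStructure (fun v : ι → F => ζ * Q v) F₀ P ∧ M = subfieldSubgroup F₀ P) ∨
  (∃ (R : Subgroup (GL ι F)) (k : ℕ), IsSymplecticTypeGroup 2 R ∧
      ActsAbsolutelyIrreducibly (matrixSet R) ∧ R ≤ isometryGroup F Q ∧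
      (Fintype.card F).Prime ∧ Odd (Fintype.card F) ∧ Nat.card R = 2 ^ (1 + 2 * k) ∧
      Nat.card (Subgroup.center R) = 2 ∧ Fintype.card ι = 2 ^ k ∧ M = subgroupNormalizer R) ∨
  (∃ (k t : ℕ) (e : ι ≃ (Fin t → Fin k)) (P : GL ι F) (f₁ : (Fin k → F) → (Fin k → F) → F),
      Odd (Fintype.card F) ∧ 3 ≤ k ∧ 2 ≤ t ∧ ¬ (Fintype.card F = 3 ∧ k = 3) ∧
      IsSymmetricForm f₁ ∧ IsTensorPowerFormStructure id (QuadraticMap.polar Q) f₁ e P ∧
      M = tensorWreathSubgroup k t e P) ∨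
  (∃ (k t : ℕ) (e : ι ≃ (Fin t → Fin k)) (P : GL ι F) (f₁ : (Fin k → F) → (Fin k → F) → F),
      2 ≤ k ∧ 2 ≤ t ∧ IsSymplecticForm f₁ ∧
      IsTensorPowerFormStructure id (QuadraticMap.polar Q) f₁ e P ∧
      (∀ x : Fin t → Fin k → F, Q (Matrix.mulVec (P : Matrix ι ι F)
        ((fun a : Fin t → Fin k => ∏ i, x i (a i)) ∘ e)) = 0) ∧
      M = tensorWreathSubgroup k t e P)

/-- The statement of Aschbacher's theorem for orthogonal groups in any dimension `≥ 3`. -/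
def AschOrthStatement (ι : Type) [Fintype ι] [DecidableEq ι] (F : Type*) [Field F] [Fintype F] :
    Prop :=
  ∀ Q : (ι → F) → F, IsNondegenerateQuadraticForm Q → 3 ≤ Fintype.card ι →
    ∀ H : Subgroup (GL ι F), H ≤ isometryGroup F Q →
      (∃ M : Subgroup (GL ι F), InOrthClass Q M ∧ H ≤ M) ∨ InOrthogonalResidualClass H

end H19
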