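/- Aschbacher's theorem, part 23: lemmas for quadratic forms. -/
import Cfsg.Agent.H19.AschU
import Cfsg.Agent.H19.AschDefs

set_option autoImplicit false

namespace H19
open Cfsg Cfsg.Geo Matrix
open scoped MatrixGroups Kronecker commutatorElement

variable {ι : Type} [Fintype ι] [DecidableEq ι] {F : Type*} [Field F]

/-- The polar form of a non-degenerate quadratic form. -/
def oFrm {Q : (ι → F) → F} (hQ : IsNondegenerateQuadraticForm Q) : Frm ι F :=
  Frm.ofSymmetric (isSymmetricForm_polar hQ)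

theorem isometryGroup_le_Iso {Q : (ι → F) → F} (hQ : IsNondegenerateQuadraticForm Q) :
    isometryGroup F Q ≤ (oFrm hQ).Iso := fun g hg u v => by
  change QuadraticMap.polar Q ((g : Matrix ι ι F) *ᵥ u) ((g : Matrix ι ι F) *ᵥ v) =
    QuadraticMap.polar Q u v
  simp only [QuadraticMap.polar, ← mulVec_add, mem_isometryGroup.1 hg]

theorem Iso_le_isometryGroup {Q : (ι → F) → F} (hQ : IsNondegenerateQuadraticForm Q)
    (h2 : (2 : F) ≠ 0) : (oFrm hQ).Iso ≤ isometryGroup F Q := fun _ hg =>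
  mem_isometryGroup.2 fun v => mul_left_cancel₀ h2 (by
    rw [← polar_self_eq hQ, ← polar_self_eq hQ]; exact hg v v)

omit [Fintype ι] [DecidableEq ι] in
theorem quad_eq_zero_of_polar {Q : (ι → F) → F} (hQ : IsNondegenerateQuadraticForm Q)
    (h2 : (2 : F) ≠ 0) {v : ι → F} (h : QuadraticMap.polar Q v v = 0) : Q v = 0 :=
  (mul_eq_zero.1 ((polar_self_eq hQ v).symm.trans h)).resolve_left h2

/-- A totally isotropic invariant subspace in characteristic two. -/
theorem singular_or_point [Finite F] {Q : (ι → F) → F} (hQ : IsNondegenerateQuadraticForm Q)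
    (h2 : (2 : F) = 0) {H : Subgroup (GL ι F)} (hH : H ≤ isometryGroup F Q)
    {W : Submodule F (ι → F)} (h0 : W ≠ ⊥) (hW : IsTotallySingularFor (QuadraticMap.polar Q) W)
    (hS : Stab H W) : (∃ W : Submodule F (ι → F), W ≠ ⊥ ∧ IsTotallySingularQuad Q W ∧ Stab H W) ∨
      ∃ v, Q v ≠ 0 ∧ W = Submodule.span F {v} := by
  let W₀ : Submodule F (ι → F) :=
    { carrier := {w | w ∈ W ∧ Q w = 0}
      add_mem' := fun {u v} hu hv => ⟨add_mem hu.1 hv.1, by
        rw [quad_add (Q := Q), hu.2, hv.2, hW u hu.1 v hv.1, add_zero, add_zero]⟩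
      zero_mem' := ⟨zero_mem _, quad_zero hQ⟩
      smul_mem' := fun c v hv => ⟨W.smul_mem c hv.1, by rw [hQ.smul, hv.2, mul_zero]⟩ }
  by_cases h1 : W₀ = ⊥
  swap
  · exact .inl ⟨W₀, h1, fun w hw => hw.2, fun g hg w hw =>
      ⟨hS g hg w hw.1, (mem_isometryGroup.1 (hH hg) w).trans hw.2⟩⟩
  obtain ⟨v, hv, hv0⟩ := Submodule.exists_mem_ne_zero_of_ne_bot h0
  have h3 : ∀ w ∈ W, Q w = 0 → w = 0 := fun w hw h => (Submodule.mem_bot F).1 (h1 ▸ ⟨hw, h⟩)
  have h4 : Q v ≠ 0 := fun h => hv0 (h3 v hv h)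
  refine .inr ⟨v, h4, le_antisymm (fun w hw => ?_) ((Submodule.span_singleton_le_iff_mem _ _).2 hv)⟩
  obtain ⟨c, hc⟩ := exists_sq_eq h2 (Q w / Q v)
  have := h3 (w + c • v) (add_mem hw (W.smul_mem c hv)) (by
    rw [quad_add (Q := Q), hW w hw _ (W.smul_mem c hv), hQ.smul, hc, div_mul_cancel₀ _ h4,
      ← two_mul, h2, zero_mul, add_zero])
  exact Submodule.mem_span_singleton.2 ⟨-c, by rw [neg_smul, neg_eq_of_add_eq_zero_left this]⟩

theorem isometric_of_map {Q : (ι → F) → F} {g : GL ι F} (hg : g ∈ isometryGroup F Q)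
    {W W' : Submodule F (ι → F)} (h : W.map (Matrix.toLin' (g : Matrix ι ι F)) = W') :
    AreIsometricFor Q W W' := by
  subst h
  exact ⟨Submodule.equivMapOfInjective _ (H59.glEquiv ι F g).injective W,
    fun w => mem_isometryGroup.1 hg w⟩

theorem quad_rational [Finite F] {Q : (ι → F) → F} (hQ : IsNondegenerateQuadraticForm Q)
    (hn : 2 ≤ Fintype.card ι) {N : Subgroup (GL ι F)} (hN : gspan N = ⊤)
    (hI : N ≤ isometryGroup F Q) {F₁ : Subfield F} {τ : F →+* F} (hτ : ∀ x, x ∈ F₁ ↔ τ x = x)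
    {P : GL ι F} (hP : ∀ x ∈ N, Ent F₁ (cj P⁻¹ (x : Matrix ι ι F))) {ζ : F}
    (h : IsFormRationalStructure (QuadraticMap.polar Q) F₁ ζ P) :
    IsQuadFormRationalStructure (fun v => ζ * Q v) F₁ P := fun u hu => by
  by_cases h2 : (2 : F) = 0
  swap
  · have := div_mem (h u u hu hu) (natCast_mem F₁ 2)
    rwa [polar_self_eq hQ, Nat.cast_ofNat, mul_left_comm, mul_div_cancel_left₀ _ h2] at this
  let τ' := RingEquiv.ofBijective τ (Finite.injective_iff_bijective.1 τ.injective)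
  have h1 : ∀ x ∈ F₁, τ'.symm x = x := fun x hx => τ'.symm_apply_eq.2 ((hτ x).1 hx).symm
  let B := (oFrm hQ).tr (Equiv.refl ι) P
  have h3 : ∀ x y, ζ * QuadraticMap.polar Q ((P : Matrix ι ι F) *ᵥ x) ((P : Matrix ι ι F) *ᵥ y) =
      x ⬝ᵥ (ζ • gramMatrix B.f) *ᵥ y := fun x y => by
    rw [smul_mulVec, dotProduct_smul]
    exact congrArg (ζ * ·) (B.eq_dot x y)
  have h4 : ∀ x : ι → F, τ ∘ τ'.symm ∘ x = x := fun x => funext fun i => τ'.apply_symm_apply _
  have := (irr_of_gspan_eq_top (gspan_map_conj_eq_top hN P⁻¹)).eq_zero_of_additive hn h2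
    (D := fun v => τ (ζ * Q ((P : Matrix ι ι F) *ᵥ (τ'.symm ∘ v))) - ζ * Q ((P : Matrix ι ι F) *ᵥ v))
    (fun x y => by
      rw [show τ'.symm ∘ (x + y) = τ'.symm ∘ x + τ'.symm ∘ y from funext fun i => map_add _ _ _,
        mulVec_add, mulVec_add, quad_add (Q := Q), quad_add (Q := Q) (_ *ᵥ x), mul_add, mul_add,
        mul_add, mul_add, h3, h3, map_add, map_add, τ.map_dotProduct, h4,
        show τ ∘ (_ *ᵥ _) = _ from funext (τ.map_mulVec _ _), h4,
        Ent.map_eq hτ ((oFrm hQ).ent_gram h)]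
      ring)
    (fun c x => by
      rw [show τ'.symm ∘ (c • x) = τ'.symm c • τ'.symm ∘ x from funext fun i => map_mul _ _ _,
        mulVec_smul, mulVec_smul, hQ.smul, hQ.smul, mul_left_comm, map_mul, map_pow,
        show τ (τ'.symm c) = c from τ'.apply_symm_apply c]
      ring)
    (by
      rintro _ ⟨x, hx, rfl⟩ v hv
      have a1 : ∀ w, Q ((P : Matrix ι ι F) *ᵥ (cj P⁻¹ (x : Matrix ι ι F) *ᵥ w)) =
          Q ((P : Matrix ι ι F) *ᵥ w) := fun w => by
        rw [← cj_mulVec, cj_cj_inv, mem_isometryGroup.1 (hI hx)]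
      rw [show (((MulAut.conj P⁻¹).toMonoidHom x : GL ι F) : Matrix ι ι F) = cj P⁻¹ x from
        (cj_coe _ _).symm, Frm.map_mulVec_comp, show (cj P⁻¹ (x : Matrix ι ι F)).map τ'.symm = _ from
          Matrix.ext fun i j => h1 _ (hP x hx i j), a1, a1, hv]) u
  rw [show τ'.symm ∘ u = u from funext fun i => h1 _ (hu i), sub_eq_zero] at this
  exact (hτ _).2 this

theorem prime_card_of_bot_eq_top [Fintype F] (h : (⊥ : Subfield F) = ⊤) :
    (Fintype.card F).Prime := by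
  obtain ⟨p, hp, -, hpp, -⟩ := FiniteField.card' F
  have := Fact.mk hpp
  have h1 := Subfield.card_bot F p
  rw [h, Nat.card_congr Subfield.topEquiv.toEquiv, Nat.card_eq_fintype_card] at h1
  exact h1 ▸ hpp

/-- A transitive group on an orthogonal frame is defined over the prime field. -/
theorem rational_of_frame {Q : (ι → F) → F} (hQ : IsNondegenerateQuadraticForm Q)
    {H : Subgroup (GL ι F)} (hH : H ≤ isometryGroup F Q) {t : ℕ} {D : Fin t → Submodule F (ι → F)}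
    (hD : IsNondegenerateMDecomposition (QuadraticMap.polar Q) 1 D)
    (hS : H ≤ decompositionStabilizer D)
    (ht : ∀ i j, ∃ h ∈ H, (D i).map (Matrix.toLin' (h : Matrix ι ι F)) = D j) (F₁ : Subfield F) :
    ∃ (P : GL ι F) (ζ : F), ζ ≠ 0 ∧ IsQuadFormRationalStructure (fun v => ζ * Q v) F₁ P ∧
      H ≤ subfieldSubgroup F₁ P := by
  let B := oFrm hQ
  have hI := hH.trans (isometryGroup_le_Iso hQ)
  let i₀ : Fin t := ⟨0, by have := hD.decomp.two_le; omega⟩
  obtain ⟨v₀, hv₀, h0⟩ := Submodule.exists_mem_ne_zero_of_ne_bot (p := D i₀) fun h => by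
    have := hD.decomp.finrank_eq i₀
    rw [h, finrank_bot] at this
    exact zero_ne_one this
  choose g hg hg' using ht i₀
  let v : Fin t → ι → F := fun i => (g i : Matrix ι ι F) *ᵥ v₀
  have h1 : ∀ i, v i ∈ D i := fun i => hg' i ▸ ⟨v₀, hv₀, rfl⟩
  have h2 : ∀ i, ∀ w ∈ D i, ∃ c : F, c • v i = w := fun i w hw => by
    obtain ⟨c, hc⟩ := (finrank_eq_one_iff_of_nonzero' (⟨v i, h1 i⟩ : D i) fun h =>
      h0 (gl_mulVec_eq_zero (congrArg Subtype.val h))).1 (hD.decomp.finrank_eq i) ⟨w, hw⟩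
    exact ⟨c, congrArg Subtype.val hc⟩
  have h3 : ∀ i, B.f (v i) (v i) = B.f v₀ v₀ := fun i => hI (hg i) _ _
  have ha : B.f v₀ v₀ ≠ 0 := fun h => by
    obtain ⟨x, hx, hx'⟩ := (hD.nondegenerate i₀ _ (h1 i₀)
      fun h => h0 (gl_mulVec_eq_zero h)).1
    obtain ⟨c, rfl⟩ := h2 _ x hx
    exact hx' ((B.smul_left c _ _).trans (by rw [h3, h, mul_zero]))
  have h4 : ∀ i j, i ≠ j → B.f (v i) (v j) = 0 := fun i j hij => hD.orthogonal i j hij _ (h1 i) _ (h1 j)
  have hc : Fintype.card ι = Fintype.card (Fin t) := by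
    rw [← Module.finrank_fintype_fun_eq_card F]
    refine Module.finrank_eq_card_basis (Module.Basis.mk (v := v)
      (LinearMap.linearIndependent_of_isOrthoᵢ (B := B.toBilin rfl) h4 fun i h => ha ((h3 i).symm.trans h))
      (hD.decomp.iSup_eq_top.ge.trans (iSup_le fun i w hw => ?_)))
    obtain ⟨c, rfl⟩ := h2 i w hw
    exact Submodule.smul_mem _ c (Submodule.subset_span ⟨i, rfl⟩)
  let e := Fintype.equivOfCardEq hc
  obtain ⟨P, hP, hG⟩ := B.exists_frame rfl (v ∘ e) ha fun i j => by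
    split_ifs with hij
    · rw [hij]; exact h3 _
    · exact h4 _ _ (e.injective.ne hij)
  have h5 : (2 : F) ≠ 0 := fun h => ha ((polar_self_eq hQ v₀).trans (by rw [h, zero_mul]))
  refine ⟨P, _, inv_ne_zero ha, fun u hu => ?_, fun x hx => mem_subfieldSubgroup_iff.2
    ⟨1, one_ne_zero, fun r i => ?_⟩⟩
  · have a1 := (B.tr (Equiv.refl ι) P).dot_gram_self rfl u
    rw [hG, smul_mulVec, one_mulVec, dotProduct_smul, smul_eq_mul] at a1
    have a2 := a1.trans (polar_self_eq hQ _)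
    convert div_mem (sum_mem fun i _ => mul_mem (hu i) (hu i)) (natCast_mem F₁ 2) using 1
    rw [Nat.cast_ofNat, eq_div_iff h5, mul_assoc, mul_comm _ 2]
    erw [← a2]
    rw [inv_mul_cancel_left₀ ha]; rfl
  · obtain ⟨σ, hσ⟩ := hS hx
    obtain ⟨c, hc⟩ := h2 _ _ ((hσ (e i)).le ⟨_, h1 (e i), rfl⟩)
    replace hc : c • v (σ (e i)) = (x : Matrix ι ι F) *ᵥ v (e i) := hc
    have a1 : B.f ((x : Matrix ι ι F) *ᵥ v (e i)) ((x : Matrix ι ι F) *ᵥ v (e i)) = _ := hI hx _ _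
    rw [← hc, B.smul_left, (B.isBilinearForm rfl).smul_right, h3, h3, ← mul_assoc,
      mul_eq_right₀ ha, mul_self_eq_one_iff] at a1
    have a2 : cj P⁻¹ (x : Matrix ι ι F) *ᵥ Pi.single i 1 = c • Pi.single (e.symm (σ (e i))) 1 := by
      rw [← inv_mulVec_mulVec P (Pi.single i 1), cj_mulVec, hP, Function.comp_apply, ← hc,
        mulVec_smul, ← e.apply_symm_apply (σ (e i)), ← Function.comp_apply (f := v), ← hP,
        inv_mulVec_mulVec, e.apply_symm_apply]
    have a3 := congrFun a2 r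
    rw [mulVec_single_one, Pi.smul_apply, smul_eq_mul] at a3
    rw [one_smul, show cj P⁻¹ (x : Matrix ι ι F) r i = _ from a3]
    refine mul_mem ?_ (single_mem_subfield F₁ _ _)
    rcases a1 with rfl | rfl
    exacts [one_mem _, neg_mem (one_mem _)]

theorem tensor_pure_eq_zero {f : (ι → F) → (ι → F) → F} {k l : ℕ} {B₁ : Frm (Fin k) F}
    {B₂ : Frm (Fin l) F} (hσ₂ : B₂.σ = RingEquiv.refl F) (ha : ∀ v, B₂.f v v = 0)
    {e : ι ≃ Fin k × Fin l} {P : GL ι F} (h : IsTensorFormStructure id f B₁.f B₂.f e P)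
    (x₁ : Fin k → F) (x₂ : Fin l → F) :
    f (trV e P fun a => x₁ a.1 * x₂ a.2) (trV e P fun a => x₁ a.1 * x₂ a.2) = 0 := by
  obtain ⟨c, -, hc⟩ := h
  refine (hc _ _).trans ?_
  rw [formOfGram_eq_dot, Function.id_comp, kronecker_mulVec_pure]
  have := B₂.dot_gram_self hσ₂ x₂
  rw [ha] at this
  simp only [dotProduct, Fintype.sum_prod_type] at this ⊢
  rw [Finset.sum_eq_zero, mul_zero]
  intro i _
  rw [← mul_zero (x₁ i * (gramMatrix B₁.f *ᵥ x₁) i), ← this, Finset.mul_sum]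
  exact Finset.sum_congr rfl fun j _ => by ring

theorem power_pure_eq_zero {f : (ι → F) → (ι → F) → F} {k t : ℕ} (ht : 0 < t) {B₁ : Frm (Fin k) F}
    (hσ : B₁.σ = RingEquiv.refl F) (ha : ∀ v, B₁.f v v = 0) {e : ι ≃ (Fin t → Fin k)} {P : GL ι F}
    (h : IsTensorPowerFormStructure id f B₁.f e P) (x : Fin t → Fin k → F) :
    f (trV e P fun a => ∏ i, x i (a i)) (trV e P fun a => ∏ i, x i (a i)) = 0 := by
  obtain ⟨c, -, hc⟩ := h
  refine (hc _ _).trans ?_
  change c * formOfGram id (pure fun _ => gramMatrix B₁.f) _ _ = 0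
  rw [formOfGram_eq_dot, Function.id_comp, pure_mulVec_pure]
  have h1 := B₁.dot_gram_self hσ (x ⟨0, ht⟩)
  rw [ha] at h1
  have h3 := Finset.prod_univ_sum (fun _ : Fin t => (Finset.univ : Finset (Fin k)))
    fun i j => x i j * (gramMatrix B₁.f *ᵥ x i) j
  simp only [Fintype.piFinset_univ, Finset.prod_mul_distrib] at h3
  rw [dotProduct, ← h3, Finset.prod_eq_zero (Finset.mem_univ ⟨0, ht⟩) h1, mul_zero]

end H19
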