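import Cfsg.Agent.H14.Quasi
import Cfsg.Agent.H57.SLGen
import Cfsg.Agent.H2.PrimeCore

/-! The involution `diag(-1, …, -1, 1)` of a linear group and the copy of `SL(m)` in its
centraliser. -/

set_option autoImplicit false

namespace H19.Blk

open Cfsg Subgroup Matrix
open scoped MatrixGroups commutatorElement

variable {F : Type*} [Field F] {m : ℕ}

/-- block diagonal matrices of shape `m + 1` -/
def blk (g : Matrix (Fin m) (Fin m) F) (l : F) : Matrix (Fin (m + 1)) (Fin (m + 1)) F :=
  reindex finSumFinEquiv finSumFinEquiv (fromBlocks g 0 0 (scalar (Fin 1) l))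

theorem blk_mul (g h : Matrix (Fin m) (Fin m) F) (l k : F) :
    blk g l * blk h k = blk (g * h) (l * k) := by
  simp only [blk, reindex_apply, submatrix_mul_equiv, fromBlocks_multiply, map_mul]
  simp

theorem blk_one : blk (1 : Matrix (Fin m) (Fin m) F) 1 = 1 := by
  simp only [blk, map_one, fromBlocks_one, reindex_apply, submatrix_one_equiv]

theorem det_blk (g : Matrix (Fin m) (Fin m) F) (l : F) : (blk g l).det = g.det * l := by
  simp [blk, det_fromBlocks_zero₂₁]

theorem blk_inj {g h : Matrix (Fin m) (Fin m) F} {l k : F} (e : blk g l = blk h k) :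
    g = h ∧ l = k := by
  have := fromBlocks_inj.1 ((reindex _ _).injective e)
  exact ⟨this.1, by simpa using congrFun (congrFun this.2.2.2 0) 0⟩

theorem blk_diag : blk (-1 : Matrix (Fin m) (Fin m) F) 1 =
    diagonal fun i : Fin (m + 1) => if (i : ℕ) + 1 = m + 1 then (1 : F) else -1 := by
  rw [blk, ← diagonal_one, diagonal_neg, scalar_apply, fromBlocks_diagonal, reindex_apply,
    submatrix_diagonal_equiv]
  congr 1
  ext i
  obtain ⟨i, rfl⟩ := finSumFinEquiv.surjective i
  rcases i with i | i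
  · simp [i.2.ne]
  · simp

theorem exists_blk (h2 : (2 : F) ≠ 0) {x : Matrix (Fin (m + 1)) (Fin (m + 1)) F}
    (e : x * blk (-1) 1 = blk (-1) 1 * x) : ∃ g l, x = blk g l := by
  obtain ⟨y, rfl⟩ := (reindex finSumFinEquiv finSumFinEquiv).surjective x
  rw [← fromBlocks_toBlocks y] at e ⊢
  simp only [blk, reindex_apply, submatrix_mul_equiv, fromBlocks_multiply, map_one] at e
  have := fromBlocks_inj.1 ((reindex _ _).injective e)
  simp only [Matrix.mul_zero, Matrix.zero_mul, zero_add, add_zero, Matrix.mul_one, Matrix.one_mul,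
    Matrix.neg_mul, Matrix.mul_neg] at this
  have z : ∀ {a b : Type} (u : Matrix a b F), u = -u → u = 0 := fun u hu => by
    ext i j
    have : u i j = -u i j := congrFun (congrFun hu i) j
    exact (mul_eq_zero.1 (show 2 * u i j = 0 by linear_combination this)).resolve_left h2
  refine ⟨y.toBlocks₁₁, y.toBlocks₂₂ 0 0, ?_⟩
  rw [z _ this.2.1, z _ this.2.2.1.symm, blk]
  congr 2
  ext i j
  simp [Subsingleton.elim i 0, Subsingleton.elim j 0]

/-- the block embedding of `SL(m)` -/
def jS : SL(m, F) →* SL(m + 1, F) where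
  toFun g := ⟨blk g 1, by rw [det_blk, g.det_coe, mul_one]⟩
  map_one' := Subtype.ext blk_one
  map_mul' g h := Subtype.ext (by
    change blk (g.1 * h.1) 1 = blk g.1 1 * blk h.1 1
    rw [blk_mul, mul_one])

theorem quasi_sl [Fintype F] (hm : 2 ≤ m) (h : m = 2 → 4 ≤ Fintype.card F) :
    IsQuasisimple SL(m, F) := by
  refine ⟨⟨?_⟩, H57.psl_fin_isSimpleGroup hm h⟩
  rcases hm.eq_or_lt with rfl | k
  · classical
    obtain ⟨a, ha⟩ : ∃ a : F, a ∉ ({0, 1, -1} : Finset F) := by
      by_contra c
      push Not at c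
      have := Finset.card_le_card (show (Finset.univ : Finset F) ⊆ {0, 1, -1} from fun a _ => c a)
      have := h rfl
      have := Finset.card_le_three (a := (0 : F)) (b := 1) (c := -1)
      rw [Finset.card_univ] at *
      omega
    simp only [Finset.mem_insert, Finset.mem_singleton, not_or] at ha
    exact H57.sl_commutator_eq_top_of_sq_ne_one ha.1 fun e =>
      (sq_eq_one_iff.1 e).elim ha.2.1 ha.2.2
  · exact H57.sl_commutator_eq_top_of_three_le (by rw [Fintype.card_fin]; omega)

/-- a linear group containing the special linear group, with the involution `t` -/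
structure Dat {G : Type*} [Group G] (φ : G →* Matrix (Fin (m + 1)) (Fin (m + 1)) F)
    (s : SL(m + 1, F) →* G) (t : G) : Prop where
  two : (2 : F) ≠ 0
  inj : Function.Injective φ
  comp : ∀ g, φ (s g) = g
  ht : φ t = blk (-1) 1

namespace Dat

variable {G : Type*} [Group G] {φ : G →* Matrix (Fin (m + 1)) (Fin (m + 1)) F}
  {s : SL(m + 1, F) →* G} {t : G} (D : Dat φ s t)
include D

theorem mem_C {x : G} : x ∈ centralizer {t} ↔ ∃ g l, φ x = blk g l := by
  rw [mem_centralizer_singleton_iff]
  refine ⟨fun h => exists_blk D.two (by rw [← D.ht, ← map_mul, h, map_mul]), ?_⟩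
  rintro ⟨g, l, e⟩
  exact D.inj (by simp [e, D.ht, blk_mul])

theorem mem_L {x : G} : x ∈ (s.comp jS).range ↔ ∃ g, g.det = 1 ∧ φ x = blk g 1 := by
  constructor
  · rintro ⟨g, rfl⟩
    exact ⟨g, g.det_coe, D.comp _⟩
  · rintro ⟨g, h, e⟩
    exact ⟨⟨g, h⟩, D.inj ((D.comp _).trans e.symm)⟩

theorem L_le : (s.comp jS).range ≤ centralizer {t} := fun _ hx =>
  let ⟨g, _, e⟩ := D.mem_L.1 hx; D.mem_C.2 ⟨g, 1, e⟩

theorem comm_mem {x y : G} (hx : x ∈ centralizer {t}) (hy : y ∈ centralizer {t}) :
    ⁅x, y⁆ ∈ (s.comp jS).range := by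
  obtain ⟨g, l, e⟩ := D.mem_C.1 hx
  obtain ⟨h, k, f⟩ := D.mem_C.1 hy
  obtain ⟨g', l', e'⟩ := D.mem_C.1 (inv_mem hx)
  obtain ⟨h', k', f'⟩ := D.mem_C.1 (inv_mem hy)
  have a := blk_inj (show blk (g * g') (l * l') = blk 1 1 by
    rw [← blk_mul, ← e, ← e', ← map_mul, mul_inv_cancel, map_one, blk_one])
  have b := blk_inj (show blk (h * h') (k * k') = blk 1 1 by
    rw [← blk_mul, ← f, ← f', ← map_mul, mul_inv_cancel, map_one, blk_one])
  refine D.mem_L.2 ⟨g * h * g' * h', ?_, ?_⟩
  · have a1 := congrArg det a.1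
    have b1 := congrArg det b.1
    simp only [det_mul, det_one] at a1 b1 ⊢
    linear_combination (h.det * h'.det) * a1 + b1
  · rw [commutatorElement_def, map_mul, map_mul, map_mul, e, f, e', f', blk_mul, blk_mul, blk_mul]
    congr 1
    linear_combination (k * k') * a.2 + b.2

theorem normal : ((s.comp jS).range.subgroupOf (centralizer {t})).Normal :=
  ⟨fun x hx g => by
    have := (s.comp jS).range.mul_mem (D.comm_mem g.2 x.2) hx
    simpa [commutatorElement_def, mem_subgroupOf] using this⟩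

theorem j_inj : Function.Injective (s.comp jS) := fun g h e => by
  have := congrArg φ e
  rw [MonoidHom.comp_apply, MonoidHom.comp_apply, D.comp, D.comp] at this
  exact Subtype.ext (blk_inj this).1

theorem quasi (q : IsQuasisimple SL(m, F)) : IsQuasisimple (s.comp jS).range :=
  H14.quasi_of_mulEquiv q (MonoidHom.ofInjective D.j_inj)

theorem quasi' (q : IsQuasisimple SL(m, F)) :
    IsQuasisimple ((s.comp jS).range.subgroupOf (centralizer {t})) :=
  H14.quasi_of_mulEquiv (D.quasi q) (subgroupOfEquivOfLe D.L_le).symm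

theorem neg_ne : (-1 : F) ≠ 1 := fun e => D.two (by linear_combination -e)

theorem orderOf_t (hm : 1 ≤ m) : orderOf t = 2 := by
  refine orderOf_eq_prime (D.inj ?_) fun e => D.neg_ne ?_
  · rw [pow_two, map_mul, D.ht, blk_mul, map_one, ← blk_one]; simp
  · have := D.ht
    rw [e, map_one, ← blk_one] at this
    simpa using (congrFun (congrFun (blk_inj this).1 ⟨0, hm⟩) ⟨0, hm⟩).symm

theorem layer_eq (q : IsQuasisimple SL(m, F)) :
    (layer (centralizer {t} : Subgroup G)).map (centralizer {t}).subtype = (s.comp jS).range := by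
  rw [← map_subgroupOf_eq_of_le D.L_le]
  congr 1
  refine le_antisymm (sSup_le fun K hK => ?_) (le_sSup ⟨D.normal.isSubnormal, D.quasi' q⟩)
  rw [← H14.quasi_sub_perfect hK.2]
  exact commutator_le.2 fun x _ y _ => D.comm_mem x.2 y.2

theorem hasComponent [Finite G] (hm : 2 ≤ m) (q : IsQuasisimple SL(m, F)) :
    HasComponent ((centralizer {t} : Subgroup G) ⧸ oddCore (centralizer {t} : Subgroup G)) := by
  refine ⟨_, (D.normal.map _ (QuotientGroup.mk'_surjective _)).isSubnormal,
    H14.quasi_map (D.quasi' q) _ fun e => ?_⟩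
  rw [Subgroup.map_eq_bot_iff, QuotientGroup.ker_mk'] at e
  have ij : (⟨0, by omega⟩ : Fin m) ≠ ⟨1, hm⟩ := by simp
  let d : SL(m, F) := Matrix.SpecialLinearGroup.diag2n ij (-1) (by simp)
  have o : orderOf d = 2 := by
    refine orderOf_eq_prime (Subtype.ext ?_) fun e => D.neg_ne ?_
    · rw [Matrix.SpecialLinearGroup.coe_pow, Matrix.SpecialLinearGroup.diag2n_coe, diagonal_pow,
        Matrix.SpecialLinearGroup.coe_one, ← diagonal_one]
      congr 1
      ext k
      simp only [Pi.pow_apply]
      split_ifs <;> simp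
    · have := congrArg (fun x : SL(m, F) => x.1 ⟨0, by omega⟩ ⟨0, by omega⟩) e
      simpa [d, Matrix.SpecialLinearGroup.diag2n_coe] using this
  have := orderOf_dvd_natCard (⟨⟨s.comp jS d, D.L_le ⟨d, rfl⟩⟩, e ⟨d, rfl⟩⟩ :
    oddCore (centralizer {t} : Subgroup G))
  rw [← orderOf_coe, ← orderOf_coe, orderOf_injective _ D.j_inj, o] at this
  exact (H2.odd_card_oddCore _).not_two_dvd_nat this

theorem mem_K (he : Even m) {x : G} (hx : x ∈ centralizer ((s.comp jS).range : Set G)) :
    ∃ a l, φ x = blk (scalar _ a) l := by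
  have tL : t ∈ (s.comp jS).range := D.mem_L.2 ⟨-1, by simp [det_neg, he.neg_one_pow], D.ht⟩
  obtain ⟨g, l, e⟩ := D.mem_C.1 (mem_centralizer_singleton_iff.2 (hx t tL).symm)
  obtain ⟨a, rfl⟩ := mem_range_scalar_of_commute_transvectionStruct (M := g) fun u => by
    have := congrArg φ (hx _ ⟨u.toSpecialLinearGroup, rfl⟩)
    rw [map_mul, map_mul, e, MonoidHom.comp_apply, D.comp] at this
    change blk u.toMatrix 1 * _ = _ * blk u.toMatrix 1 at this
    rw [blk_mul, blk_mul] at this
    exact (blk_inj this).1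
  exact ⟨a, l, e⟩

theorem t_mem_K : t ∈ centralizer ((s.comp jS).range : Set G) := fun _ hx =>
  mem_centralizer_singleton_iff.1 (D.L_le hx)

theorem standard [Finite G] (hm : 1 ≤ m) (he : Even m) (q : IsQuasisimple SL(m, F))
    (hd : ∀ x, (φ x).det = 1) : IsStandardSubgroup (s.comp jS).range := by
  set L := (s.comp jS).range
  have u : ∀ x ∈ centralizer (L : Set G), orderOf x = 2 → x = t := fun x hx o => by
    obtain ⟨a, l, e⟩ := D.mem_K he hx
    have h1 : blk (scalar (Fin m) (a * a)) (l * l) = blk 1 1 := by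
      rw [map_mul, ← blk_mul, ← e, ← map_mul, ← pow_two, ← o, pow_orderOf_eq_one, map_one, blk_one]
    have h2 : a * a = 1 := by
      simpa using congrFun (congrFun (blk_inj h1).1 ⟨0, hm⟩) ⟨0, hm⟩
    have h3 := hd x
    rw [e, det_blk, scalar_apply, det_diagonal, Finset.prod_const, Finset.card_univ,
      Fintype.card_fin] at h3
    rcases mul_self_eq_one_iff.1 h2 with rfl | rfl
    · rw [one_pow, one_mul] at h3
      rw [h3, map_one, blk_one, ← map_one φ] at e
      rw [D.inj e, orderOf_one] at o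
      omega
    · rw [he.neg_one_pow, one_mul] at h3
      rw [h3, map_neg, map_one, ← D.ht] at e
      exact D.inj e
  have n1 : centralizer {t} ≤ normalizer (L : Set G) := by
    have := D.normal
    exact le_normalizer_of_normal_subgroupOf D.L_le
  have n2 : normalizer (L : Set G) ≤ normalizer (centralizer (L : Set G) : Set G) :=
    le_normalizer_of_normal_subgroupOf (centralizer_le_normalizer _)
  have ot := D.orderOf_t hm
  refine ⟨D.quasi q, ⟨?_, fun g hg => ?_⟩, fun g _ e => ?_, le_antisymm n2 fun g hg => n1 ?_⟩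
  · rw [even_iff_two_dvd, ← ot]
    exact orderOf_dvd_natCard _ D.t_mem_K
  · by_contra c
    obtain ⟨⟨x, hx, y, hy, rfl⟩, o⟩ := exists_prime_orderOf_dvd_card' 2
      (even_iff_two_dvd.1 (Nat.not_odd_iff_even.1 c))
    rw [← orderOf_coe] at o
    have e1 := u _ hx o
    rw [u y hy ((MulEquiv.orderOf_eq (MulAut.conj g) y).symm.trans o)] at e1
    exact hg (n2 (n1 (mem_centralizer_singleton_iff.2 (mul_inv_eq_iff_eq_mul.1 e1))))
  · have q' := (H14.quasi_map_iff_of_injective (MulAut.conj g).toMonoidHom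
      (MulAut.conj g).injective).2 (D.quasi q)
    rw [commutator_comm, commutator_eq_bot_iff_le_centralizer] at e
    refine H14.quasi_not_comm q' ⟨⟨fun x y => Subtype.ext (D.inj ?_)⟩⟩
    obtain ⟨a, l, e1⟩ := D.mem_K he (e x.2)
    obtain ⟨b, k, e2⟩ := D.mem_K he (e y.2)
    rw [coe_mul, coe_mul, map_mul, map_mul, e1, e2, blk_mul, blk_mul, ← map_mul, ← map_mul,
      mul_comm a, mul_comm l]
  · have := u _ ((mem_normalizer_iff.1 hg t).1 D.t_mem_K)
      ((MulEquiv.orderOf_eq (MulAut.conj g) t).trans ot)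
    exact mem_centralizer_singleton_iff.2 (mul_inv_eq_iff_eq_mul.1 this)

end Dat

theorem two_ne [Fintype F] (hF : Odd (Fintype.card F)) : (2 : F) ≠ 0 := fun e => by
  obtain ⟨k, hk⟩ := hF
  have := FiniteField.cast_card_eq_zero F
  rw [hk] at this
  push_cast at this
  rw [e] at this
  simp at this

end H19.Blk
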