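import Cfsg.Agent.H56.CySpec

/-! Slot CY-CYC of tower S3916: the Sylow 2-subgroup is cyclic. -/

set_option autoImplicit false

namespace H19.CyCYC

open Subgroup
open scoped commutatorElement

universe u

theorem comm_le_frattini {P : Type u} [Group P] [Finite P] [Group.IsNilpotent P] :
    commutator P ≤ frattini P := by
  rw [frattini, Order.radical]
  refine le_iInf₂ fun M hM => ?_
  have hM : IsCoatom M := hM
  have hn : M.Normal :=
    NormalizerCondition.normal_of_coatom M Group.normalizerCondition_of_isNilpotent hM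
  rw [_root_.commutator_def, commutator_le]
  intro x _ y _
  by_cases hx : x ∈ M
  · have : x * (y * x⁻¹ * y⁻¹) ∈ M := M.mul_mem hx (hn.conj_mem _ (M.inv_mem hx) y)
    simpa [commutatorElement_def, mul_assoc] using this
  · have htop : M ⊔ zpowers x = ⊤ := by
      apply hM.2
      refine lt_of_le_of_ne le_sup_left fun h => hx ?_
      rw [h]
      exact (le_sup_right : zpowers x ≤ M ⊔ zpowers x) (mem_zpowers x)
    have hy : y ∈ ((M ⊔ zpowers x : Subgroup P) : Set P) := by rw [htop]; trivial
    rw [normal_mul] at hy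
    obtain ⟨m, hm, z, hz, rfl⟩ := hy
    obtain ⟨k, rfl⟩ := mem_zpowers_iff.1 hz
    have h1 : x * m * x⁻¹ * m⁻¹ ∈ M := M.mul_mem (hn.conj_mem _ hm x) (M.inv_mem hm)
    have h2 : x * (m * x ^ k) * x⁻¹ * (m * x ^ k)⁻¹ = x * m * x⁻¹ * m⁻¹ := by group
    simp only [commutatorElement_def]
    rw [h2]
    exact h1

theorem cent_eq {H : Type u} [Group H] {a b : H} (h : zpowers a = zpowers b) :
    centralizer ({a} : Set H) = centralizer ({b} : Set H) := by
  have key : ∀ {a b : H}, zpowers a = zpowers b →
      centralizer ({a} : Set H) ≤ centralizer ({b} : Set H) := by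
    intro a b h x hx
    rw [mem_centralizer_singleton_iff] at hx ⊢
    have hb : b ∈ zpowers a := h ▸ mem_zpowers b
    obtain ⟨k, rfl⟩ := mem_zpowers_iff.1 hb
    exact (Commute.zpow_right (show Commute x a from hx) k).eq
  exact le_antisymm (key h) (key h.symm)

theorem card_cent {H : Type u} [Group H] (α : H ≃* H) (a : H) :
    Nat.card (centralizer ({α a} : Set H)) = Nat.card (centralizer ({a} : Set H)) := by
  symm
  refine Nat.card_congr (Equiv.subtypeEquiv α.toEquiv fun x => ?_)
  rw [mem_centralizer_singleton_iff, mem_centralizer_singleton_iff]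
  constructor
  · intro h
    have := congrArg α h
    simpa using this
  · intro h
    apply α.injective
    simpa using h

theorem job : H56.CY.JobCYC.{u} := by
  intro fc tr H _ _ S T hS hSc hyp
  have : Fact (Nat.Prime 2) := ⟨Nat.prime_two⟩
  have hSn : S.Normal := normal_of_index_eq_two hS
  obtain ⟨t, htT, htS, hfix⟩ := tr H S T hS hSc
  have two : ∀ g ∈ (T : Subgroup H), ∃ n : ℕ, g ^ 2 ^ n = 1 := by
    intro g hg
    obtain ⟨n, hn⟩ := T.isPGroup' ⟨g, hg⟩
    exact ⟨n, by simpa using congrArg Subtype.val hn⟩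
  have hc : ∀ g : H, g ∉ S → (∃ n : ℕ, g ^ 2 ^ n = 1) →
      Nat.card (centralizer ({g} : Set H)) = Nat.card (centralizer ({t} : Set H)) := by
    intro g hg h2
    obtain ⟨α, -, hα⟩ := hyp t g htS hg (two t htT) h2
    rw [← cent_eq hα, card_cent]
  have hFC := fc H S T _ hS hc
  set M : Subgroup H := zpowers t ⊔ ⁅(T : Subgroup H), (T : Subgroup H)⁆ with hM
  have htM : t ∈ M := (le_sup_left : zpowers t ≤ M) (mem_zpowers t)
  have hcM : ⁅(T : Subgroup H), (T : Subgroup H)⁆ ≤ M := le_sup_right
  have out : ∀ b ∈ (T : Subgroup H), b ∉ S → b ∈ M := by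
    intro b hbT hbS
    obtain ⟨α, hαS, hα⟩ := hyp t b htS hbS (two t htT) (two b hbT)
    have hsurj : Function.Surjective (α.toMonoidHom) := α.surjective
    obtain ⟨h, hh⟩ := MulAction.exists_smul_eq H (T.mapSurjective hsurj) T
    let β : H ≃* H := α.trans (MulAut.conj h)
    have hβ : ∀ x, β x = h * α x * h⁻¹ := fun x => rfl
    have hβS : ∀ x, β x ∈ S ↔ x ∈ S := by
      intro x
      rw [hβ, ← hαS x]
      constructor
      · intro hx
        have := hSn.conj_mem _ hx h⁻¹
        simpa [mul_assoc] using this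
      · intro hx
        exact hSn.conj_mem _ hx h
    have hβT : ∀ x, β x ∈ (T : Subgroup H) ↔ x ∈ (T : Subgroup H) := by
      intro x
      have h1 : β x ∈ (T : Subgroup H) ↔
          β x ∈ ((h • T.mapSurjective hsurj : Sylow 2 H) : Subgroup H) := by rw [hh]
      rw [h1, Sylow.coe_subgroup_smul, mem_pointwise_smul_iff_inv_smul_mem,
        Sylow.coe_mapSurjective]
      have h2 : (MulAut.conj h)⁻¹ • β x = α x := by
        rw [hβ]; simp [MulAut.smul_def, mul_assoc]
      rw [h2]
      constructor
      · rintro ⟨y, hy, hyx⟩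
        have : y = x := α.injective hyx
        exact this ▸ hy
      · intro hx
        exact ⟨x, hx, rfl⟩
    have h1 : β t ∈ M := by
      have := M.mul_mem htM (hcM (hfix β hβS hβT))
      simpa using this
    have h2 : β t ∈ (T : Subgroup H) := (hβT t).2 htT
    have h3 : β t ∉ S := fun hx => htS ((hβS t).1 hx)
    have h4 : α t ∈ (T : Subgroup H) := by
      have : α t ∈ zpowers b := hα ▸ mem_zpowers _
      exact (zpowers_le.2 hbT) this
    have h5 : IsConj (β t) (α t) := by
      rw [isConj_iff]
      exact ⟨h⁻¹, by rw [hβ]; group⟩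
    obtain ⟨v, hvT, hv⟩ := hFC (β t) h2 (α t) h4 h3 h5
    have h6 : α t ∈ M := by
      have h7 : ⁅v, β t⁆ ∈ M := hcM (commutator_mem_commutator hvT h2)
      have := M.mul_mem h7 h1
      rw [← hv]
      simpa [commutatorElement_def] using this
    have : b ∈ zpowers (α t) := hα ▸ mem_zpowers b
    exact (zpowers_le.2 h6) this
  have hTM : (T : Subgroup H) ≤ M := by
    intro s hs
    by_cases hsS : s ∈ S
    · have h1 : s * t ∉ S := fun h => htS (by simpa using S.mul_mem (S.inv_mem hsS) h)
      have := M.mul_mem (out _ ((T : Subgroup H).mul_mem hs htT) h1) (M.inv_mem htM)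
      simpa using this
    · exact out s hs hsS
  have : Group.IsNilpotent (T : Subgroup H) := T.isPGroup'.isNilpotent
  let t' : (T : Subgroup H) := ⟨t, htT⟩
  have hmap : (zpowers t' ⊔ commutator (T : Subgroup H)).map (T : Subgroup H).subtype = M := by
    rw [Subgroup.map_sup, MonoidHom.map_zpowers, _root_.commutator_def, map_commutator,
      ← MonoidHom.range_eq_map, range_subtype]
    rfl
  have htop : zpowers t' ⊔ commutator (T : Subgroup H) = ⊤ := by
    rw [eq_top_iff]
    intro x _
    have hx : (x : H) ∈ M := hTM x.2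
    rw [← hmap] at hx
    obtain ⟨y, hy, hyx⟩ := hx
    have : y = x := Subtype.ext hyx
    exact this ▸ hy
  have htop2 : zpowers t' = ⊤ := by
    apply frattini_nongenerating
    rw [eq_top_iff, ← htop]
    exact sup_le_sup_left comm_le_frattini _
  exact ⟨⟨t', fun x => by
    have : x ∈ zpowers t' := htop2 ▸ mem_top x
    exact this⟩⟩

end H19.CyCYC
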