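import Cfsg.Agent.H26.DP0ASpec
import Cfsg.Agent.S4215

/-! # S3275, chapter U0, section A: the transfer step. -/

set_option autoImplicit false

namespace H19.DP0ATF

open Subgroup Cfsg H98 H48.DP H57.DPC H48.DP2

universe u

theorem e27_cj {G : Type u} [Group G] (g : G) {B : Subgroup G} (h : E27 B) : E27 (cj g B) := by
  refine ⟨⟨?_, ?_⟩, ?_⟩
  · have := h.1.1
    infer_instance
  · intro a ha
    have h1 := h.1.2 _ (mem_cj.1 ha)
    have h2 : (g⁻¹ * a * g) ^ 3 = g⁻¹ * a ^ 3 * g := by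
      simp only [pow_succ, pow_zero, one_mul]; group
    rw [h2] at h1
    have h3 : a ^ 3 = g * (g⁻¹ * a ^ 3 * g) * g⁻¹ := by group
    rw [h3, h1]; group
  · rw [card_cj]; exact h.2

theorem res_top {G : Type u} [Group G] [Finite G] (hs : IsSimpleGroup G)
    (he : Even (Nat.card G)) : pResidual 3 G = ⊤ := by
  have hn : (pResidual 3 G).Normal := by
    refine ⟨fun x hx g => ?_⟩
    have hle : cj g (pResidual 3 G) ≤ pResidual 3 G := by
      unfold pResidual
      rw [cj, MonoidHom.map_closure]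
      apply Subgroup.closure_mono
      rintro _ ⟨a, ha, rfl⟩
      have : orderOf ((MulAut.conj g).toMonoidHom a) = orderOf a :=
        orderOf_injective _ (MulAut.conj g).injective a
      simp only [Set.mem_ofPred_eq] at ha ⊢
      rw [this]; exact ha
    exact hle (conj_mem_cj hx)
  rcases hn.eq_bot_or_eq_top with h | h
  · exfalso
    have : Fact (Nat.Prime 2) := ⟨Nat.prime_two⟩
    obtain ⟨t, ht⟩ := exists_prime_orderOf_dvd_card' (G := G) 2 he.two_dvd
    have : t ∈ pResidual 3 G := subset_closure (by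
      simp only [Set.mem_ofPred_eq]; rw [ht]; decide)
    rw [h, mem_bot] at this
    rw [this, orderOf_one] at ht
    exact absurd ht (by decide)
  · exact h

theorem jobTF : H26.DA.JobTF.{u} := by
  intro G _ _ M Q L P y hU hPM hy hUn hL
  obtain ⟨B, hBP, hB, huniq⟩ := hUn
  have : Fact (Nat.Prime 3) := ⟨Nat.prime_three⟩
  have hw : IsWeaklyClosed B (P : Subgroup G) :=
    ⟨hBP, fun g hg => huniq _ hg (e27_cj g hB)⟩
  have hPN : (P : Subgroup G) ≤ No B := fun u hu =>
    cj_eq_self_iff.1 (huniq _ (cj_le_of_le_of_mem hBP hu) (e27_cj u hB))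
  have hcomm : ∀ a ∈ B, ∀ b ∈ B, a * b = b * a := fun a ha b hb => by
    have := hB.1.1
    exact congrArg Subtype.val (mul_comm' (⟨a, ha⟩ : B) ⟨b, hb⟩)
  have heng : ∀ u ∈ (P : Subgroup G), ∀ z ∈ B,
      (fun y : G => y⁻¹ * z⁻¹ * y * z)^[3 - 1] u = 1 := by
    intro u hu z hz
    have h1 : u⁻¹ * z⁻¹ * u ∈ B := conj_mem_of_mem_normalizer' (hPN hu) (B.inv_mem hz)
    have h2 : u⁻¹ * z⁻¹ * u * z ∈ B := B.mul_mem h1 hz
    show (u⁻¹ * z⁻¹ * u * z)⁻¹ * z⁻¹ * (u⁻¹ * z⁻¹ * u * z) * z = 1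
    generalize u⁻¹ * z⁻¹ * u * z = w at h2
    have h3 := hcomm w h2 z hz
    calc w⁻¹ * z⁻¹ * w * z = w⁻¹ * z⁻¹ * (w * z) := by group
      _ = w⁻¹ * z⁻¹ * (z * w) := by rw [h3]
      _ = 1 := by group
  have hS := Cfsg.Agent.S4215.result P B hw heng
  rw [res_top hU.simple hU.char.1, top_inf_eq] at hS
  have hNM : No B ≤ M := fun g hg =>
    hU.t27 B g hB (hBP.trans hPM) (by rw [cj_eq_self hg]; exact hBP.trans hPM)
  have hle : pResidualOf 3 (No B) ≤ L := by
    unfold pResidualOf pResidual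
    rw [map_le_iff_le_comap, closure_le]
    intro a ha
    simp only [Set.mem_ofPred_eq] at ha
    exact hL a (hNM a.2) (by rw [Subgroup.orderOf_coe]; exact ha)
  apply hle
  rw [show pResidualOf 3 (No B) = No B from hS]
  exact hPN hy

end H19.DP0ATF
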