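import Cfsg.Agent.H92.DP0BSpec
import Cfsg.Agent.H9.Critical
import Cfsg.Agent.H14.FStar

/-! # S3275, chapter U0, section B: a normal subgroup of exponent 3 with 3-group centraliser. -/

set_option autoImplicit false

namespace H19.DP0BXD1

open Subgroup Cfsg H98 H48.DP H57.DPC H48.DP2

universe u

theorem jobXD1 : H92.DPB.JobXD1.{u} := by
  intro X _ _ ho hc
  have : Fact (Nat.Prime 3) := ⟨Nat.prime_three⟩
  have hl : layer X = ⊥ := by
    unfold layer
    rw [sSup_eq_bot]
    intro K hK
    exact absurd hK (hc K)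
  have hcen := H14.centralizer_pCore_le_of_fstar_eq (H14.fstar_eq_pCore_of (p := 3) hl ho)
  have hR : IsPGroup 3 (pCore 3 X) := H2.pCore_isPGroup 3 X
  obtain ⟨H, hch, hex, -, -, hf⟩ :=
    H9.exists_characteristic_exponent_p_faithful (p := 3) (by decide) hR
  refine ⟨H.map (pCore 3 X).subtype, inferInstance, ?_, ?_⟩
  · rintro _ ⟨d, hd, rfl⟩
    exact congrArg Subtype.val (hex d hd)
  · have key : ∀ a : X, a ∈ Ce (H.map (pCore 3 X).subtype) → (orderOf a).Coprime 3 → a = 1 := by
      intro a ha hco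
      have h1 : MulAut.conjNormal (H := pCore 3 X) a = 1 := by
        refine hf _ (Nat.Coprime.coprime_dvd_left (orderOf_map_dvd _ a) hco) fun x hx => ?_
        apply Subtype.ext
        have h2 : (x : X) * a = a * x := ha _ ⟨x, hx, rfl⟩
        rw [MulAut.conjNormal_apply, ← h2, mul_inv_cancel_right]
      have h3 : a ∈ centralizer (pCore 3 X : Set X) := fun x hx => by
        have h4 := congrArg (fun φ : MulAut (pCore 3 X) => ((φ ⟨x, hx⟩ : pCore 3 X) : X)) h1
        simp only [MulAut.conjNormal_apply, MulAut.one_apply] at h4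
        calc x * a = a * x * a⁻¹ * a := by rw [h4]
          _ = a * x := by group
      obtain ⟨k, hk⟩ := hR ⟨a, hcen h3⟩
      have h5 : a ^ 3 ^ k = 1 := congrArg Subtype.val hk
      have h6 : orderOf a ∣ 3 ^ k := orderOf_dvd_of_pow_eq_one h5
      exact orderOf_eq_one_iff.1 (Nat.Coprime.eq_one_of_dvd (hco.pow_right k) h6)
    intro g
    obtain ⟨k, m, hm, e⟩ := Nat.exists_eq_pow_mul_and_not_dvd (orderOf_pos (g : X)).ne' 3 (by decide)
    refine ⟨k, Subtype.ext ?_⟩
    show (g : X) ^ 3 ^ k = 1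
    apply key _ (pow_mem g.2 _)
    have h7 : orderOf ((g : X) ^ 3 ^ k) ∣ m := by
      apply orderOf_dvd_of_pow_eq_one
      rw [← pow_mul, ← e, pow_orderOf_eq_one]
    exact Nat.Coprime.coprime_dvd_left h7
      ((Nat.Prime.coprime_iff_not_dvd Nat.prime_three).2 hm).symm

end H19.DP0BXD1
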