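import Cfsg.Agent.H57.U2CSpec
import Cfsg.Agent.H92.DP0BSpec

/-! # S3275, chapter U2F: the case of a cyclic `Y`. -/

set_option autoImplicit false

namespace H19.DPVTZ

open Subgroup Cfsg H98 H48.DP H57.DPC H48.DP2 H57.U2C

universe u

/-- The central elements of order dividing 3 of `F` that lie in `C`. -/
def Ez {G : Type u} [Group G] (C F : Subgroup G) (h : C ≤ F) : Subgroup G where
  carrier := {e | e ∈ C ∧ e ∈ Ce F ∧ e ^ 3 = 1}
  one_mem' := ⟨one_mem _, one_mem _, one_pow _⟩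
  mul_mem' := fun {a b} ha hb => ⟨mul_mem ha.1 hb.1, mul_mem ha.2.1 hb.2.1, by
    have hc : Commute b a := ha.2.1 b (h hb.1)
    rw [hc.symm.mul_pow, ha.2.2, hb.2.2, one_mul]⟩
  inv_mem' := fun {a} ha => ⟨inv_mem ha.1, inv_mem ha.2.1, by rw [inv_pow, ha.2.2, inv_one]⟩

theorem jobTZ : JobTZ.{u} := by
  intro kk nl G _ _ M Q T R Q₀ F C y t x sb hCF hFC hxF hxC hx hF hTC hTx hCZ hn hxZ
  have : Fact (Nat.Prime 3) := ⟨Nat.prime_three⟩
  have : Fact (Nat.Prime 2) := ⟨Nat.prime_two⟩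
  have x3 : x ^ 3 = 1 := hx ▸ pow_orderOf_eq_one x
  have x1 : x ≠ 1 := fun e => hxC (e ▸ one_mem C)
  obtain ⟨E, hE⟩ : ∃ E : Subgroup G, ∀ e, e ∈ E ↔ e ∈ C ∧ e ∈ Ce F ∧ e ^ 3 = 1 :=
    ⟨Ez C F hCF, fun _ => Iff.rfl⟩
  have hEC : E ≤ C := fun e he => ((hE e).1 he).1
  have hEF : E ≤ F := hEC.trans hCF
  have hcm : ∀ e ∈ E, ∀ f ∈ F, Commute e f := fun e he f hf =>
    Commute.symm (((hE e).1 he).2.1 f hf)
  have ea : IsElementaryAbelian 3 E :=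
    H92.DPB.el_of (fun a ha b hb => hcm a ha b (hEF hb)) fun a ha => ((hE a).1 ha).2.2
  have hxE : x ∉ E := fun h => hxC (hEC h)
  have hUF : E ⊔ zpowers x ≤ F := sup_le hEF (zpowers_le_of_mem hxF)
  have eaU : IsElementaryAbelian 3 (E ⊔ zpowers x) :=
    H92.DPB.el_sup ea (H92.DPB.el_zp x3) fun a ha b hb => hcm a ha b (zpowers_le_of_mem hxF hb)
  have cU : Nat.card ↥(E ⊔ zpowers x) = Nat.card E * 3 :=
    H92.DPB.card_sup_zp ea x3 (fun a ha => hcm a ha x hxF) hxE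
  have hd : Disjoint F Q₀ :=
    IsPGroup.disjoint_of_ne 3 2 (by decide) _ _ sb.kq.F3 (sb.kq.T2.to_le sb.kq.le)
  have kE : T ≤ No (Q₀ ⊔ E) := by
    intro s hs
    obtain ⟨φ, hφ⟩ := (kk G T Q₀ F sb.kq).2.2.2.2.2.2 s hs
    apply mem_normalizer_of_cj_le
    rw [cj_sup]
    refine sup_le ((cj_eq_self (sb.kq.TQ hs)).le.trans le_sup_left) ?_
    rintro _ ⟨e, he, rfl⟩
    change s * e * s⁻¹ ∈ Q₀ ⊔ E
    have h1 := hφ ⟨e, hEF he⟩
    have h2 : s * e * s⁻¹ ∈ C ⊔ Q₀ := by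
      rw [sup_comm]
      exact conj_mem_of_mem_normalizer (hTC hs) (mem_sup_right (hEC he))
    obtain ⟨c, hc, q, hq, e1⟩ := (mem_sup_left_norm (hCF.trans sb.kq.FQ)).1 h2
    have h3 : ((φ ⟨e, hEF he⟩ : F) : G)⁻¹ * c ∈ Q₀ := by
      have := Q₀.mul_mem h1 (Q₀.inv_mem hq)
      change _ * (s * e * s⁻¹) * q⁻¹ ∈ Q₀ at this
      rwa [e1, mul_assoc, mul_inv_cancel_right] at this
    have h4 : ((φ ⟨e, hEF he⟩ : F) : G)⁻¹ * c = 1 :=
      (disjoint_def.1 hd) (F.mul_mem (F.inv_mem (φ _).2) (hCF hc)) h3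
    rw [inv_mul_eq_one] at h4
    have h5 : c ∈ E := by
      refine (hE c).2 ⟨hc, fun f hf => ?_, ?_⟩
      · obtain ⟨g, hg⟩ := φ.surjective ⟨f, hf⟩
        have h6 : Commute (⟨e, hEF he⟩ : F) g := Subtype.ext (hcm e he g g.2)
        have h7 := congrArg Subtype.val (h6.map φ).eq
        rw [hg] at h7
        rw [← h4]
        exact h7.symm
      · have h6 : (⟨e, hEF he⟩ : F) ^ 3 = 1 := Subtype.ext ((hE e).1 he).2.2
        have h7 : φ ⟨e, hEF he⟩ ^ 3 = 1 := by rw [← map_pow, h6, map_one]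
        rw [← h4]
        exact congrArg Subtype.val h7
    rw [e1]
    exact mul_mem (mem_sup_right h5) (mem_sup_left hq)
  have kU : T ≤ No (Q₀ ⊔ (E ⊔ zpowers x)) := by
    rw [sup_sup_distrib_left]
    exact le_normalizer_sup kE hTx
  have hC : C ≠ ⊥ := by
    intro e
    obtain ⟨B, hB, -, hB'⟩ := sb.e27
    have := card_le_of_le hB
    rw [hF, e, bot_sup_eq, Nat.card_zpowers, hx] at this
    omega
  have hE1 : E ≠ ⊥ := by
    have h1 := inf_centralizer_ne_bot (p := 3) (sb.kq.F3.to_le hCF) sb.kq.F3 hFC hC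
    have h2 : IsPGroup 3 ↥(C ⊓ Ce F) := sb.kq.F3.to_le (inf_le_left.trans hCF)
    have : Nontrivial ↥(C ⊓ Ce F) := (nontrivial_iff_ne_bot _).2 h1
    obtain ⟨n, hn0, hn1⟩ := h2.nontrivial_iff_card.1 this
    obtain ⟨a, ha⟩ := exists_prime_orderOf_dvd_card' (G := ↥(C ⊓ Ce F)) 3
      (hn1 ▸ dvd_pow_self 3 hn0.ne')
    intro e
    have h3 : (a : G) ∈ E := (hE a).2 ⟨a.2.1, a.2.2, by
      have : a ^ 3 = 1 := ha ▸ pow_orderOf_eq_one a
      exact congrArg Subtype.val this⟩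
    rw [e, mem_bot] at h3
    rw [show a = 1 from Subtype.ext h3, orderOf_one] at ha
    omega
  have c9 : Nat.card E = 9 := by
    obtain ⟨k, hk⟩ := IsPGroup.iff_card.1 (H92.DPB.el_pg ea)
    rcases k with _ | _ | _ | k
    · exact absurd (card_eq_one.1 hk) hE1
    · exact absurd hTx (nl G M Q T R Q₀ F (E ⊔ zpowers x) y t x sb hUF eaU (by rw [cU, hk]; rfl) kU
        (mem_sup_right (mem_zpowers x)) x1)
    · rw [hk]; rfl
    · refine absurd ⟨E, hEC, ea, ?_⟩ hn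
      rw [hk]
      exact Nat.pow_le_pow_right (n := 3) (by decide) (by omega : 3 ≤ k + 1 + 1 + 1)
  exact ⟨E, ⟨sb.toCt, sb.QQ, ⟨sb.kq.T2, sb.kq.F3.to_le hUF, sb.kq.le, sb.kq.TQ, hUF.trans sb.kq.FQ, kU⟩,
    hUF.trans sb.FM, ⟨_, le_rfl, eaU, by rw [cU, c9]⟩⟩, ea, c9, hx,
    fun e he => mem_centralizer_singleton_iff.2 (hcm e he x hxF).eq, kE, hTx, hEC.trans hCZ, hxZ⟩

end H19.DPVTZ
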