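import Cfsg.Agent.H19.F2Spec
import Cfsg.Agent.H57.F2Spec

/-! F2 tower (row S3817): the bridge `JobBr` and the row from `H57.F2.Main`. -/

set_option autoImplicit false

namespace H19.F2

open Cfsg Subgroup H98 H57.F2

universe u

theorem jobBr : JobBr.{u} := by
  intro G _ _ _ p x hp ⟨k, hk⟩
  have := Fact.mk hp
  constructor
  · intro h q hq y hy ⟨l, hl⟩
    have := Fact.mk hq.1
    have h1 : ncl ⊤ (zpowers x) ≤ (pCore p (G ⧸ fittingSubgroup G)).comap
        (QuotientGroup.mk' (fittingSubgroup G)) := ncl_le (zpowers_le.2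
      (H2.le_pCore_of_le_fitting (zp_pg (k := k) (by rw [← map_pow, hk, map_one])) (zpowers_le.2 h)
        (mem_zpowers _))) le_normalizer_of_normal
    have h2 := (inf_eq_bot_ne hp hq.1 hq.2.symm (isPGroup_pCore p _)
      (zp_pg (x := QuotientGroup.mk' (fittingSubgroup G) y) (k := l)
        (by rw [← map_pow, hl, map_one]))).le ⟨h1 hy, mem_zpowers _⟩
    rw [pCoreOf_top]
    exact H2.le_pCore_of_le_fitting (zp_pg hl) (zpowers_le.2 ((QuotientGroup.eq_one_iff y).1 h2))
      (mem_zpowers y)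
  · intro h
    have h1 : IsPGroup p ((ncl ⊤ (zpowers x)).map (QuotientGroup.mk' (fittingSubgroup G))) :=
      (isPGroup_map_iff _ _).2 (res_le_of_forall_prime fun q hq hne y hy hk => by
        have := Fact.mk hq
        rw [QuotientGroup.ker_mk']
        exact H2.pCore_le_fitting q G (pCoreOf_top (p := q) (G := G) ▸ h q ⟨hq, hne⟩ y hy hk))
    have : (ncl ⊤ (zpowers x)).Normal := by rw [ncl_top]; infer_instance
    have := this.map _ (QuotientGroup.mk'_surjective (fittingSubgroup G))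
    exact H2.le_fitting_of_isPGroup h1 (mem_map_of_mem _ (le_ncl _ _ (mem_zpowers x)))

theorem bridge (G : Type u) [Group G] [Finite G] [(fittingSubgroup G).Normal] (x : G) :
    x ∈ (fittingSubgroup (G ⧸ fittingSubgroup G)).comap (QuotientGroup.mk' (fittingSubgroup G)) ↔
      ∀ p : ℕ, p.Prime → ∀ z ∈ zpowers x, (∃ k : ℕ, z ^ p ^ k = 1) → Good p ⊤ z :=
  ⟨fun h p hp z hz hk => (jobBr G p z hp hk).1 (zpowers_le.2 h hz), fun h => zpowers_le.1
    (H46.nil_le_of_forall_Op (H46.nil_of_cyclic inferInstance) fun r hr _ z hz =>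
      have hk := isPGroup_iff_forall.1 (H46.isPGroup_Op hr _) z hz
      (jobBr G r z hr hk).2 (h r hr z (H46.piCoreOf_le _ _ hz) hk))⟩

theorem good_sub {G : Type u} [Group G] {p : ℕ} {K : Subgroup G} (z : K) :
    Good p ⊤ z ↔ Good p K (z : G) := by
  have e1 : (ncl ⊤ (zpowers z)).map K.subtype = ncl K (zpowers (z : G)) := by
    rw [map_ncl, map_subtype_top, MonoidHom.map_zpowers]; rfl
  have e2 : ∀ q, (pCoreOf q (⊤ : Subgroup K)).map K.subtype = pCoreOf q K := fun q => by
    rw [map_pCoreOf_of_injective K.subtype_injective, map_subtype_top]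
  refine forall₂_congr fun q _ => ?_
  rw [← e1, ← e2]
  refine ⟨?_, fun h y hy ⟨k, hk⟩ => (mem_map_iff_mem K.subtype_injective).1
    (h _ (mem_map_of_mem _ hy) ⟨k, by rw [← map_pow, hk, map_one]⟩)⟩
  rintro h _ ⟨y, hy, rfl⟩ ⟨k, hk⟩
  exact mem_map_of_mem _ (h y hy ⟨k, Subtype.ext hk⟩)

theorem stmt_of (m : H57.F2.Main.{u}) : Stmt.{u} := by
  intro G _ _ _ hK x
  rw [bridge]
  constructor
  · intro h y hx
    have := hK (closure ({x, y} : Set G))
    refine (bridge _ _).2 fun p hp z hz ⟨k, hk⟩ => (good_sub z).2 ((h p hp z ?_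
      ⟨k, congrArg Subtype.val hk⟩).mono le_top z.2)
    obtain ⟨n, rfl⟩ := hz
    exact ⟨n, rfl⟩
  · intro h p hp z hz ⟨k, hk⟩
    refine m G p z hp ⟨k, hk⟩ fun y => ?_
    have hx : x ∈ closure ({x, y} : Set G) := subset_closure (by simp)
    have := hK (closure ({x, y} : Set G))
    have h1 := zpowers_le.2 hx hz
    refine ((good_sub ⟨z, h1⟩).1 ((bridge _ _).1 (h y hx) p hp ⟨z, h1⟩ ?_ ⟨k, Subtype.ext hk⟩)).mono
      ((closure_le _).2 ?_) (subset_closure (by simp))
    · obtain ⟨n, rfl⟩ := hz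
      exact ⟨n, rfl⟩
    · rintro a (rfl | rfl)
      exacts [h1, subset_closure (by simp)]

end H19.F2
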