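import Cfsg.Agent.H19.F2Spec

/-! F2 tower (row S3817): the kit. -/

set_option autoImplicit false
set_option linter.unusedSectionVars false

namespace H19.F2

open Cfsg H46 Subgroup
open scoped commutatorElement

universe u

variable {G : Type u} [Group G] [Finite G] {Δ : Set (Subgroup G)} {p r s t : ℕ}
  {A B E H I K L N P R S U X Y : Subgroup G} {c g x : G}

/-! ### `p`-groups -/

theorem cop (hr : r.Prime) (hs : s.Prime) (h : r ≠ s) (hA : IsPGroup r A) (hB : IsPGroup s B) :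
    (Nat.card A).Coprime (Nat.card B) :=
  (isPi_of_isPGroup hr hA).coprime ((isPi_of_isPGroup hs hB).compl_singleton
    fun e => h (Set.mem_singleton_iff.1 e))

theorem disj (hr : r.Prime) (hs : s.Prime) (h : r ≠ s) (hA : IsPGroup r A) (hB : IsPGroup s B) :
    A ⊓ B = ⊥ := inf_eq_bot_of_coprime' (cop hr hs h hA hB)

theorem pg_sup (hr : r.Prime) (hA : IsPGroup r A) (hB : IsPGroup r B) (h : B ≤ Nrm A) :
    IsPGroup r ↥(A ⊔ B) :=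
  ((isPi_of_isPGroup hr hA).sup (isPi_of_isPGroup hr hB) h).isPGroup hr

theorem le_Op (hr : r.Prime) (hA : IsPGroup r A) (h : A ⊴ H) : A ≤ Op r H :=
  le_piCoreOf (isPi_of_isPGroup hr hA) h

theorem Op_cent (hr : r.Prime) (hs : s.Prime) (h : r ≠ s) (H : Subgroup G) :
    Op r H ≤ Cent (Op s H) :=
  cent_of_normalIn_of_coprime (piCoreOf_normalIn _ H) (piCoreOf_normalIn _ H)
    (cop hr hs h (isPGroup_Op hr H) (isPGroup_Op hs H))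

theorem cj_sSup (g : G) (T : Set (Subgroup G)) : cj g (sSup T) = sSup (cj g '' T) :=
  (gc_map_comap (MulAut.conj g).toMonoidHom).l_sSup.trans sSup_image.symm

theorem nrm_sSup {T : Set (Subgroup G)} (h : ∀ B ∈ T, cj g B ≤ sSup T) : g ∈ Nrm (sSup T) :=
  mem_nrm_of_cj_le (by rw [cj_sSup]; exact sSup_le (by rintro _ ⟨B, hB, rfl⟩; exact h B hB))

theorem cj_le_of_mem (hg : g ∈ Nrm H) (h : A ≤ H) : cj g A ≤ H :=
  (cj_mono g h).trans (cj_of_mem_nrm hg).le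

/-- Above every subgroup with a property there is a maximal one. -/
theorem exists_max (T : Subgroup G → Prop) (h : T A) :
    ∃ B, T B ∧ A ≤ B ∧ ∀ C, T C → B ≤ C → C = B := by
  obtain ⟨B, h1, h2⟩ := (Set.toFinite {B | T B}).exists_le_maximal h
  exact ⟨B, h2.1, h1, fun C hC e => le_antisymm (h2.2 hC e) e⟩

/-- Subgroups of prime order in `J ≤ N X` are conjugate under `J ⊓ N`. -/
theorem syl {J X' : Subgroup G} (hp : (Nat.card X).Prime) (hn : X ≤ Nrm N)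
    (hc : (Nat.card X).Coprime (Nat.card N)) (h1 : X ≤ J) (h2 : J ≤ N ⊔ X) (h3 : X' ≤ J)
    (h4 : Nat.card X' = Nat.card X) : ∃ e ∈ J ⊓ N, cj e X = X' := by
  have e1 : J = (N ⊓ J) ⊔ X := by rw [← modr hn h1, inf_eq_right.2 h2]
  have e2 : J ≤ Nrm (N ⊓ J) := nrm_inf (h2.trans (sup_le le_nrm_self hn)) le_nrm_self
  obtain ⟨e, he, h5⟩ := exists_cj_le_of_le_sup (N := N ⊓ J) (h3.trans e2) (h1.trans e2)
    (h4 ▸ coprime_of_le hc le_rfl inf_le_left)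
    (.inl (sol_of_nil (nil_of_cyclic (cyclic_of_card_prime (h4 ▸ hp))))) (e1 ▸ h3)
  refine ⟨e⁻¹, inv_mem ⟨he.2, he.1⟩, ?_⟩
  rw [← eq_of_le_of_card_eq h5 (by rw [card_cj, h4]), ← cj_mul, inv_mul_cancel, cj_one]

/-- Abstract form of `St.pg`. -/
theorem pg0 (hp : p.Prime) (hY : Y ⊴ H) (hl : ∀ r, Pr p r → ∀ R ≤ Y, IsPGroup r R → R ≤ Op r H)
    (h1 : X ≤ Y) (h2 : IsPGroup p X) (h3 : ∀ t, Pr p t → X ≤ Cent (Op t H)) : X ≤ Op p H := by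
  let W := Y ⊓ ⨅ t, ⨅ _ : Pr p t, Cent (Op t H)
  have w1 : W ⊴ H := ⟨inf_le_left.trans hY.1, nrm_inf hY.2 fun g hg => mem_nrm_of_cj_le
    (le_iInf₂ fun t ht => cj_le_of_mem (nrm_cent (le_nrm_piCoreOf _ H) hg) (iInf₂_le t ht))⟩
  obtain ⟨S, hS, hX⟩ := exists_sylow_ge hp h2 (le_inf h1 (le_iInf₂ h3) : X ≤ W)
  have w2 : Group.IsNilpotent W := nil_of_forall_sylow_normal fun r hr _ => by
    by_cases e : r = p
    · refine ⟨S, e ▸ hS, le_of_forall_sylow_le fun s hs _ => ?_⟩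
      by_cases e' : s = p
      · exact ⟨S, e' ▸ hS, le_nrm_self⟩
      · obtain ⟨T, hT⟩ := exists_sylow hs W
        exact ⟨T, hT, nrm_of_le_cent (le_cent_symm (le_cent_mono (inf_le_right.trans
          (iInf₂_le s ⟨hs, e'⟩)) hS.le
          (hl s ⟨hs, e'⟩ T (hT.le.trans inf_le_left) (hT.isPGroup hs))))⟩
    · obtain ⟨T, hT⟩ := exists_sylow hr W
      exact ⟨T, hT, nrm_of_le_cent (le_cent_mono (inf_le_right.trans (iInf₂_le r ⟨hr, e⟩)) le_rfl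
        (hl r ⟨hr, e⟩ T (hT.le.trans inf_le_left) (hT.isPGroup hr)))⟩
  exact (nil_le_piCoreOf w2 (hX.trans hS.le) (isPi_of_isPGroup hp h2)).trans w1.piCoreOf_le

/-! ### `wc`, `Kr`, `EE`, `WW` -/

theorem le_wc (hX : X ∈ Δ) (h : X ≤ H) : X ≤ wc Δ H := le_sSup ⟨hX, h⟩
theorem wc_le_iff : wc Δ H ≤ K ↔ ∀ X ∈ Δ, X ≤ H → X ≤ K :=
  sSup_le_iff.trans ⟨fun h X a b => h X ⟨a, b⟩, fun h X a => h X a.1 a.2⟩
theorem wc_le : wc Δ H ≤ H := wc_le_iff.2 fun _ _ h => h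
theorem wc_mono (h : H ≤ K) : wc Δ H ≤ wc Δ K := wc_le_iff.2 fun _ a b => le_wc a (b.trans h)
theorem wc_wc : wc Δ (wc Δ H) = wc Δ H :=
  le_antisymm wc_le (wc_le_iff.2 fun _ a b => le_wc a (le_wc a b))
theorem wc_self (hX : X ∈ Δ) : wc Δ X = X := le_antisymm wc_le (le_wc hX le_rfl)
theorem exists_le_of_wc (h : wc Δ H ≠ ⊥) : ∃ X ∈ Δ, X ≤ H := by
  by_contra k
  exact h (eq_bot_iff.2 (wc_le_iff.2 fun X a b => absurd ⟨X, a, b⟩ k))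

theorem comm_wc_le (h1 : P ≤ Nrm L) (h2 : ∀ X ∈ Δ, X ≤ P → ⁅A, X⁆ ≤ L) : ⁅A, wc Δ P⁆ ≤ L := by
  let T : Subgroup G :=
    { carrier := {g | g ∈ P ∧ ∀ a ∈ A, ⁅a, g⁆ ∈ L}
      one_mem' := ⟨one_mem _, fun a _ => by simp⟩
      mul_mem' := fun {g h} hg hh => ⟨mul_mem hg.1 hh.1, fun a ha => by
        rw [show ⁅a, g * h⁆ = ⁅a, g⁆ * (g * ⁅a, h⁆ * g⁻¹) by
          simp only [commutatorElement_def]; group]
        exact mul_mem (hg.2 a ha) (conj_mem_of_mem_nrm (h1 hg.1) (hh.2 a ha))⟩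
      inv_mem' := fun {g} hg => ⟨inv_mem hg.1, fun a ha => by
        rw [show ⁅a, g⁻¹⁆ = g⁻¹ * ⁅a, g⁆⁻¹ * g by simp only [commutatorElement_def]; group]
        exact conj_mem_of_mem_nrm' (h1 hg.1) (inv_mem (hg.2 a ha))⟩ }
  have : wc Δ P ≤ T := wc_le_iff.2 fun X a b g hg =>
    ⟨b hg, fun y hy => h2 X a b (commutator_mem_commutator hy hg)⟩
  exact commutator_le.2 fun a ha g hg => (this hg).2 a ha

theorem Kr.cj (h : Kr r X P) (g : G) : Kr r (cj g X) (cj g P) :=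
  ⟨isPGroup_cj h.pg g, by rw [← cj_nrm]; exact cj_mono g h.nrm, by rw [← cj_commutator, h.eq]⟩
theorem Kr.cj_nrm (h : Kr r X P) (hg : g ∈ Nrm X) : Kr r X (H46.cj g P) := by
  have := h.cj g; rwa [cj_of_mem_nrm hg] at this
theorem kr_bot : Kr r X ⊥ := ⟨IsPGroup.of_bot, by simp, commutator_bot_left _⟩
theorem Kr.le_EE (h : Kr r X P) : P ≤ EE r X := le_sSup h
theorem Kr.sup (hA : Kr r X A) (hB : Kr r X B) (h : IsPGroup r ↥(A ⊔ B)) : Kr r X (A ⊔ B) :=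
  ⟨h, nrm_sup hA.nrm hB.nrm, le_antisymm (commutator_le_left' (nrm_sup hA.nrm hB.nrm))
    (sup_le (hA.eq.ge.trans (commutator_mono le_sup_left le_rfl))
      (hB.eq.ge.trans (commutator_mono le_sup_right le_rfl)))⟩
theorem Kr.eq_bot (h : Kr r X P) (h1 : P ≤ Cent X) : P = ⊥ := h.eq ▸ commutator_eq_bot_iff.2 h1
theorem Kr.le_iff (h : Kr r X P) : P ≤ L ↔ ∀ k ∈ P, ∀ x ∈ X, ⁅k, x⁆ ∈ L := by
  rw [← commutator_le, h.eq]
theorem EE_le_iff : EE r X ≤ L ↔ ∀ P, Kr r X P → P ≤ L := sSup_le_iff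
theorem cj_EE (g : G) : cj g (EE r X) = EE r (cj g X) := by
  have k : ∀ (g : G) (X : Subgroup G), cj g (EE r X) ≤ EE r (cj g X) := fun g X =>
    cj_le_iff.2 (EE_le_iff.2 fun P h => cj_le_iff.1 (h.cj g).le_EE)
  refine le_antisymm (k g X) (le_cj_iff.2 ((k _ _).trans ?_))
  rw [← cj_mul, inv_mul_cancel, cj_one]
theorem nrm_le_nrm_EE : Nrm X ≤ Nrm (EE r X) := nrm_le_of_cj (F := EE r) (fun g _ => cj_EE g) X
theorem le_nrm_EE : X ≤ Nrm (EE r X) := le_nrm_self.trans nrm_le_nrm_EE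
theorem cent_le_nrm_EE : Cent X ≤ Nrm (EE r X) := (cent_le_nrm X).trans nrm_le_nrm_EE
theorem kr_EE (h : IsPGroup r (EE r X)) : Kr r X (EE r X) :=
  ⟨h, le_nrm_EE, le_antisymm (commutator_le_left' le_nrm_EE)
    (EE_le_iff.2 fun _ hP => hP.eq.ge.trans (commutator_mono hP.le_EE le_rfl))⟩
theorem MaxK.eq_EE (h : MaxK r X S) (h1 : IsPGroup r (EE r X)) : EE r X = S :=
  h.max _ (kr_EE h1) h.kr.le_EE
theorem MaxK.cj (h : MaxK r X S) (g : G) : MaxK r (cj g X) (cj g S) :=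
  ⟨h.kr.cj g, fun P hP h1 => by
    have := hP.cj g⁻¹
    rw [← cj_mul, inv_mul_cancel, cj_one] at this
    rw [← h.max _ this (cj_le_iff.1 h1), ← cj_mul, mul_inv_cancel, cj_one]⟩
theorem MaxI.cj (h : MaxI r X S) (g : G) : MaxI r (cj g X) (cj g S) :=
  ⟨isPGroup_cj h.pg g, by rw [← cj_nrm]; exact cj_mono g h.nrm, fun P h1 h2 h3 => by
    rw [← h.max _ (isPGroup_cj h1 g⁻¹) (by rw [← cj_nrm]; exact cj_le_iff.1 h2) (cj_le_iff.1 h3),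
      ← cj_mul, mul_inv_cancel, cj_one]⟩
theorem exists_maxK (h : Kr r X P) : ∃ S, MaxK r X S ∧ P ≤ S :=
  let ⟨S, a, b, c⟩ := exists_max (Kr r X) h
  ⟨S, ⟨a, c⟩, b⟩
theorem exists_maxI (h : IsPGroup r P) (h1 : X ≤ Nrm P) : ∃ S, MaxI r X S ∧ P ≤ S :=
  let ⟨S, a, b, c⟩ := exists_max (fun R => IsPGroup r R ∧ X ≤ Nrm R) ⟨h, h1⟩
  ⟨S, ⟨a.1, a.2, fun R h1 h2 => c R ⟨h1, h2⟩⟩, b⟩

theorem EE_le_WW (hX : X ∈ Δ) (h : X ≤ U) : EE r X ≤ WW Δ r U := le_sSup ⟨X, hX, h, rfl⟩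
theorem WW_le_iff : WW Δ r U ≤ L ↔ ∀ X ∈ Δ, X ≤ U → EE r X ≤ L :=
  ⟨fun h _ a b => (EE_le_WW a b).trans h, fun h => sSup_le (by
    rintro _ ⟨X, a, b, rfl⟩; exact h X a b)⟩
theorem WW_mono (h : U ≤ K) : WW Δ r U ≤ WW Δ r K :=
  WW_le_iff.2 fun _ a b => EE_le_WW a (b.trans h)
theorem WW_wc : WW Δ r (wc Δ U) = WW Δ r U :=
  le_antisymm (WW_mono wc_le) (WW_le_iff.2 fun _ a b => EE_le_WW a (le_wc a b))
theorem le_nrm_WW (h : ∀ X ∈ Δ, X ≤ U → A ≤ Nrm (EE r X)) : A ≤ Nrm (WW Δ r U) := fun g hg =>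
  nrm_sSup (by
    rintro _ ⟨X, a, b, rfl⟩
    exact (cj_of_mem_nrm (h X a b hg)).le.trans (EE_le_WW a b))

namespace St

variable (h : St p Δ)
include h

theorem prime (hX : X ∈ Δ) : (Nat.card X).Prime := h.card X hX ▸ h.pp
theorem ne_bot (hX : X ∈ Δ) : X ≠ ⊥ := ne_bot_of_card_prime (h.prime hX)
theorem isP (hX : X ∈ Δ) : IsPGroup p X :=
  (isPi_of_card_pow h.pp ((h.card X hX).trans (pow_one p).symm)).isPGroup h.pp
theorem sol (hX : X ∈ Δ) (K : Subgroup G) : SolOr X K :=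
  .inl (sol_of_nil (nil_of_isPGroup h.pp (h.isP hX)))
theorem comm (hX : X ∈ Δ) : X ≤ Cent X :=
  comm_iff_le_cent.1 (comm_of_cyclic (cyclic_of_card_prime (h.prime hX)))
theorem exists_gen (hX : X ∈ Δ) : ∃ x, orderOf x = p ∧ zpowers x = X :=
  let ⟨x, e⟩ := cyclic_iff_exists_zpowers.1 (cyclic_of_card_prime (h.prime hX))
  ⟨x, by rw [← card_zpowers', e, h.card X hX], e⟩
theorem copr (hr : Pr p r) (hU : IsPGroup p U) (hR : IsPGroup r R) :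
    (Nat.card U).Coprime (Nat.card R) := cop h.pp hr.1 hr.2.symm hU hR
theorem nrm_ne (hr : r.Prime) (hR : IsPGroup r R) (h1 : R ≠ ⊥) : Nrm R ≠ ⊤ :=
  h.nil R (nil_of_isPGroup hr hR) h1
theorem cent1_ne (h1 : g ≠ 1) : Cent1 g ≠ ⊤ := fun e =>
  h.nil (zpowers g) (nil_of_cyclic inferInstance) (zpowers_ne_bot.2 h1)
    (top_le_iff.1 (e ▸ cent1_le_nrm_zpowers g))
theorem cent_ne (h1 : A ≠ ⊥) : Cent A ≠ ⊤ :=
  let ⟨_, a, b⟩ := exists_ne_one_of_ne_bot h1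
  ne_top_of_le_ne_top (h.cent1_ne b) (cent_le_cent1 a)
theorem exists_le_syl (hS : IsSylowOf p S ⊤) : ∃ X ∈ Δ, X ≤ S :=
  let ⟨X, hX⟩ := h.ne
  let ⟨g, _, e⟩ := sylow_cj_le h.pp hS (h.isP hX) le_top
  ⟨_, h.conj X hX g, e⟩

theorem cj_wc (g : G) (H : Subgroup G) : cj g (wc Δ H) = wc Δ (cj g H) := by
  have k : ∀ (g : G) (H : Subgroup G), cj g (wc Δ H) ≤ wc Δ (cj g H) := fun g H =>
    cj_le_iff.2 (wc_le_iff.2 fun X a b => cj_le_iff.1 (le_wc (h.conj X a g) (cj_mono g b)))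
  refine le_antisymm (k g H) (le_cj_iff.2 ((k _ _).trans ?_))
  rw [← cj_mul, inv_mul_cancel, cj_one]
theorem nrm_le_nrm_wc (H : Subgroup G) : Nrm H ≤ Nrm (wc Δ H) := nrm_le_of_cj h.cj_wc H
theorem wc_normalIn (H : Subgroup G) : wc Δ H ⊴ H :=
  ⟨wc_le, le_nrm_self.trans (h.nrm_le_nrm_wc H)⟩
theorem cj_WW (g : G) (U : Subgroup G) : cj g (WW Δ r U) = WW Δ r (cj g U) := by
  have k : ∀ (g : G) (U : Subgroup G), cj g (WW Δ r U) ≤ WW Δ r (cj g U) := fun g U =>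
    cj_le_iff.2 (WW_le_iff.2 fun X a b => cj_le_iff.1
      ((cj_EE g).le.trans (EE_le_WW (h.conj X a g) (cj_mono g b))))
  refine le_antisymm (k g U) (le_cj_iff.2 ((k _ _).trans ?_))
  rw [← cj_mul, inv_mul_cancel, cj_one]
theorem nrm_le_nrm_WW (U : Subgroup G) : Nrm U ≤ Nrm (WW Δ r U) := nrm_le_of_cj h.cj_WW U
theorem uq_of (hX : X ∈ Δ) (h1 : IsPGroup r (EE r X)) : Uq Δ r := fun Y hY => by
  obtain ⟨g, rfl⟩ := h.tr X hX Y hY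
  rw [← cj_EE]; exact isPGroup_cj h1 g
theorem fp_of (hX : X ∈ Δ) (h1 : ¬ r ∣ Nat.card (Cent X)) : Fp Δ r := fun Y hY => by
  obtain ⟨g, rfl⟩ := h.tr X hX Y hY
  rwa [← cj_cent, card_cj]
theorem EE_ne_bot (hX : X ∈ Δ) (hY : Y ∈ Δ) (h1 : EE r X ≠ ⊥) : EE r Y ≠ ⊥ := by
  obtain ⟨g, rfl⟩ := h.tr X hX Y hY
  rwa [← cj_EE, Ne, cj_eq_bot]

theorem comm_mem_wc (hX : X ∈ Δ) (h1 : X ≤ H) (hg : g ∈ H) (hx : x ∈ X) : ⁅g, x⁆ ∈ wc Δ H :=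
  mul_mem (conj_mem_of_mem_nrm ((h.wc_normalIn H).2 hg) (le_wc hX h1 hx)) (inv_mem (le_wc hX h1 hx))
theorem comm_le_wc (hX : X ∈ Δ) (h1 : X ≤ H) (h2 : R ≤ H) : ⁅R, X⁆ ≤ wc Δ H :=
  commutator_le.2 fun _ a _ b => h.comm_mem_wc hX h1 (h2 a) b
/-- Element form of `loc`. -/
theorem mem_Op (hH : H ≠ ⊤) (hr : Pr p r) (hR : IsPGroup r R) (h1 : g ∈ R) (h2 : g ∈ wc Δ H) :
    g ∈ Op r H := h.loc H hH r hr (R ⊓ wc Δ H) inf_le_right (hR.to_le inf_le_left) ⟨h1, h2⟩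
theorem dec (hX : X ∈ Δ) (hr : Pr p r) (hR : IsPGroup r R) (hn : X ≤ Nrm R) :
    ⁅R, X⁆ ⊔ (R ⊓ Cent X) = R := coprime_cent_prod hn (h.copr hr (h.isP hX) hR) (h.sol hX R)
theorem kr (hX : X ∈ Δ) (hr : Pr p r) (hR : IsPGroup r R) (hn : X ≤ Nrm R) : Kr r X ⁅R, X⁆ :=
  ⟨hR.to_le (commutator_le_left' hn), nrm_commutator_right R X,
    coprime_commGid hn (h.copr hr (h.isP hX) hR) (h.sol hX R)⟩
theorem kr_Op (hX : X ∈ Δ) (hr : Pr p r) (h1 : X ≤ H) : Kr r X ⁅Op r H, X⁆ :=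
  h.kr hX hr (isPGroup_Op hr.1 H) (h1.trans (le_nrm_piCoreOf _ H))
theorem kr_of_fpf (hX : X ∈ Δ) (hr : Pr p r) (hR : IsPGroup r R) (hn : X ≤ Nrm R)
    (h1 : R ⊓ Cent X = ⊥) : Kr r X R :=
  ⟨hR, hn, coprime_commutator_eq_self hn (h.copr hr (h.isP hX) hR) (h.sol hX R) h1⟩
omit h in
theorem _root_.H19.F2.Fp.inf (hf : Fp Δ r) (hX : X ∈ Δ) (hr : r.Prime) (hR : IsPGroup r R) :
    R ⊓ Cent X = ⊥ :=
  (isPi_of_isPGroup hr hR).inf_eq_bot ((isPi_compl_singleton hr).2 (hf X hX))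
theorem l2 (hX : X ∈ Δ) (hr : Pr p r) (hH : H ≠ ⊤) (h1 : X ≤ H) (h2 : R ≤ H) (hR : IsPGroup r R)
    (hn : X ≤ Nrm R) : ⁅R, X⁆ ≤ Op r H :=
  h.loc H hH r hr _ (h.comm_le_wc hX h1 h2) (hR.to_le (commutator_le_left' hn))
theorem kr_le_Op (hX : X ∈ Δ) (hr : Pr p r) (hH : H ≠ ⊤) (h1 : X ≤ H) (hP : Kr r X P)
    (h2 : P ≤ H) : P ≤ Op r H := hP.eq ▸ h.l2 hX hr hH h1 h2 hP.pg hP.nrm
theorem l3 (hX : X ∈ Δ) (hr : Pr p r) (hs : Pr p s) (hrs : r ≠ s) (hH : H ≠ ⊤) (h1 : X ≤ H)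
    (hA : Kr r X A) (hB : Kr s X B) (h2 : A ≤ H) (h3 : B ≤ H) : A ≤ Cent B :=
  le_cent_mono (Op_cent hr.1 hs.1 hrs H) (h.kr_le_Op hX hr hH h1 hA h2)
    (h.kr_le_Op hX hs hH h1 hB h3)
/-- An `X`-invariant `r`-group normalises `EE r X`. -/
theorem inv_le_nrm_EE (hX : X ∈ Δ) (hr : Pr p r) (hR : IsPGroup r R) (hn : X ≤ Nrm R) :
    R ≤ Nrm (EE r X) := (h.dec hX hr hR hn).ge.trans (sup_le
  ((h.kr hX hr hR hn).le_EE.trans le_nrm_self) (inf_le_right.trans cent_le_nrm_EE))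

/-- PG. -/
theorem pg (hX : X ∈ Δ) (hH : H ≠ ⊤) (h1 : X ≤ H) (h2 : ∀ t, Pr p t → ⁅Op t H, X⁆ = ⊥) :
    X ≤ Op p H := pg0 h.pp (h.wc_normalIn H) (h.loc H hH) (le_wc hX h1) (h.isP hX)
  fun t ht => commutator_eq_bot_iff'.1 (h2 t ht)

/-- Y1. -/
theorem y1 (hX : X ∈ Δ) (hn : X ≤ Nrm N) (hc : (Nat.card X).Coprime (Nat.card N)) {k : G}
    (hk : k ∈ N) : ∃ A ≤ N, X ≤ Nrm A ∧ ⁅A, X⁆ = A ∧ (∀ x ∈ X, ⁅k, x⁆ ∈ A) ∧
      ∀ c ∈ Cent X, A ⊔ X ⊔ zpowers c ≠ ⊤ := by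
  have j1 : X ⊔ cj k X ≤ N ⊔ X := sup_le le_sup_right
    (cj_le_of_mem (le_nrm_self (mem_sup_left hk)) le_sup_right)
  obtain ⟨e, he, e1⟩ := syl (h.prime hX) hn hc le_sup_left j1 le_sup_right (card_cj k X)
  have a1 : X ≤ Nrm ((X ⊔ cj k X) ⊓ N) := nrm_inf (nrm_of_le le_sup_left) hn
  refine ⟨_, inf_le_right, a1, le_antisymm (commutator_le_left' a1) ?_, fun x hx =>
    ⟨Subgroup.mul_mem _ (mem_sup_right (conj_mem_cj.2 hx)) (Subgroup.inv_mem _ (mem_sup_left hx)),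
      commutator_le_left' hn (commutator_mem_commutator hk hx)⟩, fun c hc' e2 => ?_⟩
  · have a2 : X ⊔ cj k X ≤ ⁅(X ⊔ cj k X) ⊓ N, X⁆ ⊔ X := sup_le le_sup_right (by
      rw [← e1]
      rintro _ ⟨x, hx, rfl⟩
      rw [show (MulAut.conj e).toMonoidHom x = ⁅e, x⁆ * x by simp [commutatorElement_def]]
      exact mul_mem (mem_sup_left (commutator_mem_commutator (e1 ▸ he) hx)) (mem_sup_right hx))
    refine (inf_le_inf_right N a2).trans ?_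
    rw [modl (nrm_commutator_right _ X) ((commutator_le_left' a1).trans inf_le_right),
      inf_eq_bot_of_coprime' hc, sup_bot_eq]
  · refine h.gen X hX (e * c) (top_le_iff.1 (e2.ge.trans ?_))
    have a2 : cj (e * c) X = cj k X := by rw [cj_mul, cj_of_le_cent hc', e1]
    have a3 : X ⊔ cj k X ≤ X ⊔ zpowers (e * c) := sup_le le_sup_left (a2.ge.trans
      (cj_le_of_mem (le_nrm_self (mem_sup_right (mem_zpowers _))) le_sup_left))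
    exact sup_le (sup_le (inf_le_left.trans a3) le_sup_left) (zpowers_le.2
      ((mul_mem_cancel_left (a3 he.1)).1 (mem_sup_right (mem_zpowers _))))

/-- Y1 for an `r`-group. -/
theorem y1k (hX : X ∈ Δ) (hr : Pr p r) (hR : IsPGroup r R) (hn : X ≤ Nrm R) {k : G} (hk : k ∈ R) :
    ∃ A ≤ R, Kr r X A ∧ (∀ x ∈ X, ⁅k, x⁆ ∈ A) ∧ ∀ c ∈ Cent X, A ⊔ X ⊔ zpowers c ≠ ⊤ :=
  let ⟨A, a, b, c, d⟩ := h.y1 hX hn (h.copr hr (h.isP hX) hR) hk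
  ⟨A, a, ⟨hR.to_le a, b, c⟩, d⟩

/-- Y2. -/
theorem y2 (hX : X ∈ Δ) (hr : Pr p r) (hs : Pr p s) (hrs : r ≠ s) (hA : Kr r X A) (hB : Kr s X B)
    (h1 : A ≤ Cent B) (hc : c ∈ Cent X) : cj c A ≤ Cent B := by
  refine cj_le_iff.2 (hA.le_iff.2 fun a ha x hx => cj_le_iff.1 ((cj_zpowers c _).le.trans
    (le_cent_symm (hB.le_iff.2 fun b hb y hy => ?_))) (mem_zpowers _))
  obtain ⟨D, -, -, d1, d2, d3⟩ := h.y1 (N := A ⊔ B) hX (nrm_sup hA.nrm hB.nrm)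
    (((h.copr hr (h.isP hX) hA.pg).mul_right (h.copr hs (h.isP hX) hB.pg)).coprime_dvd_right
      (card_sup_dvd (nrm_of_le_cent (le_cent_symm h1)))) (mul_mem (mem_sup_left ha) (mem_sup_right hb))
  have hH := d3 c hc
  have d4 : D ≤ wc Δ (D ⊔ X ⊔ zpowers c) := d1.ge.trans
    (h.comm_le_wc hX (le_sup_right.trans le_sup_left) (le_sup_left.trans le_sup_left))
  have key : ∀ z ∈ X, ⁅a, z⁆ ∈ D ∧ ⁅b, z⁆ ∈ D := fun z hz => by
    have a1 : ⁅a, z⁆ ∈ A := commutator_le_left' hA.nrm (commutator_mem_commutator ha hz)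
    have b1 : ⁅b, z⁆ ∈ B := commutator_le_left' hB.nrm (commutator_mem_commutator hb hz)
    have e1 : Commute ⁅a, z⁆ ⁅b, z⁆ := (h1 a1 _ b1).symm
    have e2 : ⁅a * b, z⁆ = ⁅a, z⁆ * ⁅b, z⁆ := by
      rw [e1.eq, show ⁅a * b, z⁆ = a * ⁅b, z⁆ * a⁻¹ * ⁅a, z⁆ by
        simp only [commutatorElement_def]; group, ← h1 ha _ b1, mul_inv_cancel_right]
    have e3 := ((cop hr.1 hs.1 hrs hA.pg hB.pg).coprime_dvd_left
      (orderOf_dvd_card a1)).coprime_dvd_right (orderOf_dvd_card b1)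
    have e4 := zpowers_le.2 (e2 ▸ d2 z hz) (mem_zpowers_mul_of_coprime e1 e3)
    exact ⟨e4, (mul_mem_cancel_left e4).1 (e2 ▸ d2 z hz)⟩
  refine le_cent_mono (Op_cent hs.1 hr.1 hrs.symm (D ⊔ X ⊔ zpowers c)) le_rfl (zpowers_le.2 ?_)
    (h.mem_Op hH hs hB.pg (commutator_le_left' hB.nrm (commutator_mem_commutator hb hy))
      (d4 (key y hy).2))
  exact conj_mem_of_mem_nrm (le_nrm_piCoreOf _ _ (mem_sup_right (mem_zpowers c)))
    (h.mem_Op hH hr hA.pg (commutator_le_left' hA.nrm (commutator_mem_commutator ha hx))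
      (d4 (key x hx).1))

/-- W. -/
theorem isP_WW (hr : Pr p r) (hu : Uq Δ r) (hU : IsPGroup p U) : IsPGroup r (WW Δ r U) := by
  induction hn : Nat.card U using Nat.strong_induction_on generalizing U with
  | _ n ih =>
  have key : ∀ X ∈ Δ, X ≤ U → ∀ Y ∈ Δ, Y ≤ U → EE r X ≤ Nrm (EE r Y) := fun X a b Y c d => by
    rcases b.eq_or_lt with rfl | b'
    · rw [eq_of_le_of_card_eq d ((h.card Y c).trans (h.card X a).symm)]
      exact le_nrm_self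
    obtain ⟨M, m1, m2, m3⟩ := exists_max (fun M => M < U) b'
    have m4 := nil_lt_inf_nrm (nil_of_isPGroup h.pp hU) m1
    have m5 : U ≤ Nrm M := by
      by_contra k
      exact m4.ne' (m3 _ (lt_of_le_of_ne inf_le_left fun e => k (e.ge.trans inf_le_right)) m4.le)
    exact (EE_le_WW a m2).trans (h.inv_le_nrm_EE c hr
      (ih _ (hn ▸ card_lt_of_lt m1) (hU.to_le m1.le) rfl) (d.trans (m5.trans (h.nrm_le_nrm_WW M))))
  exact (isPGroup_Op hr.1 (WW Δ r U)).to_le (WW_le_iff.2 fun X a b => le_Op hr.1 (hu X a)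
    ⟨EE_le_WW a b, WW_le_iff.2 fun Y c d => key Y c d X a b⟩)

end St

theorem uq (h1 : UQ1.{u}) (h2 : UQ2.{u}) : UQ.{u} := fun G _ _ p Δ h r hr => by
  obtain ⟨X, hX⟩ := h.ne
  by_cases k : r ∣ Nat.card (Cent X)
  · by_cases e : p = 2
    · exact .inl (h.uq_of hX (h2 G p Δ h e X hX r hr k))
    · exact .inl (h.uq_of hX (h1 G p Δ h e X hX r hr k))
  · exact .inr (h.fp_of hX k)

end H19.F2
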