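import Cfsg.Agent.H19.F2Kit

/-! F2 tower (row S3817): `M3`. -/

set_option autoImplicit false
set_option linter.unusedSectionVars false

namespace H19.F2

open Cfsg H46 Subgroup
open scoped commutatorElement

universe u

variable {G : Type u} [Group G] [Finite G] {Δ : Set (Subgroup G)} {p r s t : ℕ}
  {A B E H I K L N P R S U X Y : Subgroup G} {c g x : G}

theorem nrm_cj (h : X ≤ Nrm A) (hc : c ∈ Nrm X) : X ≤ Nrm (cj c A) := by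
  rw [← cj_nrm]; exact (cj_of_mem_nrm hc).ge.trans (cj_mono c h)

theorem MaxI.cj_nrm (h : MaxI r X R) (hc : c ∈ Nrm X) : MaxI r X (H46.cj c R) := by
  have := h.cj c; rwa [cj_of_mem_nrm hc] at this

theorem MaxK.cj_nrm (h : MaxK r X R) (hc : c ∈ Nrm X) : MaxK r X (H46.cj c R) := by
  have := h.cj c; rwa [cj_of_mem_nrm hc] at this

theorem exists_comm_ne (h : ¬ R ≤ Cent X) : ∃ k ∈ R, ∃ x ∈ X, ⁅k, x⁆ ≠ 1 := by
  by_contra e
  push Not at e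
  exact h (commutator_eq_bot_iff.1 (eq_bot_iff.2 (commutator_le.2 fun a b c d => e a b c d)))

namespace St

variable (h : St p Δ)
include h

/-- A nontrivial member through a given commutator. -/
theorem y1n (hX : X ∈ Δ) (hr : Pr p r) (hR : IsPGroup r R) (hn : X ≤ Nrm R) (h1 : ¬ R ≤ Cent X) :
    ∃ A ≤ R, Kr r X A ∧ A ≠ ⊥ ∧ ∀ c ∈ Cent X, A ⊔ X ⊔ zpowers c ≠ ⊤ :=
  let ⟨_, hk, x, hx, e⟩ := exists_comm_ne h1
  let ⟨A, a, b, c, d⟩ := h.y1k hX hr hR hn hk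
  ⟨A, a, b, ne_bot_of_mem (c x hx) e, d⟩

theorem m1 (hX : X ∈ Δ) (hr : Pr p r) (hH : H ≠ ⊤) (h1 : X ≤ H) (a1 : A ≤ H) (a2 : B ≤ H)
    (p1 : IsPGroup r A) (p2 : IsPGroup r B) (n1 : X ≤ Nrm A) (n2 : X ≤ Nrm B) :
    ∃ c ∈ Cent X, IsPGroup r ↥(A ⊔ cj c B) := by
  obtain ⟨T, hT, t1⟩ := exists_sylow_ge hr.1 (p1.to_le (inf_le_left : A ⊓ Cent X ≤ A))
    (inf_le_inf_right _ a1)
  obtain ⟨c, hc, t2⟩ := sylow_cj_le hr.1 hT (p2.to_le (inf_le_left : B ⊓ Cent X ≤ B))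
    (inf_le_inf_right _ a2)
  refine ⟨c, hc.2, (pg_sup hr.1 (isPGroup_Op hr.1 H) (hT.isPGroup hr.1)
    ((hT.le.trans inf_le_left).trans (le_nrm_piCoreOf _ H))).to_le (sup_le ?_ ?_)⟩
  · exact (h.dec hX hr p1 n1).ge.trans (sup_le_sup (h.l2 hX hr hH h1 a1 p1 n1) t1)
  · rw [← h.dec hX hr p2 n2, cj_sup]
    exact sup_le_sup (cj_le_of_mem (le_nrm_piCoreOf _ H hc.1) (h.l2 hX hr hH h1 a2 p2 n2)) t2

theorem m2 (hX : X ∈ Δ) (hr : Pr p r) (m1 : MaxI r X A) (m2 : MaxI r X B) (h1 : A ⊓ B ≠ ⊥) :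
    ∃ c ∈ Cent X, cj c A = B := by
  induction hn : (A ⊓ B).index using Nat.strong_induction_on generalizing A B with
  | _ n ih =>
  by_cases e : A = B
  · exact ⟨1, one_mem _, by rw [cj_one, e]⟩
  have l1 := nil_lt_inf_nrm (nil_of_isPGroup hr.1 m1.pg) (lt_of_le_of_ne (inf_le_left : A ⊓ B ≤ A)
    fun e' => e (m1.max B m2.pg m2.nrm (inf_eq_left.1 e')).symm)
  have l2 := nil_lt_inf_nrm (nil_of_isPGroup hr.1 m2.pg) (lt_of_le_of_ne (inf_le_right : A ⊓ B ≤ B)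
    fun e' => e (m2.max A m1.pg m1.nrm (inf_eq_right.1 e')))
  have d1 : X ≤ Nrm (A ⊓ B) := nrm_inf m1.nrm m2.nrm
  have n1 := nrm_inf m1.nrm (nrm_nrm d1)
  have n2 := nrm_inf m2.nrm (nrm_nrm d1)
  obtain ⟨c, hc, k⟩ := h.m1 hX hr (h.nrm_ne hr.1 (m1.pg.to_le inf_le_left) h1) d1 inf_le_right
    inf_le_right (m1.pg.to_le inf_le_left) (m2.pg.to_le inf_le_left) n1 n2
  have hc' := cent_le_nrm X hc
  obtain ⟨R, m3, k1⟩ := exists_maxI k (nrm_sup n1 (nrm_cj n2 hc'))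
  have l3 : A ⊓ B < A ⊓ R := l1.trans_le (le_inf inf_le_left (le_sup_left.trans k1))
  have l4 : cj c (A ⊓ B) < cj c B ⊓ R := (cj_lt_cj.2 l2).trans_le
    (le_inf (cj_mono c inf_le_left) (le_sup_right.trans k1))
  obtain ⟨a, ha, e1⟩ := ih _ (hn ▸ index_strictAnti l3) m1 m3 (bot_le.trans_lt l3).ne' rfl
  obtain ⟨b, hb, e2⟩ := ih _ (hn ▸ index_cj c (A ⊓ B) ▸ index_strictAnti l4) (m2.cj_nrm hc') m3
    (bot_le.trans_lt l4).ne' rfl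
  refine ⟨(b * c)⁻¹ * a, mul_mem (inv_mem (mul_mem hb hc)) ha, ?_⟩
  rw [cj_mul, e1, ← e2, ← cj_mul, ← cj_mul]
  simp

end St

theorem m3 : M3.{u} := by
  intro G _ _ p Δ h X hX r hr hd
  obtain ⟨T, hT⟩ := exists_sylow hr.1 (Cent X)
  have t1 : T ≠ ⊥ := hT.ne_bot hr.1 rfl hd
  have t2 := hT.isPGroup hr.1
  have t3 : X ≤ Nrm T := nrm_of_le_cent (le_cent_symm hT.le)
  obtain ⟨R₀, m0, t4⟩ := exists_maxI t2 t3
  have key : ∀ R, MaxI r X R → R ⊓ Cent X ≠ ⊥ → ∃ c ∈ Cent X, cj c R = R₀ := fun R m h1 => by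
    obtain ⟨c, hc, e⟩ := sylow_cj_le hr.1 hT (m.pg.to_le (inf_le_left : R ⊓ Cent X ≤ R)) inf_le_right
    obtain ⟨d, hd, e'⟩ := h.m2 hX hr (m.cj_nrm (cent_le_nrm X hc)) m0 (ne_bot_of_le
      (le_inf (cj_mono c inf_le_left) (e.trans t4)) (mt cj_eq_bot.1 h1))
    exact ⟨d * c, mul_mem hd hc, by rw [cj_mul, e']⟩
  have all : ∀ R, MaxI r X R → ∃ c ∈ Cent X, cj c R = R₀ := fun R m => key R m fun h1 => by
    have r1 : R ≠ ⊥ := fun e => t1 (e ▸ m.max T t2 t3 (e ▸ bot_le))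
    obtain ⟨A, a1, a2, a3, a4⟩ := h.y1n hX hr m.pg m.nrm fun e => r1 (by rwa [inf_eq_left.2 e] at h1)
    obtain ⟨c, c1, c2⟩ := exists_ne_one_of_ne_bot t1
    have c3 := hT.le c1
    have z1 : zpowers c ≤ Nrm (Op r (A ⊔ X ⊔ zpowers c)) := le_sup_right.trans (le_nrm_piCoreOf _ _)
    obtain ⟨R', m', k⟩ := exists_maxI (pg_sup hr.1 (isPGroup_Op hr.1 _) (t2.to_le (zpowers_le.2 c1)) z1)
      (nrm_sup ((le_sup_right.trans le_sup_left).trans (le_nrm_piCoreOf _ _))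
        (nrm_of_le_cent (le_cent_symm (zpowers_le.2 c3))))
    obtain ⟨d, hd, e⟩ := h.m2 hX hr m' m (ne_bot_of_le (le_inf ((h.kr_le_Op hX hr (a4 c c3)
      (le_sup_right.trans le_sup_left) a2 (le_sup_left.trans le_sup_left)).trans
        (le_sup_left.trans k)) a1) a3)
    exact ne_bot_of_mem (x := d * c * d⁻¹) (mem_inf.2 ⟨e ▸ conj_mem_cj.2
      (k (mem_sup_right (mem_zpowers c))), mul_mem (mul_mem hd c3) (inv_mem hd)⟩)
      (by simpa using c2) h1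
  refine ⟨fun R R' m m' => ?_, fun R m => ?_⟩
  · obtain ⟨a, ha, e1⟩ := all R m
    obtain ⟨b, hb, e2⟩ := all R' m'
    exact ⟨b⁻¹ * a, mul_mem (inv_mem hb) ha, by rw [cj_mul, e1, ← e2, ← cj_mul]; simp⟩
  · obtain ⟨a, ha, e1⟩ := all R m
    rw [← cj_le_cj (g := a), e1, cj_of_mem_nrm (le_nrm_piCoreOf _ _ ha)]
    exact hT.piCoreOf_le.trans t4

end H19.F2
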