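import Cfsg.Agent.H46.Misc

/-! F2 tower (row S3817): `x ∈ F₂(G)` iff `x ∈ F₂(⟨x, y⟩)` for all `y`.  Definitions and jobs.
Proofs: `blueprints/F2H19.md`.  Kit: `H19/F2Kit.lean`. -/

set_option autoImplicit false

namespace H19.F2

open Cfsg H46 Subgroup
open scoped commutatorElement

universe u

section Defs

variable {G : Type u} [Group G]

/-- `r` is a prime different from `p`. -/
def Pr (p r : ℕ) : Prop := r.Prime ∧ r ≠ p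

/-- The subgroup generated by the members of `Δ` in `H`. -/
def wc (Δ : Set (Subgroup G)) (H : Subgroup G) : Subgroup G := sSup {X | X ∈ Δ ∧ X ≤ H}

/-- `P = [P, X]` is an `r`-group. -/
structure Kr (r : ℕ) (X P : Subgroup G) : Prop where
  pg : IsPGroup r P
  nrm : X ≤ Nrm P
  eq : ⁅P, X⁆ = P

/-- The subgroup generated by all `r`-groups `P = [P, X]`. -/
def EE (r : ℕ) (X : Subgroup G) : Subgroup G := sSup {P | Kr r X P}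

/-- The subgroup generated by the `EE r X`, `X ∈ Δ`, `X ≤ U`. -/
def WW (Δ : Set (Subgroup G)) (r : ℕ) (U : Subgroup G) : Subgroup G :=
  sSup {E | ∃ X ∈ Δ, X ≤ U ∧ E = EE r X}

/-- A maximal `X`-invariant `r`-subgroup. -/
structure MaxI (r : ℕ) (X R : Subgroup G) : Prop where
  pg : IsPGroup r R
  nrm : X ≤ Nrm R
  max : ∀ R' : Subgroup G, IsPGroup r R' → X ≤ Nrm R' → R ≤ R' → R' = R

/-- A maximal `r`-group `S = [S, X]`. -/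
structure MaxK (r : ℕ) (X S : Subgroup G) : Prop where
  kr : Kr r X S
  max : ∀ P : Subgroup G, Kr r X P → S ≤ P → P = S

def Uq (Δ : Set (Subgroup G)) (r : ℕ) : Prop := ∀ X ∈ Δ, IsPGroup r (EE r X)

def Fp (Δ : Set (Subgroup G)) (r : ℕ) : Prop := ∀ X ∈ Δ, ¬ r ∣ Nat.card (Cent X)

/-- The minimal counterexample: `Δ` is a class of subgroups of order `p`. -/
structure St (p : ℕ) (Δ : Set (Subgroup G)) : Prop where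
  pp : p.Prime
  ne : Δ.Nonempty
  card : ∀ X ∈ Δ, Nat.card X = p
  conj : ∀ X ∈ Δ, ∀ g : G, cj g X ∈ Δ
  tr : ∀ X ∈ Δ, ∀ Y ∈ Δ, ∃ g : G, cj g X = Y
  nil : ∀ N : Subgroup G, Group.IsNilpotent N → N ≠ ⊥ → Nrm N ≠ ⊤
  gen : ∀ X ∈ Δ, ∀ y : G, X ⊔ zpowers y ≠ ⊤
  loc : ∀ H : Subgroup G, H ≠ ⊤ → ∀ r, Pr p r → ∀ R ≤ wc Δ H, IsPGroup r R → R ≤ Op r H

/-- `x` lies in a normal subgroup `Y` of `H` with `Y F(H) / F(H)` a `p`-group. -/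
def Q (p : ℕ) (H : Subgroup G) (x : G) : Prop :=
  ∃ Y : Subgroup G, Y ⊴ H ∧ x ∈ Y ∧ ∀ g ∈ Y, ∃ k : ℕ, g ^ p ^ k ∈ fittingOf H

/-- The cyclic case of `NC`. -/
structure Cy (r : ℕ) (X : Subgroup G) : Prop where
  ne : EE r X ≠ ⊥
  zc : Zc (EE r X) ≤ Cent X
  cyc : ∀ Y : Subgroup G, IsPGroup r Y → IsMulCommutative Y → Y ≤ Cent X → Y ≤ Cent (EE r X) →
    IsCyclic Y

end Defs

/-- A statement on finite groups. -/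
def AllG (P : ∀ (G : Type u) [Group G], Prop) : Prop := ∀ (G : Type u) [Group G] [Finite G], P G

/-- A statement on the minimal counterexample. -/
def AllS (P : ∀ (G : Type u) [Group G], ℕ → Set (Subgroup G) → Prop) : Prop :=
  ∀ (G : Type u) [Group G] [Finite G] (p : ℕ) (Δ : Set (Subgroup G)), St p Δ → P G p Δ

/-! ### Reduction to the minimal counterexample -/

def Main : Prop := AllS.{u} fun _ _ _ _ => False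

def QK : Prop := AllG.{u} fun G _ => ∀ (p : ℕ) (H : Subgroup G), p.Prime →
  (∀ (G' : Type u) [Group G'] [Finite G'] (φ : G →* G') (x : G),
    (Q p H x → Q p (H.map φ) (φ x)) ∧
    (Function.Injective φ → Q p (H.map φ) (φ x) → Q p H x)) ∧
  (∀ (K : Subgroup G) (x : G), Q p H x → x ∈ K → K ≤ H → Q p K x) ∧
  (∃ Y : Subgroup G, Y ⊴ H ∧ (∀ g ∈ Y, ∃ k : ℕ, g ^ p ^ k ∈ fittingOf H) ∧ ∀ x, Q p H x → x ∈ Y) ∧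
  ∀ Y : Subgroup G, (∀ g ∈ Y, ∃ k : ℕ, g ^ p ^ k ∈ fittingOf H) → ∀ r, Pr p r →
    ∀ R ≤ Y, IsPGroup r R → R ≤ Op r H

def CNT : Prop := AllG.{u} fun G _ => ∀ (N : Subgroup G) (r : ℕ) (x k : G), N.Normal →
  IsMulCommutative N → r.Prime → ¬ r ∣ Nat.card N → (∃ j : ℕ, ⁅k, x⁆ ^ r ^ j ∈ Cent N) →
  (∀ v ∈ N, ∀ b ∈ zpowers ⁅v * k, x⁆, IsPGroup r (zpowers b) →
    b ∈ Op r (zpowers x ⊔ zpowers (v * k))) → ⁅k, x⁆ ∈ Cent N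

def RA : Prop := AllG.{u} fun G _ => ∀ (p q : ℕ) (N : Subgroup G) [N.Normal] (x : G), p.Prime →
  q.Prime → MinNormal N ⊤ → IsElementaryAbelian q N → IsPGroup p (zpowers x) →
  (∀ y, Q p (zpowers x ⊔ zpowers y) x) → Q p ⊤ (QuotientGroup.mk' N x) → Q p ⊤ x

def JobRA : Prop := QK.{u} → CNT.{u} → RA.{u}

def MainQ : Prop := AllG.{u} fun G _ => ∀ (p : ℕ) (x : G), p.Prime → IsPGroup p (zpowers x) →
  (∀ y, Q p (zpowers x ⊔ zpowers y) x) → Q p ⊤ x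

def JobRB : Prop := QK.{u} → RA.{u} → Main.{u} → MainQ.{u}

def Stmt : Prop := ∀ {G : Type u} [Group G] [Finite G] [(fittingSubgroup G).Normal]
  (hK : ∀ K : Subgroup G, (fittingSubgroup K).Normal) (x : G),
    x ∈ (fittingSubgroup (G ⧸ fittingSubgroup G)).comap (QuotientGroup.mk' (fittingSubgroup G)) ↔
      ∀ y : G, ∀ hx : x ∈ closure ({x, y} : Set G),
        haveI := hK (closure ({x, y} : Set G));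
        (⟨x, hx⟩ : ↥(closure ({x, y} : Set G))) ∈
          (fittingSubgroup (↥(closure ({x, y} : Set G)) ⧸
            fittingSubgroup ↥(closure ({x, y} : Set G)))).comap
            (QuotientGroup.mk' (fittingSubgroup ↥(closure ({x, y} : Set G))))

def JobWRAP : Prop := QK.{u} → MainQ.{u} → Stmt.{u}

/-! ### Invariant `r`-subgroups -/

def M3 : Prop := AllS.{u} fun _ _ p Δ => ∀ X ∈ Δ, ∀ r, Pr p r → r ∣ Nat.card (Cent X) →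
  (∀ R R', MaxI r X R → MaxI r X R' → ∃ c ∈ Cent X, cj c R = R') ∧
    ∀ R, MaxI r X R → Op r (Cent X) ≤ R

def M4 : Prop := AllS.{u} fun _ _ p Δ => ∀ X ∈ Δ, ∀ r, Pr p r →
  (∀ P, Kr r X P → P ⊓ Cent X = ⊥) →
  (∀ S S', MaxK r X S → MaxK r X S' → S ⊓ S' ≠ ⊥ → S = S') ∧ ∀ S, MaxK r X S → Cent X ≤ Nrm S

def STAR : Prop := AllG.{u} fun G _ => ∀ (p r : ℕ) (x : G) (P F : Subgroup G), p.Prime → p ≠ 2 →
  orderOf x = p → Pr p r → Kr r (zpowers x) P →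
  (∀ t ∈ P, t * x = x * t → ∀ a ∈ P, ∀ b ∈ P, t * (x * x) = a * x * a⁻¹ * (b * x * b⁻¹) → t ∈ F) →
  P ⊓ Cent1 x ≤ F

def UQ1 : Prop := AllS.{u} fun _ _ p Δ => p ≠ 2 → ∀ X ∈ Δ, ∀ r, Pr p r → r ∣ Nat.card (Cent X) →
  IsPGroup r (EE r X)

def JobUQ1 : Prop := STAR.{u} → M3.{u} → M4.{u} → UQ1.{u}

def UQ2 : Prop := AllS.{u} fun _ _ p Δ => p = 2 → ∀ X ∈ Δ, ∀ r, Pr p r → r ∣ Nat.card (Cent X) →
  IsPGroup r (EE r X)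

def JobUQ2 : Prop := M3.{u} → UQ2.{u}

def UQ : Prop := AllS.{u} fun _ _ p Δ => ∀ r, Pr p r → Uq Δ r ∨ Fp Δ r

def F4 : Prop := AllS.{u} fun G _ p Δ => ∀ t, Pr p t → Fp Δ t → ∀ X ∈ Δ, ∀ S, MaxK t X S →
  S ≠ ⊥ → Cent X ≤ Nrm S ∧ (∀ H : Subgroup G, H ≠ ⊤ → X ≤ H → H ⊓ S ≠ ⊥ → H ≤ Nrm S) ∧
    (∀ n : G, IsPGroup p ↥(X ⊔ cj n X) → n ∈ Nrm S) ∧
    ∀ U : Subgroup G, IsPGroup p U → X ≤ U → U ≤ Nrm S

def JobF4 : Prop := M4.{u} → F4.{u}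

/-! ### The Baer-Suzuki argument -/

def DEC : Prop := AllS.{u} fun G _ p Δ => ∀ H I : Subgroup G, H ≠ ⊤ → I ≤ H → IsPGroup p I →
  wc Δ I = I → ∃ P : Subgroup G, IsPGroup p P ∧ wc Δ P = P ∧ I ≤ P ∧ P ≤ H ∧ ∀ M : Subgroup G,
    H ⊓ Nrm P ≤ M → (∀ t, Pr p t → ∀ X ∈ Δ, X ≤ P → ⁅Op t H, X⁆ ≤ M) → H ≤ M

def BS : Prop := AllS.{u} fun G _ p Δ => ∀ S M : Subgroup G, IsSylowOf p S ⊤ → S ≤ M →
  Nrm (wc Δ S) ≤ M →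
  (∀ I : Subgroup G, IsPGroup p I → wc Δ I = I → I ≠ ⊥ → I ≤ M → ∀ t, Pr p t → ∀ X ∈ Δ, X ≤ M →
    X ≤ Nrm I → ⁅Op t (Nrm I), X⁆ ≤ M) →
  (∀ I : Subgroup G, IsPGroup p I → wc Δ I = I → I ≠ ⊥ → I ≤ M → Nrm I ≤ M) ∧
    ∀ X ∈ Δ, X ≤ M → ∀ P : Subgroup G, IsPGroup p P → X ≤ P → P ≤ M

def JobBS : Prop := DEC.{u} → BS.{u}

def AC : Prop := AllS.{u} fun G _ p Δ => ∀ X ∈ Δ, ∀ L : Subgroup G, L ≠ ⊤ → X ≤ L →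
  (∀ t, Pr p t → ∀ P, Kr t X P → P ≤ L) → False

def JobAC : Prop := DEC.{u} → BS.{u} → AC.{u}

/-! ### `X` does not centralise `Z(E)` -/

def NC1 : Prop := AllS.{u} fun G _ p Δ => ∀ X ∈ Δ, ∀ r s, Pr p r → Pr p s → r ≠ s →
  IsPGroup r (EE r X) → EE r X ≠ ⊥ → Zc (EE r X) ≤ Cent X → ∀ K : Subgroup G, Kr s X K →
  Cent X ≤ Nrm K → K ≤ Cent (EE r X) ∨
    (Cy r X ∧ ∀ z ∈ Zc (EE r X), z ≠ 1 → K ⊓ Cent1 z ≤ Cent X)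

def NC2 : Prop := AllS.{u} fun G _ p Δ => ∀ r, Pr p r → Uq Δ r → (∀ X ∈ Δ, Cy r X) → ∀ X ∈ Δ,
  ∀ H : Subgroup G, H ≠ ⊤ → X ≤ H →
    ∃ H' : Subgroup G, H' ≠ ⊤ ∧ H ≤ H' ∧ omegaOne r (Zc (EE r X)) ≤ H'

def JobNC2 : Prop := DEC.{u} → F4.{u} → UQ.{u} → NC2.{u}

def NC3 : Prop := AllS.{u} fun G _ p Δ => ∀ X ∈ Δ, ∀ r s, Pr p r → Pr p s → r ≠ s →
  ∀ E K Z : Subgroup G, Kr r X E → Kr s X K → Nat.card Z = r → Z ≤ Cent E → Z ≤ Nrm K →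
  K ⊓ Cent Z ≤ Cent X →
  (∀ H : Subgroup G, H ≠ ⊤ → X ≤ H → ∃ H' : Subgroup G, H' ≠ ⊤ ∧ H ≤ H' ∧ Z ≤ H') → K ≤ Cent E

def NC : Prop := AllS.{u} fun _ _ p Δ => ∀ r, Pr p r → Uq Δ r → ∀ X ∈ Δ, EE r X ≠ ⊥ →
  Zc (EE r X) ≤ Cent X → ∀ s, Pr p s → r ≠ s → ∀ B, Kr s X B → B ≤ Cent (EE r X)

def JobNC : Prop := UQ.{u} → F4.{u} → NC1.{u} → NC2.{u} → NC3.{u} → NC.{u}

def CP : Prop := AllS.{u} fun _ _ p Δ => ∀ r s, Pr p r → Pr p s → r ≠ s → Uq Δ r → ∀ X ∈ Δ,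
  ∀ A B, Kr r X A → A ≠ ⊥ → Kr s X B → B ≤ Cent A → B ≤ Cent (EE r X)

def T0 : Prop := AllS.{u} fun G _ p Δ => ∀ I : Subgroup G, IsPGroup p I → wc Δ I = I → I ≠ ⊥ →
  ∀ X ∈ Δ, X ≤ Nrm I → ∀ s, Pr p s → ∀ B, Kr s X B → B ≤ Cent I → B = ⊥

def JobT0 : Prop := UQ.{u} → F4.{u} → NC.{u} → AC.{u} → CP.{u} ∧ T0.{u}

/-! ### The end -/

def PP : Prop := AllS.{u} fun G _ p Δ => ∀ S : Subgroup G, IsSylowOf p S ⊤ → ∀ X ∈ Δ, X ≤ S →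
  (∀ n : G, IsPGroup p ↥(X ⊔ cj n X) → n ∈ Nrm (wc Δ S)) ∧
    ∀ P : Subgroup G, IsPGroup p P → X ≤ P → wc Δ P ≤ wc Δ S

def JobPP : Prop := BS.{u} → T0.{u} → PP.{u}

def E1 : Prop := AllS.{u} fun G _ p Δ => ∀ S : Subgroup G, IsSylowOf p S ⊤ → ∀ X ∈ Δ, X ≤ S →
  ∀ t, Pr p t → ∀ E, MaxK t X E → E ≠ ⊥ →
    Nrm (wc Δ S) ≤ Nrm E ∧ (Uq Δ t → ∀ X' ∈ Δ, X' ≤ S → EE t X' = E)

def JobE1 : Prop := UQ.{u} → F4.{u} → PP.{u} → E1.{u}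

def E2 : Prop := AllS.{u} fun G _ p Δ => ∀ X ∈ Δ, ∀ t, Pr p t → ∀ E A H : Subgroup G,
  MaxK t X E → Kr t X A → A ≠ ⊥ → A ≤ E → H ≠ ⊤ → X ≤ H → A ≤ H → H ≤ Nrm E

def JobE2 : Prop := UQ.{u} → F4.{u} → DEC.{u} → CP.{u} → PP.{u} → E1.{u} → E2.{u}

def GEO : Prop := AllG.{u} fun G _ => ∀ (D : Subgroup G) (L : Set (Subgroup G)),
  (∀ A ∈ L, D ≤ A ∧ A ≠ ⊤) → (∀ g ∉ D, ∃ A ∈ L, g ∈ A) →
  (∀ A ∈ L, ∀ B ∈ L, ∀ g ∉ D, g ∈ A → g ∈ B → A = B) →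
  ∀ g ∉ D, ∀ k ∈ D, g⁻¹ * k * g ∈ D → k ∈ D.normalCore

def CF : Prop := AllS.{u} fun G _ _ Δ => ∀ N : Subgroup G, N.Normal → ∀ X ∈ Δ, N ⊔ X ≠ ⊤ → N = ⊥

def JobEND : Prop := PP.{u} → E1.{u} → E2.{u} → GEO.{u} → CF.{u} → Main.{u}

end H19.F2
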