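import Cfsg.Agent.H19.F2M
import Cfsg.Agent.H57.F2Kit
import Cfsg.Agent.H34.BS
import Cfsg.Agent.H42.OddOrder
import Cfsg.Agent.H22.MinAction

/-! F2 tower (row S3817): the case `p = 2` (`UQ2`) and the fact `H57.F2.FF 2`. -/

set_option autoImplicit false
set_option linter.unusedSectionVars false

namespace H19.F2

open Cfsg H46 Subgroup
open scoped commutatorElement

universe u

variable {G : Type u} [Group G] [Finite G] {Δ : Set (Subgroup G)} {p r : ℕ} {x : G}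

theorem St.exists_comm_conj (h : St 2 Δ) (hx : orderOf x = 2) :
    ∃ g : G, Commute x (g * x * g⁻¹) ∧ g * x * g⁻¹ ≠ x := by
  by_contra e
  push Not at e
  have o1 : oddCore G = ⊥ := by
    by_contra k
    exact h.nil _ (fittingOf_nil (oddCore G))
      (fittingOf_ne_bot (H42.odd_order (H2.odd_card_oddCore G)) k)
      (top_le_iff.1 (nrm_fittingOf (normalIn_top_iff.2 inferInstance).2))
  refine h.cent1_ne (g := x) (fun k => by simp [k] at hx) (top_le_iff.1 fun g _ => mem_cent1.2 ?_)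
  have := H34.zstar ⟨hx, e⟩ g
  rw [o1, mem_bot, mul_inv_eq_one, mul_inv_eq_iff_eq_mul] at this
  exact this.symm

theorem uq2 : UQ2.{u} := by
  intro G _ _ p Δ h hp X hX r hr hd
  subst hp
  obtain ⟨x, hx, rfl⟩ := h.exists_gen hX
  obtain ⟨g, c1, c2⟩ := h.exists_comm_conj hx
  have hV := h.conj _ hX g
  have hd' : r ∣ Nat.card (Cent (cj g (zpowers x))) := by rwa [← cj_cent, card_cj]
  rw [cj_zpowers] at hV hd'
  have hv : orderOf (g * x * g⁻¹) = 2 := by rw [orderOf_conj, hx]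
  generalize g * x * g⁻¹ = v at *
  have x2 : x * x = 1 := by rw [← pow_two, ← hx, pow_orderOf_eq_one]
  have v2 : v * v = 1 := by rw [← pow_two, ← hv, pow_orderOf_eq_one]
  have v1 : v ≠ 1 := fun k => by simp [k] at hv
  have xv : x * v ≠ 1 := fun k => c2 (mul_left_cancel (k.trans x2.symm))
  have a0 : x ∈ Cent1 v := mem_cent1.2 c1
  have a2 : x ∈ Cent1 (x * v) := mem_cent1.2 ((Commute.refl x).mul_right c1)
  have a3 : v ∈ Cent1 (x * v) := mem_cent1.2 (c1.symm.mul_right (Commute.refl v))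
  have a4 : v ∈ Cent (zpowers x) := by rw [cent_zpowers]; exact mem_cent1.2 c1.symm
  obtain ⟨J, m, j1⟩ := exists_maxI (isPGroup_Op hr.1 (Cent1 (x * v)))
    ((zpowers_le.2 a3).trans (le_nrm_piCoreOf _ _))
  have j2 := (m3 G 2 Δ h _ hV r hr hd').2 J m
  rw [cent_zpowers] at j2
  refine m.pg.to_le (EE_le_iff.2 fun P hP => hP.le_iff.2 fun k hk y hy => ?_)
  obtain ⟨A, -, b1, b2, b3⟩ := h.y1k hX hr hP.pg hP.nrm hk
  have hH := b3 v a4
  have b4 : zpowers x ≤ A ⊔ zpowers x ⊔ zpowers v := le_sup_right.trans le_sup_left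
  have b5 := h.kr_le_Op hX hr hH b4 b1 (le_sup_left.trans le_sup_left)
  have w := h.kr_Op hX hr b4
  have w1 : zpowers v ≤ Nrm ⁅Op r (A ⊔ zpowers x ⊔ zpowers v), zpowers x⁆ :=
    nrm_commutator (le_sup_right.trans (le_nrm_piCoreOf _ _)) (nrm_of_le_cent (zpowers_le.2 a4))
  refine (?_ : _ ≤ J) (b1.eq.ge.trans (commutator_mono b5 le_rfl) (b2 y hy))
  generalize ⁅Op r (A ⊔ zpowers x ⊔ zpowers v), zpowers x⁆ = W at w w1
  have w2 : W ⊓ Cent (zpowers x) ≤ ⁅W, W⁆ := H22.centralizer_le_commutator_of_commutator_eq w.nrm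
    (h.copr hr (h.isP hX) w.pg) w.eq
  have key : ∀ a, a ≠ 1 → x ∈ Cent1 a → Op r (Cent1 a) ≤ J → W ⊓ Cent1 a ≤ ⁅W, W⁆ ⊔ W ⊓ J :=
    fun a a1 a2 a3 => by
      have n1 : zpowers x ≤ Nrm (W ⊓ Cent1 a) := nrm_inf w.nrm (nrm_of_le (zpowers_le.2 a2))
      rw [← h.dec hX hr (w.pg.to_le inf_le_left) n1]
      exact sup_le (le_sup_of_le_right (le_inf ((commutator_le_left' n1).trans inf_le_left)
        ((h.l2 hX hr (h.cent1_ne a1) (zpowers_le.2 a2) inf_le_right (w.pg.to_le inf_le_left)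
          n1).trans a3))) (le_sup_of_le_left ((inf_le_inf_right _ inf_le_left).trans w2))
  have z : ∀ u : G, u * u = 1 → ∀ y ∈ zpowers u, y = 1 ∨ y = u := fun u hu y hy => by
    obtain ⟨n, rfl⟩ := mem_powers_iff_mem_zpowers.2 hy
    rcases Nat.even_or_odd' n with ⟨n, rfl | rfl⟩ <;> simp [pow_succ, pow_mul, hu]
  have d1 : zpowers x ⊓ zpowers v = ⊥ := eq_bot_iff.2 fun y hy =>
    (z x x2 y hy.1).elim id fun e => (z v v2 y hy.2).elim id fun e' => absurd (e'.symm.trans e) c2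
  have d2 := nrm_of_le_cent (zpowers_le.2 a4)
  refine inf_eq_left.1 (eq_of_der_sup_of_nil (nil_of_isPGroup hr.1 w.pg) inf_le_left
    (coprime_abelian_gen_cent1 (A := zpowers x ⊔ zpowers v) (comm_sup inferInstance inferInstance
      (zpowers_le.2 a4)) (fun k => ?_) (sup_le w.nrm w1)
      (h.copr hr (pg_sup h.pp (h.isP hX) (h.isP hV) d2) w.pg) fun a ha a1 => ?_))
  · have := eq_of_cyclic_of_card_eq k le_sup_left le_sup_right
      ((h.card _ hX).trans (h.card _ hV).symm)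
    rw [← this, inf_idem] at d1
    exact h.ne_bot hX d1
  · obtain ⟨b, hb, c, hc, rfl⟩ := (mem_sup_of_nrm d2).1 ha
    rcases z x x2 b hb with rfl | rfl <;> rcases z v v2 c hc with rfl | rfl
    · simp at a1
    · rw [one_mul]; exact key _ v1 a0 j2
    · rw [mul_one, ← cent_zpowers]; exact w2.trans le_sup_left
    · exact key _ xv a2 j1

theorem Op_eq (hr : r.Prime) (H : Subgroup G) : Op r H = pCoreOf r H := Op_eq_pCore hr H

theorem st_of (h : H57.F2.Hyp p x) : St p {X | ∃ g : G, X = zpowers (g * x * g⁻¹)} where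
  pp := h.pp
  ne := ⟨_, 1, rfl⟩
  card := by rintro _ ⟨g, rfl⟩; rw [card_zpowers', orderOf_conj, h.ord]
  conj := by rintro _ ⟨g, rfl⟩ k; exact ⟨k * g, by rw [cj_zpowers]; congr 1; group⟩
  tr := by
    rintro _ ⟨g, rfl⟩ _ ⟨k, rfl⟩
    exact ⟨k * g⁻¹, by rw [cj_zpowers]; congr 1; group⟩
  nil N h1 h2 h3 := h2 (eq_bot_iff.2 (nil_le_of_forall_Op h1 fun r hr _ => by
    by_contra k
    exact h.norq hr (isPGroup_Op hr N) (fun e => k e.le) (top_le_iff.1 (nrm_piCoreOf _ h3.ge))))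
  gen := by
    rintro _ ⟨g, rfl⟩ y e
    refine (h.conj g).two y ?_
    rwa [zpowers_eq_closure, zpowers_eq_closure, ← Subgroup.closure_union] at e
  loc H hH r hr R h1 h2 := by
    have := Fact.mk h.pp
    obtain ⟨K, ⟨k1, k2, k3⟩, -, k4⟩ := exists_max
      (fun K => K ⊴ H ∧ H57.F2.Fp p H ≤ K ∧ H98.res p K ≤ H57.F2.Fp p H)
      ⟨⟨H57.F2.Fp_le p H, H57.F2.self_le_nor_Fp p H⟩, le_rfl, H98.res_le _⟩
    have k5 : wc {X | ∃ g : G, X = zpowers (g * x * g⁻¹)} H ≤ K := wc_le_iff.2 (by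
      rintro _ ⟨g, rfl⟩ a
      have a1 := (h.conj g).h1b hH (zpowers_le.1 a)
      obtain ⟨T, hT, -⟩ := H98.exists_isSyl_le (h.conj g).pg (H98.le_ncl H _)
      have a2 := H98.ncl_le_of_le a
      refine ((H98.le_ncl H _).trans le_sup_right).trans (k4 _ ⟨k1.sup ⟨a2, H98.le_normalizer_ncl _ _⟩,
        k2.trans le_sup_left, (H98.res_mono ?_).trans ((H98.res_sup_eq_right hT.isPGroup
          ((hT.le.trans a2).trans k1.2)).le.trans k3)⟩ le_sup_left).le
      exact sup_le le_sup_right (hT.sup_res.ge.trans (sup_le_sup_left (a1.trans k2) _)))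
    rw [Op_eq hr.1]
    refine H57.F2.le_core_of_Fp hr.1 h2 ((H98.res_eq_self_of_coprime ?_).ge.trans
      ((H98.res_mono (h1.trans k5)).trans k3))
    exact (isPi_compl_singleton_iff_coprime h.pp).1 ((isPi_of_isPGroup hr.1 h2).compl_singleton
      fun e => hr.2 (Set.mem_singleton_iff.1 e).symm)

/-- The fact `(F)` for `p = 2`. -/
theorem ff2 (G : Type u) [Group G] [Finite G] : H57.F2.All (G := G) 2 (H57.F2.FF 2) := by
  intro x h q hq Y hY
  have s := st_of h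
  have hX : zpowers x ∈ {X | ∃ g : G, X = zpowers (g * x * g⁻¹)} := ⟨1, by simp⟩
  have y1 : Kr q (zpowers x) Y := ⟨hY.pg, zpowers_le.2 hY.inv, hY.eq⟩
  change Y ⊓ Cent1 x ≤ pCoreOf q (Cent1 x)
  rw [← cent_zpowers, ← Op_eq hq.1]
  by_cases k : q ∣ Nat.card (Cent (zpowers x))
  · exact (inf_le_inf_right _ y1.le_EE).trans (le_Op hq.1
      ((uq2 G 2 _ s rfl _ hX q hq k).to_le inf_le_left)
      ⟨inf_le_right, nrm_inf cent_le_nrm_EE le_nrm_self⟩)
  · exact ((s.fp_of hX k).inf hX hq.1 hY.pg).le.trans bot_le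

end H19.F2
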