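/- Tower FE (S1308): an involution that stabilises a maximal clique lies in one of its vertices. -/
import Cfsg.Agent.H14.FEKit

set_option autoImplicit false

namespace H19.FeMX
open Cfsg Subgroup MulAction H14 H98 H1.Gold H31.S2 H14.GC H14.FE

universe u

theorem jobMX : H14.FE.JobMX.{u} := by
  intro G _ _ A h C hC B hB d hd d2 hst
  refine hC.2 B hB fun B' hB' => ?_
  have hB'' := hst B' hB'
  have hn : d ∈ nor (B' ⊔ cj d B') := by
    refine cj_eq_self_iff.1 ?_
    rw [cj, Subgroup.map_sup]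
    change cj d B' ⊔ cj d (cj d B') = _
    rw [cj_cj, d2.2, cj_one, sup_comm]
  obtain ⟨P, hP, hl, hs⟩ := exists_inv_syl d2.isPGroup (zpowers_le.2 hn)
  have h1 : IsSyl 2 (P ⊓ (B' ⊔ cj d B') ⊓ B') B' :=
    hs.inf_of_le_normalizer le_sup_left
      (inf_le_right.trans (sup_le le_normalizer (hC.1.2 _ hB'' _ hB')))
  obtain ⟨e0, he0, e02⟩ := four_exists_inv (h.four B' (hC.1.1 B' hB'))
  obtain ⟨e, he, e2⟩ := exists_inv_two h1.isPGroup (syl_ne_bot h1 he0 e02)
  exact h.f3 B B' hB (hC.1.1 B' hB') d hd e he.2 d2 e2 P hP.isPGroup (hl (mem_zpowers d)) he.1.1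

end H19.FeMX
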