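/- FS-HZL (row S3617): the line structure on a normal simple subgroup of a `2`-transitive group. -/
import Cfsg.Agent.H82.FSSpec3
import Cfsg.Agent.H82.FSKit

set_option autoImplicit false

namespace H19.FsHZL

open Cfsg Subgroup H82.FS
open scoped commutatorElement

universe u v

section

variable {G H : Type u} [Group G] [Group H] (f : G →* H) (A : Subgroup G) (g : G)

theorem map_cj : (cj g A).map f = cj (f g) (A.map f) := by
  rw [cj, cj, map_map, map_map]
  congr 1
  ext y
  simp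

theorem map_ln : (ln A g).map f = ln (A.map f) (f g) := by rw [ln, ln, Subgroup.map_sup, map_cj]

theorem map_kl : (kl A g).map f = kl (A.map f) (f g) := by rw [kl, kl, map_commutator, map_ln]

theorem comm_iff {K : Subgroup G} (hf : Function.Injective f) :
    IsMulCommutative (K.map f) ↔ IsMulCommutative K := by
  rw [← le_centralizer_iff_isMulCommutative, ← le_centralizer_iff_isMulCommutative]
  constructor
  · intro h a ha b hb
    exact hf (by rw [map_mul, map_mul]; exact h (mem_map_of_mem f ha) _ (mem_map_of_mem f hb))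
  · rintro h _ ⟨a, ha, rfl⟩ _ ⟨b, hb, rfl⟩
    rw [← map_mul, ← map_mul, h ha b hb]

theorem cj_zp (x : G) : cj g (zpowers x) = zpowers (g * x * g⁻¹) :=
  MonoidHom.map_zpowers _ x

variable {Ω : Type v} [MulAction G Ω] {T : Subgroup G} {γ : Ω} {x : G}

theorem zc_pow (h : Zc T γ x) (n : ℕ) : Zc T γ (x ^ n) :=
  ⟨pow_mem h.1 n, pow_mem (show x ∈ MulAction.stabilizer G γ from h.2.1) n,
    fun t h1 h2 => (h.2.2 t h1 h2).pow_left n⟩

theorem zc_cj (hT : T.Normal) (h : Zc T γ x) (hg : g • γ = γ) : Zc T γ (g * x * g⁻¹) := by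
  have hg' : g⁻¹ • γ = γ := inv_smul_eq_iff.2 hg.symm
  refine ⟨hT.conj_mem _ h.1 g, by rw [mul_smul, mul_smul, hg', h.2.1, hg], fun t h1 h2 => ?_⟩
  have := (h.2.2 _ (hT.conj_mem' _ h1 g) (by rw [mul_smul, mul_smul, hg, h2, hg'])).map
    (MulAut.conj g)
  simpa [mul_assoc] using this

end

theorem jobHZL : JobHZL.{u, v} := fun h1 h2 X _ _ Ω _ _ _ t2 T hT hs hn γ y hy y1 => by
  obtain ⟨p, pp, hp⟩ := Nat.exists_prime_and_dvd (n := orderOf y) (by rwa [Ne, orderOf_eq_one_iff])
  have hx := zc_pow hy (orderOf y / p)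
  have ho : orderOf (y ^ (orderOf y / p)) = p := orderOf_pow_orderOf_div (orderOf_pos y).ne' hp
  generalize y ^ (orderOf y / p) = x at hx ho
  have x1 : x ≠ 1 := fun e => pp.ne_one (by rw [← ho, e, orderOf_one])
  obtain ⟨k1, k2⟩ := h1 X Ω t2 T hT hs hn γ x hx x1
  have H2 := h2 X Ω t2 T hT (fun δ z a b => (h1 X Ω t2 T hT hs hn δ z a b).1) p γ x pp hx ho
  obtain ⟨g₀, g0⟩ : ∃ g₀ : T, (g₀ : X) • γ ≠ γ := by
    by_contra! e
    rcases hs.eq_bot_or_eq_top_of_normal (center T) inferInstance with c | c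
    · exact x1 (congrArg Subtype.val (c.le (mem_center_iff.2 fun t =>
        Subtype.ext (hx.2.2 t t.2 (e t)).eq.symm : (⟨x, hx.1⟩ : T) ∈ center T)))
    · exact hn ⟨⟨fun a b => (mem_center_iff.1 (c.ge (mem_top b)) a)⟩⟩
  obtain ⟨k3, r, r1, r2, r3, -⟩ := H2 g₀ g0
  have fx : ∀ g : X, g • γ = γ → cj g (zpowers x) = zpowers x := fun g hg =>
    eq_of_le_of_card_ge (by
      rw [cj_zp, zpowers_le]
      exact k3 _ (zc_cj g hT hx hg) (by rw [conj_pow, ← ho, pow_orderOf_eq_one]; simp))
      (card_cj g _).ge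
  have cn : ∀ g : X, g • γ ≠ γ → ∃ h, ln (zpowers x) g = cj h (ln (zpowers x) g₀) ∧
      kl (zpowers x) g = cj h (kl (zpowers x) g₀) := fun g hg => by
    obtain ⟨h, a1, a2⟩ := MulAction.is_two_pretransitive_iff.1 t2 g0.symm hg.symm
    have : ln (zpowers x) g = cj h (ln (zpowers x) g₀) := by
      rw [ln, ln, cj_sup, fx h a1, cj_cj, ← mul_inv_cancel_left g (h * g₀), cj_mul g,
        fx (g⁻¹ * (h * g₀)) (by rw [mul_smul, mul_smul, a2, inv_smul_smul])]
    exact ⟨h, this, by rw [kl, kl, cj_comm, this]⟩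
  have inj := T.subtype_injective
  have hA : (zpowers (⟨x, hx.1⟩ : T)).map T.subtype = zpowers x := MonoidHom.map_zpowers _ _
  generalize hB : zpowers (⟨x, hx.1⟩ : T) = A at hA
  have m1 : ∀ g : T, (cj g A).map T.subtype = cj (g : X) (zpowers x) := fun g => by rw [map_cj, hA]; rfl
  have m2 : ∀ g : T, (ln A g).map T.subtype = ln (zpowers x) g := fun g => by rw [map_ln, hA]; rfl
  have m3 : ∀ g : T, (kl A g).map T.subtype = kl (zpowers x) g := fun g => by rw [map_kl, hA]; rfl
  have fA : ∀ g : T, (g : X) • γ = γ → cj g A = A := fun g hg =>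
    map_injective inj (by rw [m1, hA, fx g hg])
  have kA : ∀ g : T, (g : X) • γ = γ → kl A g = ⊥ := fun g hg => by
    rw [kl, ln, fA g hg, sup_idem, commutator_eq_bot_iff_le_centralizer,
      le_centralizer_iff_isMulCommutative, ← hB]
    infer_instance
  have cI : ∀ (h : X) (K : Subgroup X), IsMulCommutative (cj h K) ↔ IsMulCommutative K := fun h K =>
    comm_iff _ (MulAut.conj h).injective
  refine ⟨p, r, A, ⟨⟨pp, ho ▸ k2, r1, r2, ?_, ?_, fun g => ?_, fun g => ?_⟩, fun g h a1 a2 => ?_⟩,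
    fun g hg => ?_, ?_⟩
  · rw [← card_map_of_injective inj, hA, Nat.card_zpowers, ho]
  · refine (hs.eq_bot_or_eq_top_of_normal _ inferInstance).resolve_left fun e => x1 ?_
    exact congrArg Subtype.val (e.le (le_normalClosure (hB ▸ mem_zpowers _)))
  · by_cases hg : (g : X) • γ = γ
    · exact kA g hg ▸ IsPGroup.of_bot
    · obtain ⟨h, -, e⟩ := cn g hg
      exact IsPGroup.of_equiv (e ▸ r3.map _ : IsPGroup r (kl (zpowers x) g))
        ((MulEquiv.subgroupCongr (m3 g).symm).trans (equivMapOfInjective _ _ inj).symm)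
  · by_cases hg : (g : X) • γ = γ
    · exact (fA g hg).le.trans le_sup_right
    · rw [← map_le_map_iff_of_injective inj, Subgroup.map_sup, m1, m3, hA]
      exact (H2 g hg).2.choose_spec.2.2.2
  · obtain ⟨a, e1, -⟩ := cn g fun e => a1 (fA g e)
    obtain ⟨b, e2, -⟩ := cn h fun e => a2 (fA h e)
    rw [← card_map_of_injective inj, ← card_map_of_injective (K := ln A h) inj, m2, m2, e1, e2,
      card_cj, card_cj]
  · have e : (g : X) • γ = γ := k1 _ (by
      have : x ∈ cj (g : X) (zpowers x) := by rw [← m1, cj_eq_iff.2 hg, hA]; exact mem_zpowers x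
      rw [cj_zp] at this
      refine (zpowers_le (H := MulAction.stabilizer X ((g : X) • γ))).2 ?_ this
      rw [MulAction.mem_stabilizer_iff, mul_smul, mul_smul, inv_smul_smul, hx.2.1])
    rw [← hB]
    rintro _ ⟨n, rfl⟩
    exact Subtype.ext ((hx.2.2 g g.2 e).zpow_left n).eq
  · by_cases c : IsMulCommutative (kl (zpowers x) g₀)
    · refine Or.inl fun g => ?_
      by_cases hg : (g : X) • γ = γ
      · rw [kA g hg]
        infer_instance
      · obtain ⟨h, -, e⟩ := cn g hg
        rwa [← comm_iff _ inj, m3, e, cI]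
    · refine Or.inr fun g hg => ?_
      obtain ⟨h, -, e⟩ := cn g fun e => hg (fA g e)
      rwa [← comm_iff _ inj, m3, e, cI]

end H19.FsHZL
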