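import Cfsg.Agent.H82.FSSpec
import Cfsg.Agent.H1.InvSylow

/-! Tower FS: the Frobenius structure of the central quotient. -/

set_option autoImplicit false
set_option linter.unusedSectionVars false

namespace H19.FsTop

open H82.FS Cfsg Subgroup
open scoped commutatorElement Pointwise

universe u

variable {G : Type u} [Group G] [Finite G] {p r : ℕ} {A : Subgroup G}

omit [Finite G] in
theorem mem_sup' {W : Subgroup G} (h : A ≤ normalizer (W : Set G)) {g : G} (hg : g ∈ W ⊔ A) :
    ∃ w ∈ W, ∃ a ∈ A, w * a = g := by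
  rw [← SetLike.mem_coe, coe_mul_of_right_le_normalizer_left W A h] at hg
  exact hg

theorem mem_zp (hL : Lin p r A) {a b : G} (ha : a ∈ A) (h1 : a ≠ 1) (hb : b ∈ A) :
    ∃ i : ℤ, a ^ i = b := by
  have := Fact.mk hL.hp
  obtain ⟨i, hi⟩ := mem_zpowers_of_prime_card (g := (⟨a, ha⟩ : A)) (g' := ⟨b, hb⟩) hL.card
    fun h => h1 (congrArg Subtype.val h)
  exact ⟨i, congrArg Subtype.val hi⟩

theorem comm (hL : Lin p r A) {a b : G} (ha : a ∈ A) (hb : b ∈ A) : a * b = b * a := by
  by_cases h1 : a = 1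
  · simp [h1]
  · obtain ⟨i, rfl⟩ := mem_zp hL ha h1 hb
    exact (Commute.self_zpow a i).eq

theorem comm_le (hL : Lin p r A) {W : Subgroup G} (h : A ≤ normalizer (W : Set G)) :
    ⁅W ⊔ A, W ⊔ A⁆ ≤ W := commutator_le.2 fun x hx y hy => by
  obtain ⟨w, hw, a, ha, rfl⟩ := mem_sup' h hx
  obtain ⟨v, hv, b, hb, rfl⟩ := mem_sup' h hy
  have e : ⁅w * a, v * b⁆ = w * (a * v * a⁻¹) * ((a * b * a⁻¹) * w⁻¹ * b⁻¹) * v⁻¹ := by
    rw [commutatorElement_def]
    group
  rw [e, comm hL ha hb, mul_inv_cancel_right]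
  exact mul_mem (mul_mem (mul_mem hw ((mem_normalizer_iff.1 (h ha) v).1 hv))
    ((mem_normalizer_iff.1 (h hb) _).1 (inv_mem hw))) (inv_mem hv)

theorem norm_of (hL : Lin p r A) {g : G} (h : kl A g = ⊥) : g ∈ normalizer (A : Set G) :=
  mem_normalizer_fintype fun a ha => by
    have := hL.sub g
    rw [h, bot_sup_eq] at this
    exact this ⟨a, ha, rfl⟩

theorem comm_cen (hL : Lin p r A) {x y : G} (hx : x ∈ center G ⊔ A) (hy : y ∈ center G ⊔ A) :
    x * y = y * x := by
  obtain ⟨w, hw, a, ha, rfl⟩ := mem_sup' le_normalizer_of_normal hx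
  obtain ⟨v, hv, b, hb, rfl⟩ := mem_sup' le_normalizer_of_normal hy
  rw [mem_center_iff] at hw hv
  rw [mul_assoc, ← mul_assoc a, hv, mul_assoc v, comm hL ha hb, ← hw, mul_assoc v b, ← hw,
    mul_assoc, mul_assoc]

theorem frob (hL : Lin p r A) (hG : ¬ IsMulCommutative G)
    (hN : normalizer (A : Set G) ≤ center G ⊔ A) : IsFrobeniusComplement (bar A) := by
  have hT : center G ⊔ A ≠ ⊤ := fun h =>
    hG ⟨⟨fun x y => comm_cen hL (h ▸ mem_top x) (h ▸ mem_top y)⟩⟩
  have hc : (bar A).comap (QuotientGroup.mk' (center G)) = center G ⊔ A := by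
    rw [comap_map_eq, QuotientGroup.ker_mk', sup_comm]
  refine ⟨fun h => hT ?_, fun h => hT (by rw [← hc, h, comap_top]), fun g hg => ?_⟩
  · rw [Subgroup.map_eq_bot_iff, QuotientGroup.ker_mk'] at h
    exact top_le_iff.1 (hL.gen.ge.trans ((normalClosure_le_normal h).trans le_sup_left))
  obtain ⟨g, rfl⟩ := QuotientGroup.mk'_surjective _ g
  refine eq_bot_iff.2 fun x hx => by_contra fun h1 => hg ?_
  obtain ⟨y, ⟨a, ha, rfl⟩, rfl⟩ := (mem_smul_pointwise_iff_exists _ _ _).1 hx.2
  have ha1 : a ≠ 1 := fun h => h1 (by simp [h])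
  have h2 : g * a * g⁻¹ ∈ center G ⊔ A := by
    rw [← hc, mem_comap]
    simpa using hx.1
  have h3 : ln A g ≤ center G ⊔ A := sup_le le_sup_right (by
    rintro _ ⟨b, hb, rfl⟩
    obtain ⟨i, rfl⟩ := mem_zp hL ha ha1 hb
    rw [map_zpow]
    exact zpow_mem h2 i)
  rw [← mem_comap, hc]
  exact hN (norm_of hL (eq_bot_iff.2 (commutator_le.2 fun x hx y hy =>
    commutatorElement_eq_one_iff_mul_comm.2 (comm_cen hL (h3 hx) (h3 hy)))))

omit [Finite G] in
theorem card_dvd (hL : Lin p r A) {R : Subgroup G} [R.Normal] (h : R ⊔ A = ⊤) :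
    Nat.card G ∣ Nat.card R * p := by
  rw [← R.card_mul_index, ← relIndex_top_right, ← h, relIndex_sup_left, ← hL.card]
  exact Nat.mul_dvd_mul_left _ (relIndex_dvd_card R A)

theorem case_an (hL : Lin p r A) (r2 : r ≠ 2) {R : Subgroup G} (hR : Sp r A R) (hC : Cls r A R)
    (h : R ⊔ A = ⊤) : Odd (Nat.card G) ∧ normalizer (A : Set G) ≤ center G ⊔ A := by
  have := Fact.mk hL.hp
  have := Fact.mk hL.hr
  have : R.Normal := normalizer_eq_top_iff.1 (top_le_iff.1 (h.ge.trans
    (sup_le le_normalizer hR.2.1)))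
  obtain ⟨n, hn⟩ := hR.1.exists_card_eq
  refine ⟨Odd.of_dvd_nat ?_ (card_dvd hL h), fun g hg => ?_⟩
  · exact (hn ▸ (hL.hr.odd_of_ne_two r2).pow).mul (hL.hp.odd_of_ne_two hL.p2)
  obtain ⟨w, hw, a, ha, rfl⟩ := mem_sup' hR.2.1 (h ▸ mem_top g)
  have hwN : w ∈ normalizer (A : Set G) := (mul_mem_cancel_right (le_normalizer ha)).1 hg
  have hd : Disjoint R A := IsPGroup.disjoint_of_ne r p hL.pr _ _ hR.1
    (IsPGroup.of_card (hL.card.trans (pow_one p).symm))
  have hwA : w ∈ centralizer (A : Set G) := fun b hb => by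
    have h1 : w * b * w⁻¹ * b⁻¹ = 1 := disjoint_def.1 hd
      (by simpa only [mul_assoc] using mul_mem hw (this.conj_mem _ (inv_mem hw) b))
      (mul_mem ((mem_normalizer_iff.1 hwN b).1 hb) (inv_mem hb))
    exact (commutatorElement_eq_one_iff_mul_comm.1 h1).symm
  have hwR : w ∈ centralizer (R : Set G) := hC.2.1 (hC.1 ▸ ⟨hw, hwA⟩)
  refine mul_mem (mem_sup_left (mem_center_iff.2 fun x => ?_)) (mem_sup_right ha)
  obtain ⟨v, hv, b, hb, rfl⟩ := mem_sup' hR.2.1 (h ▸ mem_top x)
  rw [mul_assoc, hwA b hb, ← mul_assoc, hwR v hv, mul_assoc]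

theorem case_ab (hL : Lin p r A) (r2 : r ≠ 2) (hC : centralizer (A : Set G) ≤ A)
    (hD : ¬ A ≤ commutator G) : Odd (Nat.card G) ∧ normalizer (A : Set G) ≤ center G ⊔ A := by
  have := Fact.mk hL.hp
  have := Fact.mk hL.hr
  have hd : ∀ a ∈ A, a ∈ commutator G → a = 1 := fun a ha h => by_contra fun h1 => hD fun b hb => by
    obtain ⟨i, rfl⟩ := mem_zp hL ha h1 hb
    exact zpow_mem h i
  have hN : normalizer (A : Set G) ≤ A := fun g hg => hC fun b hb =>
    (commutatorElement_eq_one_iff_mul_comm.1 (hd ⁅g, b⁆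
      (mul_mem ((mem_normalizer_iff.1 hg b).1 hb) (inv_mem hb))
      (commutator_mem_commutator (mem_top _) (mem_top _)))).symm
  refine ⟨?_, hN.trans le_sup_right⟩
  have hT : commutator G ⊔ A = ⊤ := by
    have : (commutator G ⊔ A).Normal := ⟨fun x hx g => by
      simpa [commutatorElement_def] using mul_mem (mem_sup_left (S := commutator G) (T := A)
        (commutator_mem_commutator (mem_top g) (mem_top x))) hx⟩
    exact top_le_iff.1 (hL.gen.ge.trans (normalClosure_le_normal (le_sup_right (a := commutator G))))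
  have hA : IsPGroup p A := IsPGroup.of_card (hL.card.trans (pow_one p).symm)
  have hco : (Nat.card A).Coprime (Nat.card (commutator G)) := by
    rw [hL.card, hL.hp.coprime_iff_not_dvd]
    intro h
    obtain ⟨P, hP⟩ := hA.exists_le_sylow
    have hPA : (P : Subgroup G) ≤ A := by
      have := P.2.isNilpotent
      have h1 : A.subgroupOf P = ⊤ := by_contra fun h1 => by
        obtain ⟨x, hx, hx'⟩ := SetLike.exists_of_lt
          (Group.normalizerCondition_of_isNilpotent _ (lt_top_iff_ne_top.2 h1))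
        rw [← subgroupOf_normalizer_eq hP] at hx
        exact hx' (hN hx)
      exact subgroupOf_eq_top.1 h1
    obtain ⟨⟨x, hx⟩, ho⟩ := exists_prime_orderOf_dvd_card' p h
    replace ho : orderOf x = p := (orderOf_coe (⟨x, hx⟩ : commutator G)).trans ho
    obtain ⟨Q, hQ⟩ := (IsPGroup.of_card (n := 1) ((Nat.card_zpowers x).trans
      (ho.trans (pow_one p).symm))).exists_le_sylow
    obtain ⟨g, rfl⟩ := MulAction.exists_smul_eq G P Q
    obtain ⟨y, hy, e⟩ := (mem_smul_pointwise_iff_exists _ _ _).1 (hQ (mem_zpowers x))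
    have hy' : y ∈ commutator G := by
      have := (inferInstance : (commutator G).Normal).conj_mem _ hx g⁻¹
      simpa [← e, mul_assoc] using this
    rw [hd y (hPA hy) hy', smul_one] at e
    rw [← e, orderOf_one] at ho
    exact hL.hp.ne_one ho.symm
  have : IsCyclic A := isCyclic_of_prime_card hL.card
  obtain ⟨P, hP⟩ := H1.exists_invariant_sylow_subgroup A (commutator G) le_normalizer_of_normal hco
    (.inl (Group.isSolvable_of_comm fun a b => Subtype.ext (comm hL a.2 b.2))) 2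
  have hP1 : (P : Subgroup (commutator G)) = ⊥ := eq_bot_iff.2 fun y hy => by
    have h1 : kl A y ≤ map (commutator G).subtype P := by
      have : ln A y ≤ map (commutator G).subtype P ⊔ A := sup_le le_sup_right (by
        rintro _ ⟨b, hb, rfl⟩
        have : y.1 ∈ map (commutator G).subtype P ⊔ A := mem_sup_left ⟨y, hy, rfl⟩
        exact mul_mem (mul_mem this (mem_sup_right hb)) (inv_mem this))
      exact (commutator_mono this this).trans (comm_le hL hP)
    have h2 : kl A y = ⊥ := (IsPGroup.disjoint_of_ne r 2 r2 _ _ (hL.line y)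
      (P.2.map _)).eq_bot_of_le h1
    exact Subtype.ext (hd y (hN (norm_of hL h2)) y.2)
  have h2 : ¬ 2 ∣ Nat.card (commutator G) := by
    have := P.not_dvd_index
    rwa [hP1, index_bot] at this
  exact Odd.of_dvd_nat ((Nat.odd_iff.2 (by omega)).mul (hL.hp.odd_of_ne_two hL.p2)) (card_dvd hL hT)

theorem jobTop57 : JobTop57.{u} := by
  intro hT hAb hS hM G _ _ p r A hG r2 hU h
  have key : Odd (Nat.card G) ∧ normalizer (A : Set G) ≤ center G ⊔ A := by
    rcases h with h | h
    · obtain ⟨h1, h2⟩ := hAb G p r A hU.lin (hT G p r A hU.lin r2) h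
      exact case_ab hU.lin r2 h1 h2
    · obtain ⟨R, h1, h2⟩ := hM G p r A hU h (.inl r2)
      exact case_an hU.lin r2 h1 (hS G p r A hU h R h1) h2
  exact ⟨key.1.of_dvd_nat (card_quotient_dvd_card _), _, frob hU.lin hG key.2⟩

end H19.FsTop
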