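import Cfsg.Agent.H41.ItSpec
import Cfsg.Agent.H24.SzFacts
import Cfsg.Agent.H66.SzClass
import Cfsg.Agent.H66.SzTorus

/-! Tower IT, slot RS: a Suzuki group has at least five centraliser orders. -/

set_option autoImplicit false

namespace H19.ItRS
open Cfsg Subgroup H41.IT

universe u

theorem cs_finite (G : Type u) [Group G] [Finite G] : (CS G).Finite := by
  refine (Set.finite_range (fun g : G => c g)).subset ?_
  rintro _ ⟨g, -, rfl⟩
  exact ⟨g, rfl⟩

theorem card_mem_of_isCC {G : Type u} [Group G] [Finite G] {A : Subgroup G} (hA : H66.IsCC A)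
    (h1 : 1 < Nat.card A) : Nat.card A ∈ CS G := by
  have hne : A ≠ ⊥ := by
    rintro rfl
    simp at h1
  obtain ⟨x, hx1⟩ := (Subgroup.ne_bot_iff_exists_ne_one).1 hne
  have hx : (x : G) ≠ 1 := fun h => hx1 (Subtype.ext h)
  exact ⟨x, hx, by rw [c, C, hA x x.2 hx]⟩

theorem jobRS : H41.IT.JobRS.{u} := by
  intro G _ _ hG
  obtain ⟨F, _, T, m, hT, ⟨M⟩⟩ := H24.exists_szModel hG
  have hm := hT.hm
  have := hT.finite
  have hq := hT.card
  set r := 2 ^ (m + 1) with hr
  set q := 2 ^ (2 * m + 1) with hqdef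
  have hr4 : 4 ≤ r := by
    have : 2 ^ 2 ≤ 2 ^ (m + 1) := Nat.pow_le_pow_right two_pos (by omega)
    simpa using this
  have hrq : 2 * r ≤ q := by
    have : 2 ^ (m + 2) ≤ 2 ^ (2 * m + 1) := Nat.pow_le_pow_right two_pos (by omega)
    rw [hr, hqdef]
    calc 2 * 2 ^ (m + 1) = 2 ^ (m + 2) := by ring
      _ ≤ _ := this
  have hP : H66.aP m = q + r + 1 := rfl
  have hM : H66.aM m = q - r + 1 := rfl
  obtain ⟨A, -, hA2, hA3⟩ := M.exists_torus hT (k := H66.aP m) (Or.inl rfl)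
  obtain ⟨B, -, hB2, hB3⟩ := M.exists_torus hT (k := H66.aM m) (Or.inr rfl)
  have h1 : q + r + 1 ∈ CS G := by
    rw [← hP, ← hA2]
    exact card_mem_of_isCC hA3 (by rw [hA2, hP]; omega)
  have h2 : q - r + 1 ∈ CS G := by
    rw [← hM, ← hB2]
    exact card_mem_of_isCC hB3 (by rw [hB2, hM]; omega)
  have h3 : q - 1 ∈ CS G := by
    rw [← hq, ← M.card_H]
    exact card_mem_of_isCC M.isCC_H (by rw [M.card_H, hq]; omega)
  have h4 : q ^ 2 ∈ CS G := by
    have hz : M.u 0 1 ≠ 1 := fun h => one_ne_zero (M.u_eq_one.1 h).2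
    refine ⟨M.u 0 1, hz, ?_⟩
    rw [c, C, M.centralizer_z (M.u_mem_Z 1) hz, M.card_Q, hq]
  have h5 : 2 * q ∈ CS G := by
    have hz : M.u 1 0 ≠ 1 := fun h => one_ne_zero (M.u_eq_one.1 h).1
    refine ⟨M.u 1 0, hz, ?_⟩
    rw [c, C, M.card_centralizer_u one_ne_zero 0, hq]
  have hsq : 2 * q < q ^ 2 := by nlinarith
  have hsub : ({q - r + 1, q - 1, q + r + 1, 2 * q, q ^ 2} : Set ℕ) ⊆ CS G := by
    intro x hx
    simp only [Set.mem_insert_iff, Set.mem_singleton_iff] at hx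
    rcases hx with rfl | rfl | rfl | rfl | rfl <;> assumption
  have hcard : ({q - r + 1, q - 1, q + r + 1, 2 * q, q ^ 2} : Set ℕ).ncard = 5 := by
    rw [Set.ncard_insert_of_notMem, Set.ncard_insert_of_notMem, Set.ncard_insert_of_notMem,
      Set.ncard_pair]
    · omega
    all_goals
      simp only [Set.mem_insert_iff, Set.mem_singleton_iff, not_or]
      omega
  rw [← hcard]
  exact Set.ncard_le_ncard hsub (cs_finite G)

end H19.ItRS
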