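import Cfsg.Agent.H19.KgvOrb

/-! Number-theoretic core of slot KGV-JVL. -/

set_option autoImplicit false

namespace H19.KgvOrb

open Finset H63.Kgv

open Classical in
theorem core (p : ℕ) [Fact p.Prime] (M : ℕ) {K : Type} [Field K] [Fintype K] (θ : Kˣ →* ℂˣ)
    (a : ℕ → ℕ → ZMod p) (H : ZMod p → Kˣ → ℂ) (hs : HS p M θ a H) (r d : ℕ) (ω : Kˣ)
    (hr : r.Prime) (hd : d ∣ M) (hrd : r ∣ p ^ d - 1) (hω : orderOf ω = r) (m : Kˣ → ℕ)
    (hm : ∀ u, m (u ^ p ^ d) = m u) (hroot : ∀ u, m u ≠ 0 → ∃ w, u = w ^ r) (t : ZMod p)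
    (ht : t ≠ 0) :
    ∏ w : Kˣ, H t w ^ (d * m (w ^ r)) =
      (∏ i ∈ range r, H t (ω ^ i) ^ d) ^ (∑ u, m u) * ∏ u : Kˣ, H (r * t) u ^ (d * m u) := by
  have hp : p.Prime := Fact.out
  have hM := hs.pos
  have hd0 : 0 < d := Nat.pos_of_dvd_of_pos hd hM
  have hcard : Nat.card Kˣ = p ^ M - 1 := by
    rw [Nat.card_units, Nat.card_eq_fintype_card, hs.card]
  have hpM : 1 ≤ p ^ M := Nat.one_le_pow _ _ hp.pos
  have hcop : (Nat.card Kˣ).Coprime (p ^ d) := by
    rw [hcard]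
    apply Nat.Coprime.pow_right
    have h1 : (p ^ M - 1).Coprime (p ^ M) := by
      have : (p ^ M - 1).Coprime (p ^ M - 1 + 1) := by simp
      rwa [Nat.sub_add_cancel hpM] at this
    exact h1.coprime_dvd_right (dvd_pow_self p hM.ne')
  have hbij : Function.Bijective (fun u : Kˣ => u ^ p ^ d) := hcop.pow_left_bijective
  have hall : ∀ u : Kˣ, u ^ p ^ M = u := by
    intro u
    have h1 : u ^ Nat.card Kˣ = 1 := pow_card_eq_one'
    rw [hcard] at h1
    rw [← Nat.sub_add_cancel hpM, pow_succ, h1, one_mul]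
  have hiter : ∀ (n : ℕ) (u : Kˣ), (fun u : Kˣ => u ^ p ^ d)^[n] u = u ^ p ^ (d * n) := by
    intro n
    induction n with
    | zero => intro u; simp
    | succ n ih =>
      intro u
      rw [Function.iterate_succ_apply', ih, ← pow_mul, ← pow_add, mul_add, mul_one]
  have hfr : ∀ (t : ZMod p), t ≠ 0 → ∀ (n : ℕ) (u : Kˣ), H t (u ^ p ^ n) = H t u := by
    intro t ht n
    induction n with
    | zero => intro u; simp
    | succ n ih => intro u; rw [pow_succ, pow_mul, hs.frob t _ ht, ih]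
  have hrt : (r : ZMod p) * t ≠ 0 := by
    refine mul_ne_zero (fun h0 => ?_) ht
    have h1 : p ∣ r := (ZMod.natCast_eq_zero_iff r p).1 h0
    have h2 : p ∣ p ^ d - 1 := h1.trans hrd
    have h3 : p ∣ p ^ d := dvd_pow_self p hd0.ne'
    have h4 : p ∣ p ^ d - (p ^ d - 1) := Nat.dvd_sub h3 h2
    have h5 : 1 ≤ p ^ d := Nat.one_le_pow _ _ hp.pos
    rw [Nat.sub_sub_self h5] at h4
    exact hp.one_lt.ne' (Nat.dvd_one.1 h4)
  let A : Kˣ → ℂ := fun u => ∏ w : Kˣ, if w ^ r = u then H t w else 1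
  let c : ℂ := ∏ i ∈ range r, H t (ω ^ i)
  let B : Kˣ → ℂ := fun u => c * H (r * t) u
  have hA : ∀ u, A (u ^ p ^ d) = A u := by
    intro u
    show (∏ w : Kˣ, if w ^ r = u ^ p ^ d then H t w else 1) = ∏ w : Kˣ, if w ^ r = u then H t w else 1
    rw [← Equiv.prod_comp (Equiv.ofBijective _ hbij)]
    refine prod_congr rfl fun w _ => ?_
    show (if (w ^ p ^ d) ^ r = u ^ p ^ d then H t (w ^ p ^ d) else 1) = _
    rw [hfr t ht, ← pow_mul, mul_comm, pow_mul]
    have : (w ^ r) ^ p ^ d = u ^ p ^ d ↔ w ^ r = u := ⟨fun h => hbij.1 h, fun h => by rw [h]⟩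
    simp only [this]
  have hB : ∀ u, B (u ^ p ^ d) = B u := by
    intro u
    show c * H (r * t) (u ^ p ^ d) = c * H (r * t) u
    rw [hfr _ hrt]
  have hfibre : ∀ w : Kˣ, A (w ^ r) = ∏ i ∈ range r, H t (w * ω ^ i) := by
    intro w
    show (∏ w' : Kˣ, if w' ^ r = w ^ r then H t w' else 1) = _
    rw [← prod_filter]
    symm
    refine prod_bij (fun i _ => w * ω ^ i) ?_ ?_ ?_ ?_
    · intro i _
      simp only [mem_filter, mem_univ, true_and]
      rw [mul_pow, ← pow_mul, mul_comm i r, pow_mul, ← hω, pow_orderOf_eq_one, one_pow, mul_one]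
    · intro i hi j hj hij
      have h1 : ω ^ i = ω ^ j := mul_left_cancel hij
      exact pow_injOn_Iio_orderOf (by simpa [hω] using hi) (by simpa [hω] using hj) h1
    · intro w' hw'
      simp only [mem_filter, mem_univ, true_and] at hw'
      have h1 : IsPrimitiveRoot ω r := hω ▸ IsPrimitiveRoot.orderOf ω
      have h2 : IsPrimitiveRoot (ω : K) r := IsPrimitiveRoot.coe_units_iff.2 h1
      have h3 : (w⁻¹ * w') ^ r = 1 := by rw [mul_pow, hw', inv_pow, inv_mul_cancel]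
      have h4 : ((w⁻¹ * w' : Kˣ) : K) ^ r = 1 := by
        rw [← Units.val_pow_eq_pow_val, h3, Units.val_one]
      have : NeZero r := ⟨hr.ne_zero⟩
      obtain ⟨i, hi, hi'⟩ := h2.eq_pow_of_pow_eq_one h4
      refine ⟨i, mem_range.2 hi, ?_⟩
      have h5 : ω ^ i = w⁻¹ * w' := Units.ext (by rw [Units.val_pow_eq_pow_val]; exact hi')
      rw [h5, mul_inv_cancel_left]
    · intro i _; rfl
  have main := prod_orbit (fun u : Kˣ => u ^ p ^ d) hbij.1 A B m d hA hB hm (by
    intro u hu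
    obtain ⟨w, rfl⟩ := hroot u hu
    set e := Function.minimalPeriod (fun u : Kˣ => u ^ p ^ d) (w ^ r) with he
    have h1 : (w ^ r) ^ p ^ (d * e) = w ^ r := by
      rw [← hiter]
      exact Function.isPeriodicPt_minimalPeriod _ _
    have h2 : d * e ∣ M := by
      obtain ⟨k, hk⟩ := hd
      have h3 : Function.IsPeriodicPt (fun u : Kˣ => u ^ p ^ d) k (w ^ r) := by
        show (fun u : Kˣ => u ^ p ^ d)^[k] (w ^ r) = w ^ r
        rw [hiter, ← hk, hall]
      rw [hk]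
      exact Nat.mul_dvd_mul_left d h3.minimalPeriod_dvd
    have h4 := hs.prod r d ω hr hd hrd hω t (d * e) w ht (dvd_mul_right d e) h2 h1
    show A (w ^ r) ^ (d * e) = (c * H (r * t) (w ^ r)) ^ (d * e)
    rw [hfibre, ← prod_pow, h4, mul_pow, prod_pow])
  have hL : ∏ w : Kˣ, H t w ^ (d * m (w ^ r)) = ∏ u, A u ^ (d * m u) := by
    have : ∀ u, A u ^ (d * m u) = ∏ w : Kˣ, if w ^ r = u then H t w ^ (d * m (w ^ r)) else 1 := by
      intro u
      show (∏ w : Kˣ, if w ^ r = u then H t w else 1) ^ (d * m u) = _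
      rw [← prod_pow]
      refine prod_congr rfl fun w _ => ?_
      split_ifs with h
      · rw [h]
      · rw [one_pow]
    rw [prod_congr rfl fun u _ => this u, prod_comm]
    refine prod_congr rfl fun w _ => ?_
    rw [prod_ite_eq]
    simp
  rw [hL, main]
  show ∏ u, (c * H (r * t) u) ^ (d * m u) = _
  simp only [mul_pow]
  rw [prod_mul_distrib, prod_pow_eq_pow_sum, prod_pow, ← pow_mul, mul_sum]

end H19.KgvOrb
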