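import Cfsg.Agent.H63.KgvSpec

/-! Orbit grouping for slot KGV-JVL. -/

set_option autoImplicit false

namespace H19.KgvOrb

open Finset

theorem prod_orbit {X : Type} [Fintype X] (s : X → X) (hs : Function.Injective s) (A B : X → ℂ)
    (m : X → ℕ) (d : ℕ) (hA : ∀ u, A (s u) = A u) (hB : ∀ u, B (s u) = B u)
    (hm : ∀ u, m (s u) = m u)
    (h : ∀ u, m u ≠ 0 →
      A u ^ (d * Function.minimalPeriod s u) = B u ^ (d * Function.minimalPeriod s u)) :
    ∏ u, A u ^ (d * m u) = ∏ u, B u ^ (d * m u) := by
  classical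
  have hper : ∀ u, u ∈ Function.periodicPts s := fun u => hs.mem_periodicPts u
  have it : ∀ {Y : Type} (F : X → Y), (∀ u, F (s u) = F u) → ∀ (n : ℕ) u, F (s^[n] u) = F u := by
    intro Y F hF n
    induction n with
    | zero => intro u; rfl
    | succ n ih => intro u; rw [Function.iterate_succ_apply', hF, ih]
  let orb : X → Finset X := fun u => (range (Function.minimalPeriod s u)).image fun n => s^[n] u
  have hcard : ∀ u, (orb u).card = Function.minimalPeriod s u := by
    intro u
    rw [card_image_of_injOn, card_range]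
    intro a ha b hb hab
    exact Function.iterate_injOn_Iio_minimalPeriod (by simpa using ha) (by simpa using hb) hab
  have hmem : ∀ u v, v ∈ orb u ↔ ∃ n, s^[n] u = v := by
    intro u v
    constructor
    · intro hv
      obtain ⟨n, -, hn⟩ := mem_image.1 hv
      exact ⟨n, hn⟩
    · rintro ⟨n, rfl⟩
      refine mem_image.2 ⟨n % Function.minimalPeriod s u, mem_range.2 (Nat.mod_lt _ ?_), ?_⟩
      · exact Function.minimalPeriod_pos_of_mem_periodicPts (hper u)
      · exact Function.iterate_mod_minimalPeriod_eq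
  have hsymm : ∀ u v, v ∈ orb u → u ∈ orb v := by
    intro u v hv
    obtain ⟨n, rfl⟩ := (hmem u v).1 hv
    have hpos := Function.minimalPeriod_pos_of_mem_periodicPts (hper u)
    refine (hmem _ _).2 ⟨Function.minimalPeriod s u * n - n, ?_⟩
    rw [← Function.iterate_add_apply, Nat.sub_add_cancel (Nat.le_mul_of_pos_left n hpos)]
    exact (Function.isPeriodicPt_minimalPeriod s u).mul_const n
  have hsub : ∀ u v, v ∈ orb u → orb v ⊆ orb u := by
    intro u v hv w hw
    obtain ⟨n, rfl⟩ := (hmem u v).1 hv
    obtain ⟨k, rfl⟩ := (hmem _ w).1 hw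
    exact (hmem _ _).2 ⟨k + n, Function.iterate_add_apply s k n u⟩
  have hself : ∀ u, u ∈ orb u := fun u => (hmem u u).2 ⟨0, rfl⟩
  have hfib : ∀ u, univ.filter (fun v => orb v = orb u) = orb u := by
    intro u
    ext v
    simp only [mem_filter, mem_univ, true_and]
    constructor
    · intro hv; rw [← hv]; exact hself v
    · intro hv
      exact Subset.antisymm (hsub u v hv) (hsub v u (hsymm u v hv))
  rw [← prod_fiberwise_of_maps_to (s := univ) (t := univ.image orb) (g := orb)
      (fun x hx => mem_image_of_mem orb hx),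
    ← prod_fiberwise_of_maps_to (s := univ) (t := univ.image orb) (g := orb)
      (fun x hx => mem_image_of_mem orb hx) (fun u => B u ^ (d * m u))]
  refine prod_congr rfl fun o ho => ?_
  obtain ⟨u, -, rfl⟩ := mem_image.1 ho
  rw [hfib]
  have key : ∀ F : X → ℂ, (∀ u, F (s u) = F u) →
      ∏ v ∈ orb u, F v ^ (d * m v) = (F u ^ (d * Function.minimalPeriod s u)) ^ m u := by
    intro F hF
    rw [prod_congr rfl (g := fun _ => F u ^ (d * m u)), prod_const, hcard, ← pow_mul, ← pow_mul]
    · congr 1; ring
    · intro v hv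
      obtain ⟨n, rfl⟩ := (hmem u v).1 hv
      rw [it F hF, it m hm]
  rw [key A hA, key B hB]
  by_cases h0 : m u = 0
  · simp [h0]
  · rw [h u h0]

end H19.KgvOrb
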