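/- L33-FB (row S3140): tables for the conjugates of `z` in `S₀`. -/
import Cfsg.Agent.H95.L3Kit

set_option autoImplicit false

namespace H19.L33FB

open Subgroup Cfsg H98 H1.Gold H85.FZ H85.En H85.L33 H95.L3

/-- `c` is the conjugate of `r` by a code in `hs`. -/
def Cj (hs : List ℕ) (r : ℕ) (c : Cd) : Prop := ∃ h ∈ hs, c = k h * k r * (k h)⁻¹

instance decCj (hs : List ℕ) (r : ℕ) (c : Cd) : Decidable (Cj hs r c) :=
  inferInstanceAs (Decidable (∃ h ∈ hs, _))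

def L5 : List Cd := [k 0, k 4, k 8, k 12, k 768]

def Bd (d : Cd) : Prop := d * d = k 1 ∨ d * d * (d * d) = k 1 ∨ (d * d = 1 ∧ 512 ≤ d.n)

instance decBd (d : Cd) : Decidable (Bd d) := inferInstanceAs (Decidable (_ ∨ _ ∨ _))

theorem tSq : ∀ c : Cd, (c * c).n < 256 := by decide +kernel

theorem tL5 : L5.Nodup ∧ ∀ a ∈ L5, ∀ b ∈ L5, a = b ∨ Bd (a⁻¹ * b) := by decide +kernel

theorem tA : ∀ c : Cd, c.n < 256 → c * c = 1 → c = 1 ∨ c = k 1 ∨ Cj [0, 8, 32, 40] 84 c ∨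
    ct (fun d => d * c = c * d) < (L5.filter fun d => d * c = c * d).length * 128 := by
  decide +kernel

theorem tW : ct (fun d => d * k 164 = k 164 * d) = 128 ∧ ∀ c : Cd, c * k 164 = k 164 * c →
    c * c ≠ k 164 ∧ c * c * (c * c) ≠ k 164 ∧ (c * c = 1 → c.n < 512) := by decide +kernel

theorem tB : ∀ u : Cd, u.n < 4 → ∀ c : Cd, c.n / 4 ∈ [21, 41, 61] → Cj [0, 8, 32, 40] 84 (u * c) ∨
    Cj [0, 8, 16, 24, 512, 520, 528, 536] 164 (u * c) := by decide +kernel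

def ph (m : List (ℕ × List ℕ)) (c : Cd) : Cd := k (cw LS (app m (wd 8 c.n)))

def St (m : List (ℕ × List ℕ)) (p : Cd → Bool) (c : Cd) : Bool := p c || p (ph m c)

theorem tS : ∀ (ε : Bool) (c : Cd), 4 ≤ c.n → c.n < 256 → c * c = 1 →
    St (m2 ε) (St (m2 ε) (St m1 (St m1 fun d => d.n / 4 ∈ [21, 41, 61]))) c = true := by
  decide +kernel

theorem tC : ∀ c : Cd, 256 ≤ c.n → c.n < 512 → c * c = 1 → Cj [0, 2, 16, 18, 32, 34, 48, 50] 256 c ∨
    Cj [0, 2, 16, 18, 32, 34, 48, 50] 262 c ∨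
    Cj [0, 2, 16, 18, 32, 34, 48, 50, 512, 514, 528, 530, 544, 546, 560, 562] 266 c := by
  decide +kernel

theorem tR : ∀ u : Cd, u.n < 4 → u ≠ 1 → u ≠ k 1 → ∀ c : Cd, (c * u = u * c → c.n < 256 ∨ 512 ≤ c.n) ∧
    (c.n < 4 → c = 1 ∨ c = k 1 ∨ c = u ∨ c = k 1 * u) := by
  decide +kernel

theorem tZ : ∀ c : Cd, c * k 1 = k 1 * c := by decide +kernel

end H19.L33FB
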