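/- L33-FB (row S3140): the conjugates of `z` in `S₀`. -/
import Cfsg.Agent.H19.L33FBt

set_option autoImplicit false
set_option linter.unusedSectionVars false

namespace H19.L33FB

open Subgroup Cfsg H98 H1.Gold H85.FZ H85.En H85.L33 H95.L3

universe u

variable {G : Type u} [Group G] {x : ℕ → G}

theorem pigeon [Finite G] {P R : Subgroup G} (h : P ≤ R) {n : ℕ} (r : Fin n → G) (hr : ∀ i, r i ∈ R)
    (hn : ∀ i j, (r i)⁻¹ * r j ∈ P → i = j) : n * Nat.card P ≤ Nat.card R := by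
  have := Nat.card_le_card_of_injective (fun p : Fin n × P => (⟨r p.1 * p.2, mul_mem (hr _) (h p.2.2)⟩ : R))
    (by
      rintro ⟨i, a⟩ ⟨j, b⟩ k
      have k : r i * a = r j * b := congrArg Subtype.val k
      obtain rfl := hn i j (by
        rw [show (r i)⁻¹ * r j = a * (b : G)⁻¹ by
          rw [inv_mul_eq_iff_eq_mul, ← mul_assoc, k, mul_inv_cancel_right]]
        exact mul_mem a.2 (inv_mem b.2))
      exact Prod.ext rfl (Subtype.ext (mul_left_cancel k)))
  rwa [Nat.card_prod, Nat.card_fin] at this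

theorem cjs (g a : G) : IsConj a (g * a * g⁻¹) := isConj_iff.2 ⟨g, rfl⟩

/-- `g` maps `C_S(w)` into `S` through `f` and `w` to `z`. -/
structure Sw (x : ℕ → G) (w : Cd) (g : G) (f : Cd → Cd) : Prop where
  fw : f w = k 1
  sp : ∀ c, c * w = w * c → e x (f c) = g * e x c * g⁻¹

/-- No element of the coset `U c` is conjugate to `z`. -/
def N4 (x : ℕ → G) (c : Cd) : Prop := ∀ u ∈ H x 2, ¬ IsConj (x 0) (u * e x c)

section

variable [Finite G] (M : Md TS LS x) {w c d : Cd} {g : G} {f : Cd → Cd}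
include M

theorem cm_iff : c * d = d * c ↔ e x c ∈ cen1 (e x d) := by
  rw [H1.Gold.mem_cen1, ← e_mul M, ← e_mul M, e_inj M]

theorem Cj.ex {hs : List ℕ} {r : ℕ} (h : Cj hs r c) :
    ∃ h ∈ hs, e x c = e x (k h) * e x (k r) * (e x (k h))⁻¹ := by
  obtain ⟨h, h1, rfl⟩ := h
  exact ⟨h, h1, by rw [e_mul M, e_mul M, e_inv M]⟩

theorem Cj.cj {hs : List ℕ} {r : ℕ} (h : Cj hs r c) : IsConj (e x (k r)) (e x c) := by
  obtain ⟨h, -, h2⟩ := h.ex M
  exact h2 ▸ cjs _ _

theorem sq_of (h : IsConj (x 0) (e x c)) : c * c = 1 ∧ c ≠ 1 := by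
  obtain ⟨g, h⟩ := isConj_iff.1 h
  rw [eL x 0 1] at h
  refine ⟨(e_eq_one M).1 ?_, fun k1 => ?_⟩
  · rw [e_mul M, ← h, conj_mul, ← e_mul M, (by decide +kernel : k 1 * k 1 = 1), e_one]
    simp
  · rw [k1, e_one, conj_eq_one_iff, e_eq_one M] at h
    exact absurd h (by decide +kernel)

theorem swap (hS : IsSyl 2 (H x 10) ⊤) (h : IsConj (x 0) (e x w)) : ∃ g f, Sw x w g f := by
  have h1 : H x 10 ≤ cen1 (x 0) := fun a ha => by
    obtain ⟨c, rfl⟩ := surj M ha
    rw [eL x 0 1]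
    exact (cm_iff M).1 (tZ c)
  obtain ⟨g, h2, h3⟩ := M.ex_cj (b := x 0) (by
    rw [show H x TS.n ⊓ cen1 (x 0) = H x 10 from inf_eq_left.2 h1]
    exact hS.of_le h1 le_top) h.symm
  have : ∀ c : Cd, ∃ d, c * w = w * c → e x d = g * e x c * g⁻¹ := fun c => by
    by_cases hc : c * w = w * c
    · obtain ⟨d, hd⟩ := surj M (h3 (x := g * e x c * g⁻¹) (mem_cj.2 (by
        simpa [mul_assoc] using (⟨e_mem c, (cm_iff M).1 hc⟩ : e x c ∈ H x TS.n ⊓ cen1 (e x w))))).1
      exact ⟨d, fun _ => hd.symm⟩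
    · exact ⟨c, fun h => absurd h hc⟩
  choose f hf using this
  exact ⟨g, f, (e_inj M).1 (by rw [hf w rfl, h2, eL x 0 1]), hf⟩

theorem cm_mul (hc : c * w = w * c) (hd : d * w = w * d) : c * d * w = w * (c * d) := by
  rw [cm_iff M] at hc hd ⊢
  rw [e_mul M]
  exact mul_mem hc hd

namespace Sw

variable (s : Sw x w g f)
include s

theorem mul (hc : c * w = w * c) (hd : d * w = w * d) : f (c * d) = f c * f d :=
  (e_inj M).1 (by rw [e_mul M, s.sp _ (cm_mul M hc hd), s.sp _ hc, s.sp _ hd, e_mul M, conj_mul])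

theorem inj (hc : c * w = w * c) (hd : d * w = w * d) (h : f c = f d) : c = d := by
  have := (s.sp _ hc).symm.trans ((congrArg (e x) h).trans (s.sp _ hd))
  exact (e_inj M).1 (by simpa using this)

theorem cj (hc : c * w = w * c) : IsConj (e x c) (e x (f c)) := s.sp _ hc ▸ cjs _ _

theorem cz (hc : c * w = w * c) : f c * f (k 1) = f (k 1) * f c := by
  rw [← s.mul M hc (tZ w).symm, ← s.mul M (tZ w).symm hc, tZ]

theorem zz : IsConj (x 0) (e x (f (k 1))) := eL x 0 1 ▸ s.cj M (tZ w).symm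

theorem lt {q : Cd} (h1 : q * w = w * q) (h2 : q * q = k 1) : (f (k 1)).n < 256 := by
  rw [← h2, s.mul M h1 h1]
  exact tSq _

theorem ne (hw : w ≠ k 1) : f (k 1) ≠ k 1 := fun h =>
  hw (s.inj M rfl (tZ w).symm (s.fw.trans h.symm))

end Sw

variable {X A : Subgroup G} (B : B0 x) (F : FA X A x)
include B F

theorem nu (h : Cj [0, 8, 32, 40] 84 c) : ¬ IsConj (x 0) (e x c) := fun k1 =>
  F.zu (eW x 84 _ ▸ k1.trans (h.cj M).symm)

theorem inD (h1 : c * c = 1) (h2 : 512 ≤ c.n) : IsConj (x 9) (e x c) :=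
  F.D _ (e_mem c) (fun h => by have := (memH M (j := 9) (by decide)).1 h; omega)
    (by rw [← e_mul M, h1, e_one])

/-- `g e a` is not conjugate to `z`. -/
theorem nw : ¬ IsConj (x 0) (e x (k 164)) := fun h => by
  obtain ⟨g, f, s⟩ := swap M B.syl h
  have h1 := s.lt M (q := k 4) (by decide +kernel) (by decide +kernel)
  have h2 := sq_of M (s.zz M)
  rcases tA _ h1 h2.1 with h3 | h3 | h3 | h3
  · exact h2.2 h3
  · exact s.ne M (by decide +kernel) h3
  · exact nu M B F h3 (s.zz M)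
  have c1 : Nat.card ↥(H x 10 ⊓ cen1 (e x (k 164))) = 128 :=
    (card_ct M inf_le_left fun c => ⟨fun h => (cm_iff M).2 h.2, fun h => ⟨e_mem c, (cm_iff M).1 h⟩⟩).trans
      tW.1
  have c2 : Nat.card ↥(H x 10 ⊓ cen1 (e x (f (k 1)))) = ct fun d => d * f (k 1) = f (k 1) * d :=
    card_ct M inf_le_left fun c => ⟨fun h => (cm_iff M).2 h.2, fun h => ⟨e_mem c, (cm_iff M).1 h⟩⟩
  have mP : ∀ a ∈ H98.cj g (H x 10 ⊓ cen1 (e x (k 164))), ∃ c, c * k 164 = k 164 * c ∧ a = e x (f c) :=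
    fun a ha => by
      have ha := mem_cj.1 ha
      obtain ⟨c, hc⟩ := surj M ha.1
      have k1 := (cm_iff M).2 (hc ▸ ha.2)
      exact ⟨c, k1, by rw [s.sp _ k1, ← hc]; simp [mul_assoc]⟩
  set l := L5.filter fun d => d * f (k 1) = f (k 1) * d with hl
  have := pigeon (P := H98.cj g (H x 10 ⊓ cen1 (e x (k 164)))) (R := H x 10 ⊓ cen1 (e x (f (k 1))))
    (fun a ha => by
      obtain ⟨c, k1, rfl⟩ := mP a ha
      exact ⟨e_mem _, (cm_iff M).1 (s.cz M k1)⟩) (fun i : Fin l.length => e x (l.get i))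
    (fun i => ⟨e_mem _, (cm_iff M).1 (of_decide_eq_true (List.mem_filter.1 (l.get_mem i)).2)⟩)
    fun i j k1 => List.nodup_iff_injective_get.1 (tL5.1.filter _) (by
      refine (tL5.2 _ (List.mem_filter.1 (l.get_mem i)).1 _ (List.mem_filter.1 (l.get_mem j)).1).resolve_right
        fun k2 => ?_
      obtain ⟨c, k3, k4⟩ := mP _ k1
      rw [← e_inv M, ← e_mul M, e_inj M] at k4
      rw [k4] at k2
      have k5 := tW.2 c k3
      have k6 := cm_mul M k3 k3
      rcases k2 with k2 | k2 | k2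
      · exact k5.1 (s.inj M k6 rfl (by rw [s.mul M k3 k3, k2, s.fw]))
      · exact k5.2.1 (s.inj M (cm_mul M k6 k6) rfl (by rw [s.mul M k6 k6, s.mul M k3 k3, k2, s.fw]))
      · have k7 : c * c = 1 := (e_eq_one M).1 (by
          have := s.sp _ k6
          rw [s.mul M k3 k3, k2.1, e_one] at this
          exact conj_eq_one_iff.1 this.symm)
        exact F.nD _ ((memH M (j := 9) (by decide)).2 (k5.2.2 k7))
          ((inD M B F k2.1 k2.2).trans (s.cj M k3).symm))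
  rw [card_cj, c1, c2] at this
  exact absurd h3 (not_lt.2 this)

theorem base (h : c.n / 4 ∈ [21, 41, 61]) : N4 x c := fun u hu k1 => by
  obtain ⟨u, rfl⟩ := surj M (H_mono (by decide) hu)
  rw [← e_mul M] at k1
  rcases tB u ((memH M (j := 2) (by decide)).1 hu) c h with k2 | k2
  · exact nu M B F k2 k1
  · exact nw M B F (k1.trans (k2.cj M).symm)

omit B F

theorem norU {a u : G} (ha : a ∈ H x 10) (hu : u ∈ H x 2) : a * u * a⁻¹ ∈ H x 2 := by
  obtain ⟨u, rfl⟩ := surj M (H_mono (by decide) hu)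
  obtain ⟨a, rfl⟩ := surj M ha
  rw [← e_inv M, ← e_mul M, ← e_mul M, memH M (by decide)]
  exact (by decide +kernel : ∀ u : Cd, u.n < 4 → ∀ a : Cd, (a * u * a⁻¹).n < 4) u
    ((memH M (j := 2) (by decide)).1 hu) a

/-- The action modulo `U` on words. -/
theorem acw {m : List (ℕ × List ℕ)} (hg : g ∈ cen (H x 2)) (hA : Ac x g m)
    (hm : ∀ r < 8, (app m [r]).all (· < 10) = true ∧ ((r < 2 ∧ app m [r] = [r]) ∨ (r, app m [r]) ∈ m))
    {v : List ℕ} (hv : v.all (· < 8) = true) :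
    (app m v).all (· < 10) = true ∧ g * W x v * g⁻¹ * (W x (app m v))⁻¹ ∈ H x 2 := by
  induction v with
  | nil => exact ⟨rfl, by simp [app]⟩
  | cons r v ih =>
    rw [List.all_cons, Bool.and_eq_true, decide_eq_true_eq] at hv
    obtain ⟨h1, h2⟩ := hm r hv.1
    obtain ⟨h3, h4⟩ := ih hv.2
    have h5 : app m (r :: v) = app m [r] ++ app m v := by simp [app]
    have h6 : g * x r * g⁻¹ * (W x (app m [r]))⁻¹ ∈ H x 2 := by
      rcases h2 with ⟨h2, h6⟩ | h2
      · rw [h6, ← mem_centralizer_iff.1 hg _ (x_mem h2)]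
        simp
      · exact hA _ h2
    rw [h5, List.all_append, h1, h3, W_append, W_cons]
    refine ⟨rfl, ?_⟩
    convert mul_mem h6 (norU M (W_mem h1) h4) using 1
    group

theorem mv {m : List (ℕ × List ℕ)} (hg : g ∈ cen (H x 2)) (hA : Ac x g m)
    (hm : ∀ r < 8, (app m [r]).all (· < 10) = true ∧ ((r < 2 ∧ app m [r] = [r]) ∨ (r, app m [r]) ∈ m))
    (hl : ∀ c : Cd, c.n < 256 → (ph m c).n < 256) {p : Cd → Bool}
    (hp : ∀ c : Cd, c.n < 256 → p c = true → N4 x c) :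
    ∀ c : Cd, c.n < 256 → St m p c = true → N4 x c := fun c hc h => by
  rcases Bool.or_eq_true_iff.1 h with h | h
  · exact hp c hc h
  obtain ⟨h1, h2⟩ := acw M hg hA hm (W_wd x 8 c.n).2
  have h3 := M.cw (w := app m (wd 8 c.n)) h1
  have h4 : e x (ph m c) = W x (app m (wd 8 c.n)) :=
    (congrArg (E x 10) (Nat.mod_eq_of_lt h3.1)).trans h3.2
  rw [(W_wd x 8 c.n).1, ← E_mono x (k := 8) (n := 10) hc (by decide), ← h4] at h2
  intro u hu k1
  refine hp _ (hl c hc) h _ (mul_mem hu h2) (k1.trans ?_)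
  convert cjs g (u * e x c) using 1
  rw [← mul_assoc g, ← mem_centralizer_iff.1 hg _ hu]
  simp [mul_assoc, e]

include B F

/-- The conjugates of `z` in `R₀` lie in `U`. -/
theorem inU (h1 : FX1 x) (h2 : FX2 x) (hc : c.n < 256) (h : IsConj (x 0) (e x c)) : c.n < 4 := by
  obtain ⟨g₁, a1, a2⟩ := h1
  obtain ⟨ε, g₂, b1, b2⟩ := h2.x2
  have s1 := fun p => mv M (p := p) a1 a2 (by decide +kernel) (by decide +kernel)
  have s2 := fun p => mv M (p := p) b1 b2 (by cases ε <;> decide +kernel) (by cases ε <;> decide +kernel)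
  by_contra k1
  exact s2 _ (s2 _ (s1 _ (s1 _ fun c _ h => base M B F (of_decide_eq_true h)))) c hc
    (tS ε c (not_lt.1 k1) hc (sq_of M h).1) 1 (one_mem _) (by rwa [one_mul])

theorem nv (h1 : FX1 x) (h2 : FX2 x) {q : Cd} (q1 : q * w = w * q) (q2 : q * q = k 1)
    (hw : k 338 * w = w * k 338 ∧ w ≠ k 1 ∧ k 338 ≠ w ∧ k 338 ≠ w * k 1) :
    ¬ IsConj (x 0) (e x w) := fun h => by
  obtain ⟨g, f, s⟩ := swap M B.syl h
  have k1 := inU M B F h1 h2 (s.lt M q1 q2) (s.zz M)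
  obtain ⟨k2, k3⟩ := tR _ k1 (sq_of M (s.zz M)).2 (s.ne M hw.2.1) (f (k 338))
  have k4 : IsConj (x 0) (e x (f (k 338))) := by
    obtain ⟨a, -, ha⟩ := F.vy
    refine ((B.zy.trans (isConj_iff.2 ⟨a, ha⟩).symm).trans ?_).trans (s.cj M hw.1)
    rw [eL x 8 256]
    exact Cj.cj M (hs := [16]) (by decide +kernel)
  have k5 := sq_of M k4
  rcases k2 (s.cz M hw.1) with k6 | k6
  · rcases k3 (inU M B F h1 h2 k6 k4) with k7 | k7 | k7 | k7
    · exact k5.2 k7
    · exact hw.2.2.1 (s.inj M hw.1 rfl (k7.trans s.fw.symm))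
    · exact absurd (s.inj M hw.1 (tZ w).symm k7) (by decide +kernel)
    · exact hw.2.2.2 (s.inj M hw.1 (cm_mul M rfl (tZ w).symm) (by rw [k7, s.mul M rfl (tZ w).symm, s.fw]))
  · exact F.nD _ (x_mem (by decide)) ((inD M B F k5.1 k6).trans k4.symm)

end

theorem jobFB : JobFB.{u} := fun G _ _ X A x h F h1 h2 w hw hc => by
  have B := h.toB0
  have M := md0 B
  obtain ⟨c, rfl⟩ := surj M (H_mono (by decide) hw)
  by_cases k1 : c.n < 256
  · exact Or.inl ((memH M (j := 2) (by decide)).2 (inU M B F h1 h2 k1 hc))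
  rcases tC c (not_lt.1 k1) ((memH M (j := 9) (by decide)).1 hw) (sq_of M hc).1 with k2 | k2 | k2
  · obtain ⟨r, r1, r2⟩ := k2.ex M
    refine Or.inr ⟨e x (k r), (memH M (j := 8) (by decide)).2 ?_, by rw [r2, eL x 8 256]⟩
    exact (by decide +kernel : ∀ r ∈ [0, 2, 16, 18, 32, 34, 48, 50], (k r).n < 2 ^ 8) r r1
  · exact absurd (hc.trans (k2.cj M).symm)
      (nv M B F h1 h2 (q := k 4) (by decide +kernel) (by decide +kernel) (by decide +kernel))
  · exact absurd (hc.trans (k2.cj M).symm)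
      (nv M B F h1 h2 (q := k 8) (by decide +kernel) (by decide +kernel) (by decide +kernel))

end H19.L33FB
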