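import Cfsg.Agent.H85.L3Spec
import Cfsg.Agent.H33.JSZ0

/-! Tower L33: the core of the centraliser of `z` in `X` is trivial. -/

set_option autoImplicit false
set_option linter.unusedSectionVars false

namespace H19.L33O

open Subgroup Cfsg H14 H98 H1.Gold H31.S2 H85.FZ H85.S3 H85.L33

universe u

variable {G : Type u} [Group G] [Finite G] {X A Y P : Subgroup G} {t z d r : G} {x : ℕ → G}

theorem key0 (k : KA A) (st : St X t A) (zA : z ∈ A) (oz : orderOf z = 2) (hY : Odd (Nat.card Y))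
    (Yz : Y ≤ cen1 z) (hP : IsPGroup 2 P) (P1 : P ≤ cen1 t ⊓ cen1 z ⊓ nor Y) (h32 : 32 ≤ Nat.card P)
    (rA : r ∈ A) (rY : r ∈ nor Y) : Y ⊓ cen1 t ≤ cen1 r := by
  have PA : P ≤ nor A := fun p hp => st.cN (P1 hp).1.1
  have h2 : Nat.card ↥(P ⊓ cen A) ≤ 2 := by
    obtain ⟨n, hn⟩ := (hP.to_le (inf_le_left (b := cen A))).exists_card_eq
    have : n ≤ 1 := by
      by_contra h
      exact st.k2 ((pow_dvd_pow 2 (by omega : 2 ≤ n)).trans (hn ▸ card_dvd_of_le inf_le_right))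
    exact hn.trans_le (Nat.pow_le_pow_right two_pos this)
  have h0 := k.o16 z zA oz (A ⊓ Y) (inf_le_inf_left _ Yz)
    (hY.of_dvd_nat (card_dvd_of_le inf_le_right)) P
    (le_inf (le_inf PA fun p hp => (P1 hp).1.2) (le_normalizer_inf PA fun p hp => (P1 hp).2)) hP
    (by omega)
  intro o ho
  have oY : o ∈ Y := ho.1
  have : o * r * o⁻¹ * r⁻¹ ∈ A ⊓ Y :=
    mem_inf.2 ⟨mul_mem (conj_mem_of_mem_normalizer (st.cN ho.2) rA) (inv_mem rA), by
      simpa only [mul_assoc] using mul_mem oY (conj_mem_of_mem_normalizer rY (inv_mem oY))⟩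
  rw [h0, mem_bot, mul_inv_eq_one, mul_inv_eq_iff_eq_mul] at this
  exact mem_cen1.2 this

theorem cj_c (g a : G) : cj g (cen1 a) = cen1 (g * a * g⁻¹) := by
  ext y
  rw [mem_cj, mem_cen1, mem_cen1]
  constructor <;> intro h
  · calc _ = g * (g⁻¹ * y * g * a) * g⁻¹ := by group
      _ = _ := by rw [h]; group
  · calc _ = g⁻¹ * (y * (g * a * g⁻¹)) * g := by group
      _ = _ := by rw [h]; group

theorem key1 (k : KA A) (f : F6 X A x) (zA : x 0 ∈ A) (oz : orderOf (x 0) = 2)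
    (hY : Odd (Nat.card Y)) (Yz : Y ≤ cen1 (x 0)) (hP : IsPGroup 2 P) (hd : IsConj (x 9) d)
    (dz : d ∈ cen1 (x 0)) (P1 : P ≤ cen1 d ⊓ cen1 (x 0) ⊓ nor Y) (h32 : 32 ≤ Nat.card P)
    (rz : IsConj (x 0) r) (rd : r ∈ cen1 d) (rY : r ∈ nor Y) : Y ⊓ cen1 d ≤ cen1 r := by
  obtain ⟨g, gz, rfl⟩ := f.pair d dz hd
  have e0 : cj g⁻¹ (cen1 (x 0)) = cen1 (x 0) := cj_eq_self_of_mem (inv_mem gz)
  have e9 : cj g⁻¹ (cen1 (g * x 9 * g⁻¹)) = cen1 (x 9) := by rw [← cj_c, cj_inv_cj]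
  have := key0 (Y := cj g⁻¹ Y) (P := cj g⁻¹ P) (r := g⁻¹ * r * g⁻¹⁻¹) k f.st zA oz
    (by rwa [card_cj]) (e0 ▸ cj_mono _ Yz) (isPGroup_cj _ hP)
    (by simpa only [cj_inf, e0, e9, cj_normalizer] using cj_mono g⁻¹ P1) (by rwa [card_cj])
    (f.zA _ (e9 ▸ conj_mem_cj rd) (rz.trans (isConj_iff.2 ⟨g⁻¹, rfl⟩)))
    (by rw [nor, ← cj_normalizer]; exact conj_mem_cj rY)
  rwa [← e9, ← cj_inf, ← cj_c g⁻¹ r, cj_le_cj_iff] at this

theorem card_ge (I : Ind x 10) {L : List (List ℕ)} (nd : L.Nodup) (h1 : ∀ w ∈ L, w ∈ subs 10)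
    (h : ∀ w ∈ L, W x w ∈ P) : L.length ≤ Nat.card P := by
  have := Nat.card_le_card_of_injective
    (fun i : Fin L.length => (⟨W x L[i], h _ (List.getElem_mem _)⟩ : P)) fun i j e =>
      List.nodup_iff_injective_getElem.1 nd (I.eq (nf_of_mem_subs (h1 _ (List.getElem_mem _)))
        (nf_of_mem_subs (h1 _ (List.getElem_mem _))) (congrArg Subtype.val e))
  simpa using this

/-- The words commuting with `d` and `z`, and normalising `⟨z, v⟩` unless `b`. -/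
def Ld (d : List ℕ) (b : Bool) : List (List ℕ) := (subs 10).filter fun w =>
  TS.same (w ++ d) (d ++ w) && TS.same (w ++ [0]) (0 :: w) &&
    (b || TS.same (w ++ [8]) (8 :: w) || TS.same (w ++ [8]) (8 :: 0 :: w))

theorem nor_V {g z v : G} (h1 : g * z * g⁻¹ ∈ cl [z, v]) (h2 : g * v * g⁻¹ ∈ cl [z, v]) :
    g ∈ nor (cl [z, v]) := mem_normalizer_of_cj_le (cj_le_iff.2 (cl_le.2 fun y hy => by
  rw [mem_cj, inv_inv]
  simp only [List.mem_cons, List.not_mem_nil, or_false] at hy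
  rcases hy with rfl | rfl
  exacts [h1, h2]))

theorem card_P (f : B0 x) {w : List ℕ} {b : Bool} {N : Subgroup G}
    (h : 32 ≤ (Ld w b).length ∧ (Ld w b).Nodup) (h1 : b = true → cen1 (x 0) ≤ N)
    (h2 : b = false → nor (cl [x 0, x 8]) ≤ N) :
    32 ≤ Nat.card ↥(H x 10 ⊓ (cen1 (W x w) ⊓ cen1 (x 0) ⊓ N)) := by
  refine h.1.trans (card_ge f.ind h.2 (fun c hc => (List.mem_filter.1 hc).1) fun c hc => ?_)
  obtain ⟨c1, c2⟩ := List.mem_filter.1 hc
  simp only [Bool.and_eq_true, Bool.or_eq_true] at c2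
  have e0 : W x c * x 0 = x 0 * W x c := by simpa using f.pres.W_eq c2.1.2
  have m0 : x 0 ∈ cl [x 0, x 8] := mem_cl (by simp)
  have m8 : x 8 ∈ cl [x 0, x 8] := mem_cl (by simp)
  refine ⟨W_mem_of fun i hi => x_mem (nf_lt (nf_of_mem_subs c1) i hi),
    ⟨mem_cen1.2 (by simpa using f.pres.W_eq c2.1.1), mem_cen1.2 e0⟩, ?_⟩
  cases b
  · refine h2 rfl (nor_V (by rwa [e0, mul_inv_cancel_right]) ?_)
    rcases c2.2 with (c3 | c3) | c3
    · exact absurd c3 (by decide)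
    · have : W x c * x 8 = x 8 * W x c := by simpa using f.pres.W_eq c3
      rwa [this, mul_inv_cancel_right]
    · have : W x c * x 8 = x 8 * x 0 * W x c := by simpa [mul_assoc] using f.pres.W_eq c3
      rw [this, mul_inv_cancel_right]
      exact mul_mem m8 m0
  · exact h1 rfl (mem_cen1.2 e0)

theorem jobO : JobO.{u} := by
  intro K G _ _ X A x f ho W0 h1 h2 h3
  have k := K G A f.st.ty
  have := f.st.as.normal
  have sd := f.sd
  have SA : cl [x 8, W x [8, 6, 4, 1], W x [7, 5, 4, 1]] ≤ A := f.SA ▸ inf_le_right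
  have zA : x 0 ∈ A := sd.jj ▸ mul_mem (SA (mem_cl (by simp))) (SA (mem_cl (by simp)))
  have oz : orderOf (x 0) = 2 := orderOf_eq_prime (by rw [pow_two, sd.zz]) sd.z1
  obtain ⟨σ, σA, σ1, σ2⟩ := k.tri _ _ _ _ sd SA
  have zv : IsConj (x 0) (x 8) := isConj_iff.2 ⟨σ, σ1⟩
  have zs : IsConj (x 0) (W x [8, 6, 4, 1]) := zv.trans (isConj_iff.2 ⟨_, sd.jv⟩)
  have hS : ∀ N : Subgroup G, IsPGroup 2 ↥(H x 10 ⊓ N) := fun N => f.syl.isPGroup.to_le inf_le_left
  have odd : ∀ Y : Subgroup G, Odd (Nat.card (opp 2 Y)) := fun Y =>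
    Nat.coprime_two_right.1 (coprime_card_opp Y)
  have cm : ∀ w w' : List ℕ, TS.same (w ++ w') (w' ++ w) = true → W x w ∈ cen1 (W x w') :=
    fun w w' h => mem_cen1.2 (by simpa using f.pres.W_eq h)
  have hD : ∀ w : List ℕ, w.all (· < 9) = true → TS.same (9 :: w ++ 9 :: w) [] = true →
      IsConj (x 9) (W x (9 :: w)) := fun w h h' =>
    f.D _ (by rw [W_cons]; exact mul_mem (x_mem (by omega)) (H_mono (by omega) (W_mem h)))
      (fun e => f.ind 9 (by omega) (by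
        rw [W_cons] at e; exact (mul_mem_cancel_right (W_mem h)).1 e))
      (by rw [← W_append]; exact f.pres.W_eq h')
  have w1 : ∀ i, W x [i] = x i := fun i => by simp
  -- the four-group `⟨t, r⟩` acting on `Y`
  have step : ∀ (Y : Subgroup G) (w : List ℕ) (b : Bool), Odd (Nat.card Y) → Y ≤ cen1 (x 0) →
      (b = true → cen1 (x 0) ≤ nor Y) → (b = false → nor (cl [x 0, x 8]) ≤ nor Y) →
      x 9 ∈ nor Y → W x w ∈ nor Y → IsConj (x 0) (W x w) →
      (w.all (· < 9) = true ∧ TS.same (9 :: w ++ 9 :: w) [] = true ∧ TS.same (w ++ w) [] = true ∧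
        TS.same (w ++ [9]) ([9] ++ w) = true ∧ TS.same (w ++ 9 :: w) (9 :: w ++ w) = true ∧
        TS.same (9 :: w ++ [0]) ([0] ++ 9 :: w) = true ∧
        (32 ≤ (Ld [9] b).length ∧ (Ld [9] b).Nodup) ∧
        (32 ≤ (Ld (9 :: w) b).length ∧ (Ld (9 :: w) b).Nodup)) → Y ≤ cen1 (W x w) := by
    rintro Y w b hY Yz n1 n2 tY rY rz ⟨d1, d2, d3, d4, d5, d6, d7, d8⟩
    have tr := cm w [9] d4
    rw [w1] at tr
    refine H33.JS.four_gen hY tY rY ?_ ?_ ?_ ?_ inf_le_right ?_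
    · rw [← pow_two, ← f.st.o, pow_orderOf_eq_one]; exact one_mem _
    · rw [← W_append, f.pres.W_eq d3]; exact one_mem _
    · rw [commutatorElement_eq_one_iff_mul_comm.2 (mem_cen1.1 tr).symm]; exact one_mem _
    · have := card_P f.toB0 d7 n1 n2
      rw [w1] at this
      exact key1 k f zA oz hY Yz (hS _) (IsConj.refl _) (by
        simpa using cm [9] [0] (by decide +kernel)) inf_le_right this rz tr rY
    · rw [← W_cons]
      exact key1 k f zA oz hY Yz (hS _) (hD w d1 d2) (by simpa using cm (9 :: w) [0] d6)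
        inf_le_right (card_P f.toB0 d8 n1 n2) rz (cm w (9 :: w) d5) rY
  have nO : ∀ a : G, cen1 a ≤ nor (opp 2 (X ⊓ cen1 a)) := fun a =>
    (le_normalizer_inf le_normalizer_of_normal le_normalizer).trans (normalizer_le_normalizer_opp _)
  have nW : nor (cl [x 0, x 8]) ≤ nor (opp 2 (X ⊓ cen (cl [x 0, x 8]))) :=
    (le_normalizer_inf le_normalizer_of_normal (normalizer_le_normalizer_centralizer _)).trans
      (normalizer_le_normalizer_opp _)
  have tz : x 9 ∈ cen1 (x 0) := by simpa using cm [9] [0] (by decide +kernel)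
  have tv : x 9 ∈ cen1 (x 8) := by simpa using cm [9] [8] (by decide +kernel)
  have m0 : x 0 ∈ cl [x 0, x 8] := mem_cl (by simp)
  have m8 : x 8 ∈ cl [x 0, x 8] := mem_cl (by simp)
  have s1 := step (opp 2 (X ⊓ cen1 (x 0))) [8] true (odd _) ((opp_le _).trans inf_le_right)
    (fun _ => nO _) (fun h => absurd h (by decide)) (nO _ tz)
    (nO _ (by simpa using cm [8] [0] (by decide +kernel))) (by rwa [w1]) (by decide +kernel)
  rw [w1] at s1
  have cV : ∀ g, g ∈ cen (cl [x 0, x 8]) ↔ g ∈ cen1 (x 0) ∧ g ∈ cen1 (x 8) := fun g => by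
    rw [← le_cen1_iff, cl_le]
    simp [mem_cen1, eq_comm]
  have OW : opp 2 (X ⊓ cen1 (x 0)) ≤ opp 2 (X ⊓ cen (cl [x 0, x 8])) :=
    le_opp (fun o ho => ⟨(opp_le _ ho).1, (cV o).2 ⟨(opp_le _ ho).2, s1 ho⟩⟩)
      (fun g hg => nO _ ((cV g).1 hg.2).1) (coprime_card_opp _)
  have sv : W x [8, 6, 4, 1] * x 8 * (W x [8, 6, 4, 1])⁻¹ = x 8 * x 0 := by
    rw [mul_inv_eq_iff_eq_mul]
    simpa [mul_assoc] using f.pres.W_eq (w := [8, 6, 4, 1, 8]) (w' := [8, 0, 8, 6, 4, 1])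
      (by decide +kernel)
  have sz : W x [8, 6, 4, 1] * x 0 * (W x [8, 6, 4, 1])⁻¹ = x 0 := by
    rw [sd.sz, mul_inv_cancel_right]
  have s2 := step (opp 2 (X ⊓ cen (cl [x 0, x 8]))) [8, 6, 4, 1] false (odd _)
    (fun o ho => ((cV o).1 (opp_le _ ho).2).1) (fun h => absurd h (by decide)) (fun _ => nW)
    (nW (centralizer_le_normalizer _ ((cV _).2 ⟨tz, tv⟩)))
    (nW (nor_V (by rwa [sz]) (sv ▸ mul_mem m8 m0))) zs (by decide +kernel)
  generalize W x [8, 6, 4, 1] = s at *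
  have σV := nW (nor_V (g := σ) (σ1 ▸ m8) (σ2 ▸ mul_mem m8 m0))
  have c1 := le_cen1_iff.1 s2
  have c2 := conj_mem_of_mem_normalizer (normalizer_le_normalizer_centralizer _ σV) c1
  have pz : s * (σ * s * σ⁻¹) * x 0 * (s * (σ * s * σ⁻¹))⁻¹ = x 8 := by
    have e1 : σ * (x 8 * x 0) * σ⁻¹ = x 0 := by
      calc _ = σ * x 8 * σ⁻¹ * (σ * x 0 * σ⁻¹) := by group
        _ = _ := by rw [σ1, σ2, mul_assoc, ← sd.vz, ← mul_assoc, sd.vv, one_mul]
    have e2 : s * (x 8 * x 0) * s⁻¹ = x 8 := by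
      calc _ = s * x 8 * s⁻¹ * (s * x 0 * s⁻¹) := by group
        _ = _ := by rw [sv, sz, mul_assoc, sd.zz, mul_one]
    calc _ = s * (σ * (s * (σ⁻¹ * x 0 * σ) * s⁻¹) * σ⁻¹) * s⁻¹ := by group
      _ = _ := by
        rw [show σ⁻¹ * x 0 * σ = x 8 * x 0 by
          rw [mul_assoc, inv_mul_eq_iff_eq_mul, ← eq_mul_inv_iff_mul_eq, e1], e2, σ2, e2]
  have eO : opp 2 (X ⊓ cen1 (x 8)) = opp 2 (X ⊓ cen1 (x 0)) := by
    rw [← cj_eq_self (centralizer_le_normalizer _ (centralizer_anti OW (mul_mem c1 c2))), cj_opp,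
      cj_inf, cj_c, pz, cj_eq_self_of_normal]
  have hX := ho (X ⊓ nor (opp 2 (X ⊓ cen1 (x 0)))) inf_le_left (inf_le_inf_left _ (nO _))
    (le_inf f.st.AX ((k.gen _ _ _ _ sd SA).trans (sup_le (inf_le_right.trans (nO _))
      (inf_le_right.trans (eO ▸ nO _)))))
  have OX : opp 2 (X ⊓ cen1 (x 0)) ≤ X := (opp_le _).trans inf_le_left
  refine eq_bot_iff.2 ((le_opp h1 h3 (Nat.coprime_two_right.2 h2)).trans ?_)
  have := f.st.as.simple
  rcases ((normal_subgroupOf_iff_le_normalizer OX).2 (inf_eq_left.1 hX)).eq_bot_or_eq_top with e | e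
  · exact (subgroupOf_eq_bot.1 e).le_bot.trans' (le_inf le_rfl OX)
  · have := (odd _).of_dvd_nat (oz ▸ orderOf_dvd_natCard _ (subgroupOf_eq_top.1 e (f.st.AX zA)))
    exact absurd this (by decide)

end H19.L33O
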