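import Cfsg.Agent.H19.L3Sub
import Cfsg.Agent.H19.AschOAux
import Cfsg.Agent.H55.Spin
import Cfsg.Agent.H58.QNormal
import Cfsg.Agent.H60.Bridge
import Cfsg.Agent.H61.PSLMax2
import Cfsg.Agent.H93.S2BA2
import Cfsg.Agent.S0253

/-! Subgroups of `SO₃(q) ≅ PGL₂(q)`. -/

set_option autoImplicit false

namespace H19

open Cfsg Cfsg.Geo Matrix
open scoped MatrixGroups commutatorElement H61

variable {F : Type*} [Field F]

/-- Trace zero matrices. -/
def tz : (Unit ⊕ (Fin 1 ⊕ Fin 1) → F) →ₗ[F] Matrix (Fin 2) (Fin 2) F where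
  toFun v := !![v (.inl ()), v (.inr (.inl 0)); v (.inr (.inr 0)), -v (.inl ())]
  map_add' u v := by ext i j; fin_cases i <;> fin_cases j <;> simp [add_comm]
  map_smul' c v := by ext i j; fin_cases i <;> fin_cases j <;> simp

theorem tz_injective : Function.Injective (tz (F := F)) := fun u v h => by
  funext i
  rcases i with _ | i | i
  · exact congrFun (congrFun h 0) 0
  · rw [Subsingleton.elim i 0]; exact congrFun (congrFun h 0) 1
  · rw [Subsingleton.elim i 0]; exact congrFun (congrFun h 1) 0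

theorem tz_mul_self (v : Unit ⊕ (Fin 1 ⊕ Fin 1) → F) :
    tz v * tz v = H58.qOdd 1 F v • (1 : Matrix (Fin 2) (Fin 2) F) := by
  rw [H58.qOdd_apply]
  ext i j
  fin_cases i <;> fin_cases j <;> simp [tz, Matrix.mul_apply, Fin.sum_univ_two] <;> ring

theorem exists_tz {M : Matrix (Fin 2) (Fin 2) F} (h : M.trace = 0) : ∃ v, tz v = M := by
  refine ⟨Sum.elim (fun _ => M 0 0) (Sum.elim (fun _ => M 0 1) fun _ => M 1 0), ?_⟩
  rw [trace_fin_two] at h
  ext i j
  fin_cases i <;> fin_cases j <;> simp [tz]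
  linear_combination -h

theorem trace_tz (v : Unit ⊕ (Fin 1 ⊕ Fin 1) → F) : (tz v).trace = 0 := by
  simp [tz, trace_fin_two]

/-- `O₃ ≤ PGL₂ × scalars`. -/
theorem exists_pgl_hom [Finite F] (h2 : (2 : F) ≠ 0) {q : (Fin 3 → F) → F}
    (hq : IsNondegenerateQuadraticForm q) : ∃ ψ : GL (Fin 2) F →* GL (Fin 3) F,
      (∀ g, ProjGenLinGroup.mk g = 1 ↔ ψ g ∈ scalars (Fin 3) F) ∧
      isometryGroup F q ≤ ψ.range ⊔ scalars (Fin 3) F := by
  obtain ⟨Q, rfl, hQ⟩ := H60.exists_quadraticForm hq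
  obtain ⟨c, hc, g, hg⟩ := H58.similar_qOdd hQ (m := 1) (by simp)
  let α := tz ∘ₗ g.symm.toLinearMap
  have hα : ∀ v, α v * α v = (c⁻¹ * Q v) • (1 : Matrix (Fin 2) (Fin 2) F) := fun v => by
    obtain ⟨v, rfl⟩ := g.surjective v
    rw [hg, inv_mul_cancel_left₀ hc, ← tz_mul_self]
    simp [α]
  have hs : ∀ M : Matrix (Fin 2) (Fin 2) F, M.trace = 0 → ∃ v, α v = M := fun M hM => by
    obtain ⟨v, rfl⟩ := exists_tz hM
    exact ⟨g v, by simp [α]⟩
  let D : H55.SpinData Q (Matrix (Fin 2) (Fin 2) F) (GL (Fin 2) F) :=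
    { α := α
      β := c • α
      α_inj := tz_injective.comp g.symm.injective
      αβ := fun v => by
        rw [LinearMap.smul_apply, mul_smul_comm, hα, smul_smul, mul_inv_cancel_left₀ hc,
          Algebra.algebraMap_eq_smul_one]
      βα := fun v => by
        rw [LinearMap.smul_apply, smul_mul_assoc, hα, smul_smul, mul_inv_cancel_left₀ hc,
          Algebra.algebraMap_eq_smul_one]
      g := MonoidHom.id _
      h := MonoidHom.id _
      pres := fun s x => by
        obtain ⟨y, hy⟩ := hs (cj s (α x)) ((trace_cj _ _).trans (trace_tz _))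
        refine ⟨y, hy, ?_⟩
        rw [LinearMap.smul_apply, LinearMap.smul_apply, hy, mul_smul_comm, smul_mul_assoc]
        rfl }
  have hD : ∀ s x, α (D.hom s x) = cj s (α x) := D.α_hom
  have hsc : ∀ (x : H56.O Q) (d : F), (∀ v, x v = d • v) → H60.toGL Q x ∈ scalars (Fin 3) F :=
    fun x d h => mem_scalars_of_eq_smul (c := d) (matrix_ext_mulVec fun v => by
      rw [H60.toGL_mulVec, h, smul_mulVec, one_mulVec])
  refine ⟨(H60.toGL Q).comp D.hom, fun s => ?_, fun x hx => ?_⟩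
  · rw [ProjGenLinGroup.mk_eq_one, GeneralLinearGroup.center_eq_range_scalar]
    refine ⟨fun h => hsc _ 1 fun v => D.α_inj ?_, fun h => ?_⟩
    · exact (hD s v).trans ((cj_of_mem_scalars h _).trans (by rw [one_smul]))
    · obtain ⟨d, hd⟩ := exists_scal h
      have h1 : ∀ M : Matrix (Fin 2) (Fin 2) F, M.trace = 0 → cj s M = (d : F) • M := fun M hM => by
        obtain ⟨v, rfl⟩ := hs M hM
        rw [← hD, ← map_smul, ← H60.toGL_mulVec]
        congr 1
        exact (congrArg (fun x : GL (Fin 3) F => x.1 *ᵥ v) hd).trans (by simp [smul_mulVec])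
      have h3 : (d : F) = 1 := by
        have e : (!![1, 0; 0, -1] : Matrix (Fin 2) (Fin 2) F) =
            !![0, 1; 0, 0] * !![0, 0; 1, 0] - !![0, 0; 1, 0] * !![0, 1; 0, 0] := by
          ext i j; fin_cases i <;> fin_cases j <;> simp
        have e' := h1 !![1, 0; 0, -1] (by simp [trace_fin_two])
        rw [e, map_sub, map_mul, map_mul, h1 _ (by simp [trace_fin_two]),
          h1 _ (by simp [trace_fin_two])] at e'
        simpa using congrFun (congrFun e' 0) 0
      obtain ⟨a, ha⟩ := exists_smul_of_commute (a := s.1) fun b => by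
        have e := h1 (b - (b.trace / 2) • 1) (by simp [div_mul_cancel₀ _ h2])
        rw [h3, one_smul, map_sub, map_smul, map_one, sub_left_inj] at e
        exact (cj_eq_iff _ _ _).1 e
      exact mem_scalars_of_eq_smul ha
  · obtain ⟨x, rfl⟩ : ∃ y, H60.toGL Q y = x := ⟨H56.toO Q rfl ⟨x, hx⟩, by simp [H60.toGL]⟩
    clear hx
    induction x using H56.O.refl_induction hQ (H56.not_isExc_of_two_ne h2) with
    | h1 => rw [map_one]; exact one_mem _
    | hmul a ha x ih =>
      rw [map_mul]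
      refine mul_mem ?_ ih
      have e : ∀ {x y : Matrix (Fin 2) (Fin 2) F}, x * y = algebraMap F _ (Q a) →
          (Q a)⁻¹ • (x * y) = 1 := fun h => by
        rw [h, Algebra.algebraMap_eq_smul_one, smul_smul, inv_mul_cancel₀ ha, one_smul]
      let A : GL (Fin 2) F := ⟨D.α a, (Q a)⁻¹ • D.β a, by rw [mul_smul_comm, e (D.αβ a)],
        by rw [smul_mul_assoc, e (D.βα a)]⟩
      have h1 : ∀ v, H56.refl Q a v = D.hom A (-v) := fun v => D.α_inj (by
        rw [D.α_refl ha, D.α_hom]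
        change _ = α a * α (-v) * ((Q a)⁻¹ • c • α a)
        change _ • (α a * c • α v * α a) = _
        simp only [map_neg, mul_smul_comm, smul_mul_assoc, mul_neg, neg_mul, neg_smul, smul_neg])
      refine mem_sup_scalars.2 ⟨_, ⟨A, rfl⟩, H60.toGL Q ((D.hom A)⁻¹ * H56.refl Q a),
        hsc _ (-1) fun v => ?_, by simp⟩
      change (D.hom A)⁻¹ (H56.refl Q a v) = _
      rw [h1, neg_one_smul]
      exact DFunLike.congr_fun (inv_mul_cancel (D.hom A)) (-v)

theorem le_isometry_sup [Finite F] (h2 : (2 : F) ≠ 0) {X P : Subgroup (GL (Fin 3) F)}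
    (hX : X ≤ specialLinear (Fin 3) F) (hn : Nrm X P) (hs : gspan P = ⊤) {q : (Fin 3 → F) → F}
    (hq : IsNondegenerateQuadraticForm q) (hP : FixesQuadForm (matrixSet P) q) :
    X ≤ isometryGroup F q ⊔ scalars (Fin 3) F := fun x hx => by
  let B := oFrm hq
  obtain ⟨c, hc, h⟩ := B.exists_adj_of_sim (B.le_sim_of_nrm hs (fun g hg =>
    isometryGroup_le_Iso hq (mem_isometryGroup.2 (hP _ ⟨g, hg, rfl⟩))) hn hx)
  have h3 : c ^ 3 = 1 := by
    have := congrArg Matrix.det h
    rw [B.det_adj, det_smul, mem_specialLinear.1 (hX hx), mem_specialLinear.1 (inv_mem (hX hx)),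
      map_one] at this
    simpa using this.symm
  refine mem_sup_scalars.2 ⟨x * scal _ (Units.mk0 c hc), Iso_le_isometryGroup hq h2
    (B.mem_Iso_iff_adj.2 ?_), scal _ (Units.mk0 c hc)⁻¹, scal_mem _,
    by rw [mul_assoc, ← scal_mul, mul_inv_cancel]; exact mul_one _⟩
  rw [_root_.mul_inv_rev, ← scal_inv, Units.val_mul, Units.val_mul, coe_scal, coe_scal,
    mul_smul_comm, mul_one, smul_mul_assoc, one_mul, B.adj_smul, h, smul_smul]
  congr 1
  exact eq_inv_of_mul_eq_one_left (by rw [← h3]; change c * c * c = _; ring)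

/-- Dickson's theorem for non-solvable subgroups of `PGL₂(q)`. -/
theorem cases_of_pgl [Fintype F] {p α : ℕ} [Fact p.Prime] (hp : p ≠ 2)
    (hF : Fintype.card F = p ^ α) {Γ : Type*} [Group Γ] (φ : Γ →* PGL(2, F))
    (hφ : Function.Injective φ) (hΓ : ¬ Group.IsSolvable Γ) :
    (∃ (K : Type) (_ : Field K) (_ : Fintype K) (β : ℕ), Fintype.card K = p ^ β ∧ β ∣ α ∧
      p ^ β ≠ 3 ∧ (Nonempty (Γ ≃* PSL(2, K)) ∨ Nonempty (Γ ≃* PGL(2, K)))) ∨
    ((p ^ α % 10 = 1 ∨ p ^ α % 10 = 9) ∧ ∃ (K : Type) (_ : Field K) (_ : Fintype K),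
      Fintype.card K = 5 ∧ Nonempty (Γ ≃* PSL(2, K))) := by
  have : CharP F p := charP_of_card_eq_prime_pow hF
  have e := MonoidHom.ofInjective hφ
  have hΓ' : ¬ Group.IsSolvable φ.range := fun h => hΓ (Group.isSolvable_of_isSolvable_injective
    (f := e.toMonoidHom) e.injective)
  have h60 : ¬ Nat.card φ.range < 60 := fun h => hΓ' (H93.S2B.solvable_of_card_lt _ _ rfl h)
  obtain ⟨y, m⟩ := H61.main_pgl (F := F) p
  obtain ⟨h1, h2⟩ := H61.not_le_of_not_isSolvable (H61.hur_pglF F p) hΓ'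
  rcases H61.dickson_pgl p m φ.range with ⟨a, -, h⟩ | ⟨a, -, h⟩ | ⟨a, b, hab, -, h, -⟩ |
    ⟨-, ⟨h⟩⟩ | ⟨-, ⟨h⟩⟩ | ⟨h5, ⟨h⟩⟩ | ⟨k, γ, H₀, h, h'⟩
  · exact absurd h (h1 a)
  · exact absurd h (h1 a)
  · exact absurd h (h2 a b hab)
  · exact absurd (by rw [H61.card_of_alt4 h]; decide) h60
  · exact absurd (by rw [H61.card_of_sym4 h]; decide) h60
  · have : Fact (Nat.Prime 5) := ⟨by decide⟩
    refine Or.inr ⟨?_, ZMod 5, inferInstance, inferInstance, ZMod.card 5,
      ⟨(e.trans h).trans (Cfsg.Agent.S0253.result (ZMod.card 5)).some.symm⟩⟩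
    have h3 := Subgroup.card_subgroup_dvd_card φ.range
    rw [H61.card_of_alt5 h] at h3 h5
    rw [H61.card_pgl_two, Nat.card_eq_fintype_card, hF] at h3
    have h4 : p ≠ 5 := by rintro rfl; revert h5; decide
    have h6 : ¬ 5 ∣ p ^ α := fun h => h4 ((Nat.prime_dvd_prime_iff_eq (by decide) Fact.out).1
      (Nat.Prime.dvd_of_dvd_pow (by decide) h)).symm
    have h7 := ((Nat.Prime.dvd_mul (by decide)).1 ((by decide : 5 ∣ 60).trans h3)).resolve_left h6
    have h8 : p ^ α % 2 = 1 := Nat.odd_iff.1 (((Fact.out : p.Prime).odd_of_ne_two hp).pow)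
    generalize p ^ α = q at *
    have h9 : q ^ 2 % 5 = 1 := by
      have : 0 < q ^ 2 := pow_pos (by omega) 2
      omega
    rw [Nat.pow_mod] at h9
    have : q % 5 = 0 ∨ q % 5 = 1 ∨ q % 5 = 2 ∨ q % 5 = 3 ∨ q % 5 = 4 := by omega
    rcases this with h | h | h | h | h <;> rw [h] at h9 <;> omega
  · obtain ⟨e'⟩ := H61.equiv_of_map_eq k.subtype (MonoidHom.id _) Function.injective_id
      (H := φ.range) (h'.trans (by rw [Subgroup.map_id]))
    obtain ⟨K, _, _, ⟨f⟩⟩ := H61.exists_small_field k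
    obtain ⟨m, -, hm⟩ := H61.exists_card_pow_subfield k
    have := Fintype.ofFinite k
    obtain ⟨β, -, hβ⟩ := FiniteField.card k p
    rw [← Nat.card_eq_fintype_card] at hβ
    refine Or.inl ⟨K, inferInstance, inferInstance, β, ?_, ⟨m, ?_⟩, fun h3 => h60 ?_, ?_⟩
    · rw [← hβ, ← Nat.card_eq_fintype_card, Nat.card_congr f.toEquiv]
    · rw [hβ, ← pow_mul, Nat.card_eq_fintype_card, hF] at hm
      exact (Nat.pow_right_injective (Fact.out : p.Prime).two_le hm).symm
    · rw [Nat.card_congr e'.toEquiv]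
      refine (Subgroup.card_le_card_group H₀).trans_lt ?_
      rw [H61.card_pgl_two, hβ, h3]
      decide
    · rcases h with ⟨rfl, -⟩ | ⟨rfl, -⟩
      · exact Or.inr ⟨((e.trans e').trans Subgroup.topEquiv).trans (H61.pglCongr f)⟩
      · exact Or.inl ⟨((e.trans e').trans (H61.pslRangeEquiv k)).trans (H55.pslCongr f)⟩

end H19
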