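import Cfsg.Agent.H19.L3A7
import Cfsg.Agent.S0205

/-! Subgroups of `SL₃(q)`, `q` odd, without abelian normal subgroups modulo scalars have an
absolutely irreducible quasisimple normal subgroup. -/

set_option autoImplicit false

namespace H19

open Cfsg Cfsg.Geo H61.L3 Matrix
open scoped MatrixGroups commutatorElement

variable {F : Type*} [Field F]

section general
variable {ι : Type} [Fintype ι] [DecidableEq ι]

theorem MinOver.perfect_of_min {H N T : Subgroup (GL ι F)} (hN : MinOver H N)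
    (hPZ : ¬ ⁅N, N⁆ ≤ scalars ι F) (hT : MinOver N T) (hTN : T ≤ N) :
    ⁅T, T⁆ ⊔ scalars ι F = T := by
  let c : GL ι F → Subgroup (GL ι F) := fun h => T.map (MulAut.conj h).toMonoidHom
  have hc1 : c 1 = T := by
    convert Subgroup.map_id T
    ext x : 1
    simp
  have hcmul : ∀ a b, (c b).map (MulAut.conj a).toMonoidHom = c (a * b) := fun a b => by
    simp only [c, Subgroup.map_map, map_mul]; rfl
  have hcN : ∀ h ∈ H, c h ≤ N := fun h hh =>
    (Subgroup.map_mono hTN).trans (nrm_iff_map.1 hN.nrm h hh)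
  have hcm : ∀ h ∈ H, MinOver N (c h) := fun h hh =>
    hT.conj (fun x hx => by simpa using hN.nrm h⁻¹ (inv_mem hh) x hx) (hN.nrm h hh)
  have hgen : ⨆ h ∈ H, c h = N := by
    have h1 : T ≤ ⨆ h ∈ H, c h := hc1 ▸ le_biSup c H.one_mem
    refine (hN.min _ (hT.le.trans h1) (iSup₂_le hcN) (nrm_iff_map.2 fun g hg => ?_)).resolve_left
      fun h => hT.not_le (h ▸ h1)
    simp only [Subgroup.map_iSup, hcmul]
    exact iSup₂_le fun h hh => le_biSup c (mul_mem hg hh)
  have hcent : ∀ (S : Subgroup (GL ι F)), (∀ h ∈ H, c h ≤ S) → N ≤ S := fun S hS =>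
    hgen ▸ iSup₂_le hS
  refine hT.comm_or_perfect.resolve_left fun hab => hPZ ?_
  have h1 : ∀ a ∈ H, ∀ b ∈ H, ⁅c a, c b⁆ ≤ scalars ι F := fun a ha b hb => by
    by_cases h : c a = c b
    · rw [h, ← Subgroup.map_commutator]
      exact (Subgroup.map_mono hab).trans (nrm_iff_map.1 (nrm_scalars ⊤) b trivial)
    · exact (hcm a ha).commutator_le (hcm b hb) (hcN a ha) (hcN b hb) h
  let π := QuotientGroup.mk' (scalars ι F)
  have h2 : ∀ A B : Subgroup (GL ι F), ⁅A, B⁆ ≤ scalars ι F ↔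
      A ≤ (Subgroup.centralizer (B.map π : Set _)).comap π := fun A B => by
    rw [← Subgroup.map_le_iff_le_comap, ← Subgroup.commutator_eq_bot_iff_le_centralizer,
      ← Subgroup.map_commutator, Subgroup.map_eq_bot_iff, QuotientGroup.ker_mk']
  refine (h2 _ _).2 (hcent _ fun a ha => (h2 _ _).1 ?_)
  rw [Subgroup.commutator_comm]
  exact (h2 _ _).2 (hcent _ fun b hb => (h2 _ _).1 (h1 b hb a ha))

/-- Commutative normal subgroups of `L` consist of scalars. -/
def NoAb (L : Subgroup (GL ι F)) : Prop :=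
  ∀ A ≤ L, Nrm L A → (∀ x ∈ A, ∀ y ∈ A, x * y = y * x) → A ≤ scalars ι F

theorem MinOver.noAb [Finite F] {H N : Subgroup (GL ι F)} (hN : MinOver H N)
    (hper : ⁅N, N⁆ ⊔ scalars ι F = N) : NoAb ⁅N, N⁆ := fun A hA hn hc => by
  by_contra hne
  have hn' : Nrm N (A ⊔ scalars ι F) := hper ▸ (hn.sup (nrm_scalars _)).sup_scalars_left
  obtain ⟨T, hTA, hT⟩ := exists_minOver le_sup_right (fun h => hne (le_sup_left.trans h.le)) hn'
  have h1 := hN.perfect_of_min (fun h => hN.not_le (hper ▸ sup_le h le_rfl)) hT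
    (hTA.trans (sup_le (hA.trans (commutator_le_of_nrm (nrm_self N))) hN.le))
  refine hT.not_le (h1 ▸ sup_le ((Subgroup.commutator_mono hTA hTA).trans ?_) le_rfl)
  rw [commutator_sup_scalars]
  refine Subgroup.commutator_le.2 fun x hx y hy => ?_
  rw [commutatorElement_eq_one_iff_mul_comm.2 (hc x hx y hy)]
  exact one_mem _

theorem commutator_eq_top_of {G : Type*} [Group G] {L : Subgroup G} (hp : ⁅L, L⁆ = L) :
    commutator L = ⊤ := by
  apply Subgroup.map_injective L.subtype_injective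
  rw [commutator_def, Subgroup.map_commutator, ← MonoidHom.range_eq_map, Subgroup.range_subtype, hp]

theorem map_commutatorElement_of_commute {G M : Type*} [Group G] [Monoid M] (ρ : G →* M) {a b : G}
    (h : Commute (ρ a) (ρ b)) : ρ ⁅a, b⁆ = 1 := by
  rw [commutatorElement_def, map_mul, map_mul, map_mul, h.eq, mul_assoc (ρ b), ← map_mul ρ a,
    mul_inv_cancel, map_one, mul_one, ← map_mul, mul_inv_cancel, map_one]

theorem rep_eq_one_of_finrank {G U : Type*} [Group G] [AddCommGroup U] [Module F U]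
    (hG : commutator G = ⊤) (ρ : Representation F G U) (h : Module.finrank F U = 1) (g : G) :
    ρ g = 1 := by
  have : commutator G ≤ ρ.ker := Subgroup.commutator_le.2 fun a _ b _ => by
    obtain ⟨c, hc, -⟩ := LinearMap.existsUnique_eq_smul_id_of_finrank_eq_one h (ρ a)
    exact map_commutatorElement_of_commute ρ (hc ▸ (Commute.one_left _).smul_left c)
  exact this (hG ▸ Subgroup.mem_top g)

theorem finrank_ne_one {G U : Type*} [Group G] [AddCommGroup U] [Module F U]
    (hG : commutator G = ⊤) (h2 : (2 : F) ≠ 0) (ρ : Representation F G U) {t : G} (h : ρ t = -1) :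
    Module.finrank F U ≠ 1 := fun h' => by
  have : Nontrivial U := Module.nontrivial_of_finrank_eq_succ h'
  obtain ⟨u, hu⟩ := exists_ne (0 : U)
  refine hu ((smul_eq_zero_iff_right h2).1 ?_)
  rw [two_smul]
  exact add_eq_zero_iff_eq_neg.2
    (LinearMap.congr_fun ((rep_eq_one_of_finrank hG ρ h' t).symm.trans h) u)

/-- An element acting centrally on an invariant subspace and on its quotient is a scalar. -/
theorem NoAb.mem_scalars {L : Subgroup (GL ι F)} (hA : NoAb L) (hp : ⁅L, L⁆ = L)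
    (ρ : Representation F L (ι → F)) (hρ : ∀ g v, ρ g v = (g : GL ι F).1 *ᵥ v)
    {W : Submodule F (ι → F)} (hW : ∀ g, W ≤ W.comap (ρ g)) {t : L}
    (h1 : ∀ g, Commute (ρ.subrepresentation W hW t) (ρ.subrepresentation W hW g))
    (h2 : ∀ g, Commute (ρ.quotient W hW t) (ρ.quotient W hW g)) : t.1 ∈ scalars ι F := by
  have hK := hA (((ρ.subrepresentation W hW).ker ⊓ (ρ.quotient W hW).ker).map L.subtype)
    (Subgroup.map_subtype_le _) (by
      rintro g hg _ ⟨y, hy, rfl⟩
      exact ⟨_, Subgroup.Normal.conj_mem inferInstance y hy ⟨g, hg⟩, rfl⟩) (by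
      have key : ∀ x y : L, ρ.subrepresentation W hW x = 1 → ρ.quotient W hW y = 1 →
          ∀ v, ρ (x * y) v = ρ x v + ρ y v - v := fun x y hx hy v => by
        have e1 : ρ y v - v ∈ W := (Submodule.Quotient.eq W).1 (LinearMap.congr_fun hy (W.mkQ v))
        have e2 : ρ x (ρ y v - v) = ρ y v - v := congrArg Subtype.val (LinearMap.congr_fun hx ⟨_, e1⟩)
        rw [map_sub, sub_eq_iff_eq_add] at e2
        rw [map_mul, Module.End.mul_apply, e2]
        abel
      rintro _ ⟨x, hx, rfl⟩ _ ⟨y, hy, rfl⟩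
      refine Units.ext (matrix_ext_mulVec fun v => ?_)
      refine (hρ (x * y) v).symm.trans (Eq.trans ?_ (hρ (y * x) v))
      rw [key x y hx.1 hy.2, key y x hy.1 hx.2, add_comm])
  have hc : ∀ x ∈ L, t.1 * x = x * t.1 := fun x hx => commute_of_mem_commutator
    (fun g hg => hK ⟨⁅t, ⟨g, hg⟩⁆, ⟨map_commutatorElement_of_commute _ (h1 _),
      map_commutatorElement_of_commute _ (h2 _)⟩, rfl⟩) (hp.ge hx)
  refine hA (Subgroup.zpowers t.1) (Subgroup.zpowers_le.2 t.2) ?_ ?_ (Subgroup.mem_zpowers _)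
  · rintro g hg _ ⟨n, rfl⟩
    exact ⟨n, by rw [← (Commute.zpow_left (hc g hg) n).eq, mul_inv_cancel_right]⟩
  · rintro _ ⟨n, rfl⟩ _ ⟨m, rfl⟩
    exact (Commute.zpow_zpow_self _ _ _).eq

end general

theorem adjugate_add_one {t : GL (Fin 3) F} (ht : t ∈ specialLinear (Fin 3) F) (h : t ^ 2 = 1)
    (h1 : t ≠ 1) : (t.1 + 1).adjugate = 0 := by
  have e1 : t.1.adjugate = t.1 := by
    rw [← coe_inv3 ht, inv_eq_of_mul_eq_one_right ((sq t).symm.trans h)]
  have e2 : t.1.trace = -1 := trc_of_sq ht h h1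
  have e3 : ∀ A : Matrix (Fin 3) (Fin 3) F, (A + 1).adjugate =
      A.adjugate + (A.trace + 1) • (1 : Matrix (Fin 3) (Fin 3) F) - A := fun A => by
    ext i j
    fin_cases i <;> fin_cases j <;>
      simp [Matrix.adjugate_fin_three, Matrix.trace_fin_three] <;> ring
  rw [e3, e1, e2]
  simp

theorem exists_invol_of_perfect [Finite F] {L : Subgroup (GL (Fin 3) F)} (hp : ⁅L, L⁆ = L)
    (hZ : ¬ L ≤ scalars (Fin 3) F) : ∃ t ∈ L, t ^ 2 = 1 ∧ t ≠ 1 := by
  have hodd : ¬ Odd (Nat.card L) := fun h => by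
    have := Cfsg.Agent.S0205.result h
    have : Nontrivial L := (Subgroup.nontrivial_iff_ne_bot L).2 fun h => hZ (h ▸ bot_le)
    exact (Group.IsSolvable.commutator_lt_top_of_nontrivial L).ne (commutator_eq_top_of hp)
  obtain ⟨t, ht⟩ := exists_prime_orderOf_dvd_card' 2 (even_iff_two_dvd.1 (Nat.not_odd_iff_even.1 hodd))
  refine ⟨t, t.2, congrArg Subtype.val (ht ▸ pow_orderOf_eq_one t), fun h => ?_⟩
  rw [show t = 1 from Subtype.ext h, orderOf_one] at ht
  exact absurd ht (by decide)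

theorem NoAb.span [Finite F] (h2 : (2 : F) ≠ 0) {L : Subgroup (GL (Fin 3) F)} (hA : NoAb L)
    (hL : L ≤ specialLinear (Fin 3) F) (hp : ⁅L, L⁆ = L) (hZ : ¬ L ≤ scalars (Fin 3) F) :
    gspan L = ⊤ := by
  obtain ⟨t, htL, ht2, ht1⟩ := exists_invol_of_perfect hp hZ
  have htZ : t ∉ scalars (Fin 3) F := fun h => ht1 (by
    have := pow_three_of_scalar h (hL htL)
    rwa [pow_succ, ht2, one_mul] at this)
  obtain ⟨M, hM⟩ : ∃ M, M = t.1 + 1 := ⟨_, rfl⟩
  have hadj : M.adjugate = 0 := hM ▸ adjugate_add_one (hL htL) ht2 ht1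
  have htt : t.1 * t.1 = 1 := by rw [← Units.val_mul, ← sq, ht2]; rfl
  have hMM : M * M = (2 : F) • M := by
    rw [hM, add_mul, mul_add, htt, two_smul]; simp only [mul_one, one_mul]; abel
  have hM0 : M ≠ 0 := fun h => htZ (mem_scalars_of_eq_smul (c := -1)
    (by rw [neg_smul, one_smul]; exact eq_neg_of_add_eq_zero_left (hM.symm.trans h)))
  have htv : ∀ v, t.1 *ᵥ v = M *ᵥ v - v := fun v => by rw [hM, add_mulVec, one_mulVec]; abel
  have hG := commutator_eq_top_of hp
  have hirr : Irr L := irr_iff.2 fun W hW => by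
    by_contra! hne
    let ρ : Representation F L (Fin 3 → F) :=
      (Matrix.toLinAlgEquiv' (R := F) (n := Fin 3)).toMulEquiv.toMonoidHom.comp (natRep L)
    have hW' : ∀ g, W ≤ W.comap (ρ g) := fun g w hw => hW g g.2 w hw
    have d1 := W.finrank_quotient_add_finrank
    have d2 : 0 < Module.finrank F W := Module.finrank_pos_iff.2 (Submodule.nontrivial_iff_ne_bot.2 hne.1)
    have d3 : 0 < Module.finrank F ((Fin 3 → F) ⧸ W) :=
      Module.finrank_pos_iff.2 (Submodule.Quotient.nontrivial_iff.2 hne.2)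
    rw [Module.finrank_fin_fun] at d1
    refine htZ ?_
    by_cases h0 : ∀ w ∈ W, M *ᵥ w = 0
    · have e : ρ.subrepresentation W hW' ⟨t, htL⟩ = -1 := LinearMap.ext fun w => Subtype.ext
        ((htv w).trans (by rw [h0 w w.2, zero_sub]; rfl))
      have := finrank_ne_one hG h2 _ e
      exact hA.mem_scalars hp ρ (fun _ _ => rfl) hW' (t := ⟨t, htL⟩)
        (fun g => by rw [e]; exact LinearMap.ext fun _ => by simp) fun g => by
          rw [rep_eq_one_of_finrank hG _ (by omega) g]; exact Commute.one_right _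
    · push Not at h0
      obtain ⟨w, hw, hw0⟩ := h0
      have e : ρ.quotient W hW' ⟨t, htL⟩ = -1 := LinearMap.ext fun v => by
        obtain ⟨v, rfl⟩ := W.mkQ_surjective v
        refine (Submodule.Quotient.eq W).2 ?_
        obtain ⟨X, rfl⟩ := exists_mulVec_eq hw0 v
        change t.1 *ᵥ _ - -_ ∈ W
        rw [htv, sub_neg_eq_add, sub_add_cancel, mulVec_mulVec, mulVec_mulVec, sandwich hadj,
          smul_mulVec, hM, add_mulVec, one_mulVec]
        exact W.smul_mem _ (add_mem (hW t htL w hw) hw)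
      have := finrank_ne_one hG h2 _ e
      exact hA.mem_scalars hp ρ (fun _ _ => rfl) hW' (t := ⟨t, htL⟩) (fun g => by
        rw [rep_eq_one_of_finrank hG _ (by omega) g]; exact Commute.one_right _)
        fun g => by rw [e]; exact LinearMap.ext fun _ => by simp
  refine gspan_eq_top_of_absIrr ⟨hirr, fun X hX => ⟨(M * X).trace / 2, ?_⟩⟩
  have hX' : ∀ g ∈ L, X * g.1 = g.1 * X := fun g hg => hX _ ⟨g, hg, rfl⟩
  have hXM : X * M = M * X := by rw [hM, mul_add, add_mul, hX' t htL, mul_one, one_mul]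
  have e1 : (X - ((M * X).trace / 2) • 1) * M = 0 := by
    refine (smul_eq_zero_iff_right h2).1 ?_
    rw [sub_mul, smul_sub, ← Matrix.mul_smul, ← hMM, ← mul_assoc, hXM, sandwich hadj, smul_mul_assoc,
      one_mul, smul_smul, mul_div_cancel₀ _ h2, sub_self]
  rcases hirr.eq_bot_or_top (LinearMap.ker (Matrix.toLin' (X - ((M * X).trace / 2) • 1)))
    (fun g hg w hw => by
      rw [LinearMap.mem_ker, Matrix.toLin'_apply] at hw ⊢
      rw [mulVec_mulVec, sub_mul, hX' g hg, smul_mul_assoc, one_mul, ← mul_one g.1, mul_assoc,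
        ← Matrix.mul_smul, one_mul, ← mul_sub, ← mulVec_mulVec, hw, mulVec_zero]) with h | h
  · refine absurd (matrix_ext_mulVec fun v => ?_) hM0
    rw [zero_mulVec, ← Submodule.mem_bot F, ← h, LinearMap.mem_ker, Matrix.toLin'_apply,
      mulVec_mulVec, e1, zero_mulVec]
  · rw [LinearMap.ker_eq_top, LinearEquiv.map_eq_zero_iff] at h
    exact sub_eq_zero.1 h

/-- The quasisimple core. -/
theorem Cov.exists_core [Finite F] (h2 : (2 : F) ≠ 0) {Γ : Type*} [Group Γ] [Nontrivial Γ]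
    {X : Subgroup (GL (Fin 3) F)} {π : X →* Γ} (h : Cov X π) (hX : X ≤ specialLinear (Fin 3) F)
    (hN : ∀ N : Subgroup Γ, N.Normal → IsMulCommutative N →
      (∃ r : ℕ, r.Prime ∧ ∀ x ∈ N, x ^ r = 1) → N = ⊥) :
    ∃ P ≤ X, QS P ∧ Nrm X P ∧ ¬ P ≤ scalars (Fin 3) F := by
  have hXZ : ¬ X ≤ scalars (Fin 3) F := fun hle => by
    obtain ⟨x, hx⟩ := exists_ne (1 : Γ)
    obtain ⟨g, rfl⟩ := h.surj x
    exact hx ((h.ker g).2 (hle g.2))
  obtain ⟨N, hNX, hm⟩ := exists_minOver le_sup_right (fun e => hXZ (le_sup_left.trans e.le))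
    ((nrm_self X).sup (nrm_scalars X))
  have hab : ¬ ⁅N, N⁆ ≤ scalars (Fin 3) F := fun hab => by
    obtain ⟨r, hr, hr'⟩ := hm.exists_prime hab
    have := hN ((N.subgroupOf X).map π) (Subgroup.Normal.map
      ⟨fun x hx (g : X) => hm.nrm g g.2 x hx⟩ _ h.surj) ⟨⟨?_⟩⟩ ⟨r, hr, ?_⟩
    · refine hm.not_le fun x hx => ?_
      obtain ⟨y, hy, z, hz, rfl⟩ := mem_sup_scalars.1 (hNX hx)
      refine mul_mem ((h.ker ⟨y, hy⟩).1 ?_) hz
      rw [← Subgroup.mem_bot, ← this]
      exact ⟨⟨y, hy⟩, (mul_mem_cancel_right (hm.le hz)).1 hx, rfl⟩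
    · rintro ⟨_, x, hx, rfl⟩ ⟨_, y, hy, rfl⟩
      refine Subtype.ext (commutatorElement_eq_one_iff_mul_comm.1 ?_)
      exact (map_commutatorElement π x y).symm.trans
        ((h.ker _).2 (hab (Subgroup.commutator_mem_commutator hx hy)))
    · rintro _ ⟨x, hx, rfl⟩
      exact (map_pow π x r).symm.trans ((h.ker _).2 (hr' x hx))
  have hper := hm.comm_or_perfect.resolve_left hab
  have hs : gspan N = ⊤ := by
    rw [← hper, gspan_sup_scalars]
    refine (hm.noAb hper).span h2 (((Subgroup.commutator_mono hNX hNX).trans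
      ((commutator_sup_scalars X X).le.trans (commutator_le_of_nrm (nrm_self X)))).trans hX) ?_ hab
    rw [← commutator_sup_scalars, hper]
  obtain ⟨P, hP⟩ | ⟨t, k, g, φ, L, P, hP⟩ := (hm.core hNX hs).resolve_left hab
  · exact ⟨P, hP.le, ⟨hP.le.trans hX, hP.perfect, hP.simple, absIrr_of_gspan_eq_top hP.span⟩,
      hP.nrm, hP.not_le⟩
  · obtain ⟨e, -⟩ := hP.exists_tpow
    have h1 := Fintype.card_congr e
    simp only [Fintype.card_fin, Fintype.card_pi, Finset.prod_const, Finset.card_univ] at h1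
    have := Nat.pow_le_pow_left hP.two_le_k t
    have := Nat.pow_le_pow_right two_pos hP.two_le_t
    omega

end H19
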