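import Cfsg.Agent.H19.L3Red
import Cfsg.Agent.H25.TvSU
import Cfsg.Agent.H61.Dickson
import Cfsg.Agent.H55.Transport

/-! Normalisers of subfield subgroups in `SL₃(q)`, modulo scalars. -/

set_option autoImplicit false

namespace H19

open Cfsg Cfsg.Geo H61.L3 Matrix
open scoped MatrixGroups commutatorElement

variable {F : Type*} [Field F]

section general
variable {ι : Type} [Fintype ι] [DecidableEq ι] {G G' Γ Γ' : Type*} [Group G] [Group G'] [Group Γ]
  [Group Γ']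

/-- `ρ` identifies the image of `j` modulo scalars with `Γ`. -/
structure Cv (j : G →* GL ι F) (ρ : G →* Γ) : Prop where
  surj : Function.Surjective ρ
  ker : ∀ g, ρ g = 1 ↔ j g ∈ scalars ι F

theorem Cov.cv {P : Subgroup (GL ι F)} {π : P →* Γ} (h : Cov P π) : Cv P.subtype π :=
  ⟨h.surj, h.ker⟩

variable {j : G →* GL ι F} {ρ : G →* Γ} {j' : G' →* GL ι F} {ρ' : G' →* Γ'}

theorem Cv.exists_hom (h : Cv j ρ) (h' : ∀ g, ρ' g = 1 ↔ j' g ∈ scalars ι F)
    (hle : j.range ≤ j'.range ⊔ scalars ι F) : ∃ φ : Γ →* Γ', Function.Injective φ ∧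
      ∀ g g', (j g)⁻¹ * j' g' ∈ scalars ι F → φ (ρ g) = ρ' g' := by
  let m := QuotientGroup.mk' (scalars ι F)
  let D := ((m.comp j).comp (MonoidHom.fst G G')).eqLocus ((m.comp j').comp (MonoidHom.snd G G'))
  have hD : ∀ x : G × G', x ∈ D ↔ (j x.1)⁻¹ * j' x.2 ∈ scalars ι F := fun x => QuotientGroup.eq
  let a : D →* Γ := (ρ.comp (MonoidHom.fst G G')).comp D.subtype
  let b : D →* Γ' := (ρ'.comp (MonoidHom.snd G G')).comp D.subtype
  have ha : Function.Surjective a := fun y => by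
    obtain ⟨g, rfl⟩ := h.surj y
    obtain ⟨_, ⟨g', rfl⟩, z, hz, e⟩ := mem_sup_scalars.1 (hle ⟨g, rfl⟩)
    refine ⟨⟨(g, g'), (hD _).2 ?_⟩, rfl⟩
    rw [← e]
    simpa using inv_mem hz
  have hab : ∀ x, a x = 1 ↔ b x = 1 := fun x => by
    refine (h.ker _).trans (Iff.trans ?_ (h' _).symm)
    have := (hD _).1 x.2
    exact ⟨fun e => (mul_mem_cancel_left (inv_mem e)).1 this,
      fun e => inv_mem_iff.1 ((mul_mem_cancel_right e).1 this)⟩
  let φ := a.liftOfSurjective ha ⟨b, fun x hx => (hab x).1 hx⟩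
  have hφ : ∀ x, φ (a x) = b x := fun x => a.liftOfRightInverse_comp_apply _ _ _ x
  refine ⟨φ, (injective_iff_map_eq_one φ).2 fun y hy => ?_, fun g g' e => hφ ⟨(g, g'), (hD _).2 e⟩⟩
  obtain ⟨x, rfl⟩ := ha y
  exact (hab x).2 ((hφ x).symm.trans hy)

variable {X : Subgroup (GL ι F)} {π : X →* Γ}

theorem Cov.exists_sub (h : Cov X π) (h' : Cv j' ρ') (hle : j'.range ≤ X) : ∃ L : Subgroup Γ,
    L.index = (j'.range ⊔ scalars ι F).relIndex X ∧ Nonempty (L ≃* Γ') := by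
  obtain ⟨φ, hφ, hφ'⟩ := h'.exists_hom h.ker
    (le_sup_left.trans' (hle.trans X.range_subtype.ge))
  refine ⟨φ.range, ?_, ⟨(MonoidHom.ofInjective hφ).symm⟩⟩
  rw [← Subgroup.index_comap_of_surjective _ h.surj, Subgroup.relIndex]
  congr 1
  ext x
  constructor
  · rintro ⟨y, hy⟩
    obtain ⟨g, rfl⟩ := h'.surj y
    rw [hφ' g ⟨j' g, hle ⟨g, rfl⟩⟩ (by simp), h.eq_iff] at hy
    exact mem_sup_scalars.2 ⟨_, ⟨g, rfl⟩, _, hy, by simp⟩
  · intro hx
    obtain ⟨_, ⟨g, rfl⟩, z, hz, e⟩ := mem_sup_scalars.1 hx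
    refine ⟨ρ' g, hφ' g x ?_⟩
    rw [← e]
    simpa using hz

theorem Cov.equiv_of_le (h : Cov X π) (h' : Cv j' ρ') (hle : j'.range ≤ X)
    (hge : X ≤ j'.range ⊔ scalars ι F) : Nonempty (Γ ≃* Γ') := by
  obtain ⟨L, h1, ⟨e⟩⟩ := h.exists_sub h' hle
  rw [Subgroup.relIndex_eq_one.2 hge, Subgroup.index_eq_one] at h1
  subst h1
  exact ⟨Subgroup.topEquiv.symm.trans e⟩

theorem Cv.exists_cov (h : Cv j ρ) : ∃ π : j.range →* Γ, Cov j.range π :=
  H19.exists_cov ((cov_mk _).equiv_of_le h le_rfl le_sup_left).some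

theorem toGL_mem_scalars {g : SpecialLinearGroup ι F} :
    g.toGL ∈ scalars ι F ↔ g ∈ Subgroup.center (SpecialLinearGroup ι F) := by
  rw [← SpecialLinearGroup.toGL_mem_center_iff, GeneralLinearGroup.center_eq_range_scalar]
  rfl

/-- The embedding of `GL(k)` in the basis `B`. -/
def emb (k : Subfield F) (B : GL ι F) : GL ι k →* GL ι F :=
  (MulAut.conj B).toMonoidHom.comp (GeneralLinearGroup.map k.subtype)

variable {k : Subfield F} {B : GL ι F}

theorem cj_emb (g : GL ι k) : cj B⁻¹ (emb k B g).1 = g.1.map k.subtype := by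
  rw [cj_coe]
  simp [emb, mul_assoc]

theorem emb_injective : Function.Injective (emb k B) := fun g g' h => by
  have := cj_emb (B := B) g
  rw [h, cj_emb] at this
  exact Units.ext (Matrix.map_injective k.subtype.injective this).symm

theorem emb_scal (c : kˣ) : emb k B (scal ι c) = scal ι (Units.map k.subtype.toMonoidHom c) := by
  rw [← conj_scalar (scal_mem (Units.map k.subtype.toMonoidHom c)) B]
  change B * _ * B⁻¹ = _
  congr 2
  ext i j
  by_cases h : i = j <;> simp [h]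

theorem emb_mem_scalars {g : GL ι k} : emb k B g ∈ scalars ι F ↔ g ∈ scalars ι k := by
  refine ⟨fun h => ?_, fun h => ?_⟩
  · obtain ⟨c, hc⟩ := exists_smul_of_commute (a := g.1) fun b => Matrix.map_injective
      k.subtype.injective (by
        obtain ⟨c, hc⟩ := exists_scal h
        simp only [Matrix.map_mul]
        rw [← cj_emb (B := B), hc, coe_scal, map_smul, map_one, smul_mul_assoc, mul_smul_comm,
          one_mul, mul_one])
    exact mem_scalars_of_eq_smul hc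
  · obtain ⟨c, rfl⟩ := exists_scal h
    exact emb_scal (B := B) c ▸ scal_mem _

theorem det_emb (g : GL ι k) : (emb k B g).1.det = k.subtype g.1.det := by
  rw [RingHom.map_det, RingHom.mapMatrix_apply, ← cj_emb (B := B), cj_apply, Matrix.det_units_conj]

theorem gspan_of_emb {S : Subgroup (GL ι k)} (h : gspan (S.map (emb k B)) = ⊤) : gspan S = ⊤ := by
  by_contra hne
  obtain ⟨φ, h0, hφ⟩ := Submodule.exists_le_ker_of_lt_top (p := (gspan S).toSubmodule)
    (lt_top_iff_ne_top.2 fun e => hne (Algebra.toSubmodule_eq_top.1 e))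
  have e1 : ∀ a : Matrix ι ι k, φ a = ∑ i, ∑ j, a i j * φ (single i j 1) := fun a => by
    conv_lhs => rw [matrix_eq_sum_single a]
    simp only [map_sum]
    refine Finset.sum_congr rfl fun i _ => Finset.sum_congr rfl fun j _ => ?_
    rw [← smul_eq_mul, ← map_smul, smul_single, smul_eq_mul, mul_one]
  have e2 : ∀ a ∈ gspan (S.map (emb k B)),
      ∑ i, ∑ j, cj B⁻¹ a i j * (φ (single i j 1) : F) = 0 := fun a ha => by
    refine gspan_induction ha ?_ (by simp) (fun x y hx hy => ?_) fun c x hx => ?_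
    · rintro _ ⟨g, hg, rfl⟩
      have := congrArg k.subtype ((e1 g).symm.trans (hφ (coe_mem_gspan hg)))
      simpa [cj_emb] using this
    · simp only [map_add, Matrix.add_apply, add_mul, Finset.sum_add_distrib, hx, hy, add_zero]
    · simp only [map_smul, Matrix.smul_apply, smul_eq_mul, mul_assoc, ← Finset.mul_sum, hx, mul_zero]
  refine h0 (LinearMap.ext fun a => (e1 a).trans ?_)
  have : ∀ i j, φ (single i j 1) = 0 := fun i j => by
    simpa [Matrix.single_apply, ite_and] using e2 (cj B (single i j 1)) (h ▸ Algebra.mem_top)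
  simp [this]

theorem le_range_emb [Finite F] {S : Subgroup (GL ι k)} (hs : gspan (S.map (emb k B)) = ⊤)
    (hX : Nrm X (S.map (emb k B))) : X ≤ (emb k B).range ⊔ scalars ι F := by
  obtain ⟨p, hp⟩ := CharP.exists F
  have := Fintype.ofFinite k
  obtain ⟨n, hp', hn⟩ := FiniteField.card k p
  have := Fact.mk hp'
  refine (le_subfieldSubgroup (F₁ := k) (τ := iterateFrobenius F p n) (P := B) (fun x => ?_) hs hX
    ?_).trans ?_
  · rw [← H25.Tv3.mem_iff_pow_card, Nat.card_eq_fintype_card, hn, iterateFrobenius_def]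
  · rintro _ ⟨g, -, rfl⟩ i j
    rw [cj_emb]
    exact (g.1 i j).2
  · rw [subfieldSubgroup, Subgroup.map_sup, ← MonoidHom.range_comp]
    exact sup_le_sup le_rfl (Subgroup.Normal.map_conj_eq _ B).le

end general

theorem range_toGL : (SpecialLinearGroup.toGL (n := Fin 3) (R := F)).range =
    specialLinear (Fin 3) F := by
  ext g
  refine ⟨?_, fun h => ⟨⟨g, mem_specialLinear.1 h⟩, Units.ext rfl⟩⟩
  rintro ⟨g, rfl⟩
  exact mem_specialLinear.2 g.2

theorem det_scal3 (c : Fˣ) : (scal (Fin 3) c).1.det = c ^ 3 := by simp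

/-- The index of `Y ∩ SL₃` modulo scalars in a group inside `Y` modulo scalars. -/
theorem index_cases {X Y : Subgroup (GL (Fin 3) F)} {e : ℕ}
    (hY : ∀ c : Fˣ, scal (Fin 3) c ∈ Y ↔ c ^ e = 1) (hd : ∀ y ∈ Y, y.1.det ^ e = 1)
    (hX : X ≤ specialLinear (Fin 3) F) (hXY : X ≤ Y ⊔ scalars (Fin 3) F) :
    X ≤ Y ⊓ specialLinear (Fin 3) F ⊔ scalars (Fin 3) F ∨ (3 ∣ e ∧
      (Y ⊓ specialLinear (Fin 3) F ⊔ scalars (Fin 3) F).relIndex X = 3 ∧
      ∃ c : Fˣ, c ^ e ≠ 1 ∧ (c ^ e) ^ 3 = 1) := by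
  let ψ : Y × Fˣ →* GL (Fin 3) F := MonoidHom.noncommCoprod Y.subtype
    (Units.map (Matrix.scalar (Fin 3) : F →+* _).toMonoidHom)
    fun y c => (scalars_commute (scal_mem c) y.1).symm
  have hψ : ∀ x, ψ x = x.1 * scal (Fin 3) x.2 := fun _ => rfl
  let f := ψ.subgroupComap X
  have hf : Function.Surjective f := fun x => by
    obtain ⟨y, hy, z, hz, h⟩ := mem_sup_scalars.1 (hXY x.2)
    obtain ⟨c, rfl⟩ := exists_scal hz
    exact ⟨⟨(⟨y, hy⟩, c), show y * scal (Fin 3) c ∈ X from h.symm ▸ x.2⟩, Subtype.ext h⟩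
  let χ : X.comap ψ →* Fˣ := (powMonoidHom e).comp ((MonoidHom.snd _ _).comp (Subgroup.subtype _))
  have hχ : ∀ x, χ x = x.1.2 ^ e := fun _ => rfl
  have h3 : ∀ x, χ x ^ 3 = 1 := fun x => Units.ext (by
    have h1 := mem_specialLinear.1 (hX x.2)
    rw [hψ, Units.val_mul, det_mul, det_scal3] at h1
    have h2 := congrArg (· ^ e) h1
    simp only [mul_pow, hd _ x.1.1.2, one_mul, one_pow] at h2
    rw [hχ, ← pow_mul, mul_comm, pow_mul]
    exact h2)
  have key : ∀ x (z : Fˣ), z ^ 3 = 1 → z ^ e = χ x →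
      (f x).1 ∈ Y ⊓ specialLinear (Fin 3) F ⊔ scalars (Fin 3) F := fun x z h1 h2 =>
    mem_sup_scalars.2 ⟨ψ x * scal (Fin 3) z⁻¹, ⟨by
      rw [hψ, mul_assoc, ← scal_mul]
      exact mul_mem x.1.1.2 ((hY _).2 (by rw [mul_pow, ← hχ, ← h2, inv_pow, mul_inv_cancel])),
      mul_mem (hX x.2) (scal_mem_specialLinear.2 (by rw [inv_pow, h1, inv_one]))⟩, _, scal_mem z,
      by rw [mul_assoc, ← scal_mul, inv_mul_cancel]; exact mul_one _⟩
  by_cases h1 : ∀ x, χ x = 1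
  · refine Or.inl fun x hx => ?_
    obtain ⟨y, hy⟩ := hf ⟨x, hx⟩
    exact (show (f y).1 = x from congrArg Subtype.val hy) ▸ key y 1 (one_pow _) ((one_pow _).trans (h1 y).symm)
  push Not at h1
  obtain ⟨x₀, hx₀⟩ := h1
  by_cases he : 3 ∣ e
  · refine Or.inr ⟨he, ?_, _, hx₀, h3 x₀⟩
    have hζ : IsPrimitiveRoot (χ x₀) 3 := by
      have := IsPrimitiveRoot.orderOf (χ x₀)
      rwa [orderOf_eq_prime (h3 x₀) hx₀] at this
    have h4 : χ.range = Subgroup.zpowers (χ x₀) := le_antisymm (by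
      rintro _ ⟨x, rfl⟩
      rw [hζ.zpowers_eq]
      exact h3 x) (Subgroup.zpowers_le.2 ⟨x₀, rfl⟩)
    refine Eq.trans ?_ (orderOf_eq_prime (h3 x₀) hx₀)
    rw [Subgroup.relIndex, ← Subgroup.index_comap_of_surjective _ hf, ← Nat.card_zpowers, ← h4,
      ← Subgroup.index_ker]
    congr 1
    ext x
    refine ⟨fun hx => ?_, fun hx => key x 1 (one_pow _) ((one_pow _).trans hx.symm)⟩
    obtain ⟨y, hy, z, hz, h⟩ := mem_sup_scalars.1 hx
    obtain ⟨c, rfl⟩ := exists_scal hz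
    have h5 : c ^ e = 1 := by
      obtain ⟨d, rfl⟩ := he
      rw [pow_mul, scal_mem_specialLinear.1 ((Subgroup.mul_mem_cancel_left _ hy.2).1
        (h ▸ hX x.2)), one_pow]
    have h6 := mul_mem hy.1 ((hY c).2 h5)
    rw [h] at h6
    exact (hY _).1 ((mul_mem_cancel_left x.1.1.2).1 h6)
  · refine Or.inl fun x hx => ?_
    obtain ⟨y, hy⟩ := hf ⟨x, hx⟩
    refine (show (f y).1 = x from congrArg Subtype.val hy) ▸ key y (χ y ^ e)
      (by rw [← pow_mul, mul_comm, pow_mul, h3, one_pow]) ?_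
    rw [← pow_mul, pow_eq_pow_mod _ (h3 y), show e * e % 3 = 1 by
      rw [Nat.mul_mod]; have : e % 3 = 1 ∨ e % 3 = 2 := by omega
      rcases this with h | h <;> rw [h], pow_one]

theorem three_dvd_of_pow [Finite F] {c ζ : Fˣ} {K m : ℕ} (h1 : ζ ≠ 1) (h3 : ζ ^ 3 = 1)
    (hK : K % 3 = 1) (hc : c ^ K = ζ * c) (hm : K ^ m = Nat.card F) : 3 ∣ m := by
  have e : ∀ j, c ^ K ^ j = ζ ^ j * c := fun j => by
    induction j with
    | zero => simp
    | succ j ih => rw [pow_succ, pow_mul, ih, mul_pow, hc, ← pow_mul, mul_comm j, pow_mul,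
        pow_eq_pow_mod K h3, hK, pow_one, pow_succ, mul_assoc]
  have := Fintype.ofFinite F
  have e2 : c ^ K ^ m = c := Units.ext (by
    rw [hm, Nat.card_eq_fintype_card, Units.val_pow_eq_pow_val, FiniteField.pow_card])
  rw [← orderOf_eq_prime h3 h1, orderOf_dvd_iff_pow_eq_one]
  exact mul_eq_right.1 ((e m).symm.trans e2)

variable [Finite F] {k : Subfield F} {B : GL (Fin 3) F} {X P : Subgroup (GL (Fin 3) F)}

theorem sub_cases {T : Subgroup (GL (Fin 3) k)} {e : ℕ} (h1 : ∀ c : F, c ^ e = 1 → c ∈ k)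
    (h2 : ∀ c : kˣ, scal (Fin 3) c ∈ T ↔ c ^ e = 1) (h3 : ∀ g ∈ T, g.1.det ^ e = 1)
    (hN : gspan (T ⊓ specialLinear (Fin 3) k) = ⊤ → ∀ g, (∀ s ∈ T ⊓ specialLinear (Fin 3) k,
      g * s * g⁻¹ ∈ T ⊓ specialLinear (Fin 3) k) → g ∈ T ⊔ scalars (Fin 3) k)
    (hP : P = (T ⊓ specialLinear (Fin 3) k).map (emb k B)) (hs : gspan P = ⊤)
    (hX : X ≤ specialLinear (Fin 3) F) (hn : Nrm X P) :
    X ≤ P ⊔ scalars (Fin 3) F ∨ (3 ∣ e ∧ (P ⊔ scalars (Fin 3) F).relIndex X = 3 ∧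
      ∃ c : Fˣ, c ^ e ≠ 1 ∧ (c ^ e) ^ 3 = 1) := by
  have hd : ∀ g, emb k B g ∈ specialLinear (Fin 3) F ↔ g ∈ specialLinear (Fin 3) k := fun g => by
    rw [mem_specialLinear, mem_specialLinear, det_emb, ← k.subtype.injective.eq_iff, map_one]
  have hP' : P = T.map (emb k B) ⊓ specialLinear (Fin 3) F := by
    rw [hP]
    ext x
    exact ⟨by rintro ⟨g, hg, rfl⟩; exact ⟨⟨g, hg.1, rfl⟩, (hd g).2 hg.2⟩,
      by rintro ⟨⟨g, hg, rfl⟩, h⟩; exact ⟨g, ⟨hg, (hd g).1 h⟩, rfl⟩⟩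
  have hu : Function.Injective (Units.map k.subtype.toMonoidHom) :=
    Units.map_injective k.subtype.injective
  rw [hP']
  subst hP
  refine index_cases (fun c => ⟨?_, fun h => ?_⟩) ?_ hX fun x hx => ?_
  · rintro ⟨g, hg, h⟩
    obtain ⟨d, rfl⟩ := exists_scal (emb_mem_scalars.1 (h ▸ scal_mem c))
    rw [← scal_injective ((emb_scal d).symm.trans h), ← map_pow, (h2 d).1 hg, map_one]
  · let d : kˣ := Units.mk0 ⟨c, h1 c (congrArg Units.val h)⟩ fun h => c.ne_zero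
      (congrArg Subtype.val h)
    have : Units.map k.subtype.toMonoidHom d = c := Units.ext rfl
    exact ⟨_, (h2 d).2 (hu (by rw [map_pow, this, h, map_one])), this ▸ emb_scal d⟩
  · rintro _ ⟨g, hg, rfl⟩
    rw [det_emb, ← map_pow, h3 g hg, map_one]
  · obtain ⟨_, ⟨g, rfl⟩, z, hz, rfl⟩ := mem_sup_scalars.1 (le_range_emb hs hn hx)
    obtain ⟨t, ht, w, hw, rfl⟩ := mem_sup_scalars.1 (hN (gspan_of_emb hs) g fun s hs => by
      obtain ⟨s', hs', h⟩ := hn _ hx _ ⟨s, hs, rfl⟩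
      rw [← conj_by_scalar (inv_mem hz) (emb k B s)] at h
      rwa [← emb_injective (h.trans (by simp [mul_assoc]) : _ = emb k B (g * s * g⁻¹))])
    rw [map_mul, mul_assoc]
    exact Subgroup.mul_mem_sup ⟨t, ht, rfl⟩ (mul_mem (emb_mem_scalars.2 hw) hz)

variable {Γ : Type*} [Group Γ] {π : X →* Γ}

theorem Cov.sl_cases (h : Cov X π) (hX : X ≤ specialLinear (Fin 3) F) (hle : P ≤ X) (hn : Nrm X P)
    (hs : gspan P = ⊤) (hP : IsConjSub P k (specialLinear (Fin 3) k)) :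
    Nonempty (Γ ≃* PSL(3, k)) ∨ (3 ∣ Nat.card k - 1 ∧ (∀ m, Nat.card k ^ m = Nat.card F → 3 ∣ m) ∧
      ∃ L : Subgroup Γ, L.index = 3 ∧ Nonempty (L ≃* PSL(3, k))) := by
  obtain ⟨B, hP⟩ := hP
  rw [Subgroup.map_map] at hP
  have h1 : Cv ((emb k B).comp SpecialLinearGroup.toGL)
      (QuotientGroup.mk' (Subgroup.center SL(3, k))) := ⟨QuotientGroup.mk'_surjective _, fun g =>
    (QuotientGroup.eq_one_iff g).trans (toGL_mem_scalars.symm.trans emb_mem_scalars.symm)⟩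
  have h2 : ((emb k B).comp SpecialLinearGroup.toGL).range = P := by
    rw [MonoidHom.range_comp, range_toGL, hP]; rfl
  have hk : Nat.card k - 1 + 1 = Nat.card k := Nat.sub_add_cancel Nat.card_pos
  have hu : ∀ c : kˣ, c ^ (Nat.card k - 1) = 1 := fun c => by
    rw [← Nat.card_units, pow_card_eq_one']
  refine (sub_cases (T := ⊤) (B := B) (e := Nat.card k - 1) (fun c hc => ?_)
    (fun c => ⟨fun _ => hu c, fun _ => trivial⟩)
    (fun g _ => congrArg Units.val (hu (GeneralLinearGroup.det g)))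
    (fun _ _ _ => le_sup_left (α := Subgroup _) (Subgroup.mem_top _)) (by rwa [top_inf_eq]) hs hX
    hn).imp (fun h' => h.equiv_of_le h1 (h2 ▸ hle) (h2 ▸ h')) ?_
  · rw [← H25.Tv3.mem_iff_pow_card, ← hk, pow_succ, hc, one_mul]
  · rintro ⟨a1, a2, c, a3, a4⟩
    refine ⟨a1, fun m hm => three_dvd_of_pow a3 a4 (by omega) (by rw [← pow_succ, hk]) hm, ?_⟩
    obtain ⟨L, hL, e⟩ := h.exists_sub h1 (h2 ▸ hle)
    exact ⟨L, by rw [hL, h2, a2], e⟩

theorem Cov.su_cases (h : Cov X π) (hX : X ≤ specialLinear (Fin 3) F) (hle : P ≤ X) (hn : Nrm X P)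
    (hs : gspan P = ⊤) {q : ℕ} (hq : Nat.card k = q ^ 2)
    (hP : IsConjSub P k (GU 3 k q ⊓ specialLinear (Fin 3) k)) :
    Nonempty (Γ ≃* PSU 3 k q) ∨ (3 ∣ q + 1 ∧ (∀ m, Nat.card k ^ m = Nat.card F → 3 ∣ m) ∧
      ∃ L : Subgroup Γ, L.index = 3 ∧ Nonempty (L ≃* PSU 3 k q)) := by
  obtain ⟨B, hP⟩ := hP
  rw [Subgroup.map_map] at hP
  have := Fintype.ofFinite k
  have hk := Nat.card_eq_fintype_card.symm.trans hq
  have hq2 := H59.two_le_q hk
  obtain ⟨r, rfl⟩ : ∃ r, q = r + 1 := ⟨q - 1, by omega⟩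
  have hr : (r + 1) ^ 2 = (r + 1 + 1) * r + 1 := by ring
  have h1 : Cv ((emb k B).comp (SpecialLinearGroup.toGL.comp (SU 3 k (r + 1)).subtype))
      (QuotientGroup.mk' (Subgroup.center (SU 3 k (r + 1)))) :=
    ⟨QuotientGroup.mk'_surjective _, fun g => (QuotientGroup.eq_one_iff g).trans
      (((H59.mem_center_SU_iff hk (by decide) g).trans ⟨fun ⟨_, ha⟩ => mem_scalars_of_eq_smul ha,
        fun ha => mem_bot_iff_smul.1 (coe_mem_bot_iff.2 ha)⟩).trans emb_mem_scalars.symm)⟩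
  have h2 : ((emb k B).comp (SpecialLinearGroup.toGL.comp (SU 3 k (r + 1)).subtype)).range = P := by
    rw [MonoidHom.range_comp, hP]
    congr 1
    ext g
    refine ⟨?_, fun h => ⟨⟨⟨g, mem_specialLinear.1 h.2⟩, h.1⟩, Units.ext rfl⟩⟩
    rintro ⟨g, rfl⟩
    exact ⟨g.2, mem_specialLinear.2 g.1.2⟩
  let U := uFrm hk 3
  have hσ : ∀ x, U.σ x = x ^ (r + 1) := H59.frob_apply hk
  have hsc : ∀ (c : kˣ) (g : GL (Fin 3) k) (a : k), U.adj g = a • (g⁻¹).1 →
      (g * scal (Fin 3) c ∈ GU 3 k (r + 1) ↔ a * c ^ (r + 1 + 1) = 1) := fun c g a ha => by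
    refine U.mem_Iso_iff_adj.trans ?_
    rw [_root_.mul_inv_rev, ← scal_inv, Units.val_mul, Units.val_mul, coe_scal, coe_scal,
      mul_smul_comm, mul_one, smul_mul_assoc, one_mul, U.adj_smul, ha, smul_smul, hσ,
      (smul_left_injective k (Units.ne_zero _)).eq_iff, Units.val_inv_eq_inv_val,
      ← mul_eq_one_iff_eq_inv₀ c.ne_zero]
    rw [pow_succ _ (r + 1)]
    constructor <;> intro h <;> linear_combination h
  refine (sub_cases (T := GU 3 k (r + 1)) (B := B) (e := r + 1 + 1) (fun c hc => ?_) (fun c => ?_)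
    (fun g hg => ?_) (fun hs g hg => ?_) hP hs hX hn).imp
    (fun h' => h.equiv_of_le h1 (h2 ▸ hle) (h2 ▸ h')) ?_
  · rw [← H25.Tv3.mem_iff_pow_card, hq, hr, pow_succ, pow_mul, hc, one_pow, one_mul]
  · have := hsc c 1 1 (by simp)
    rwa [one_mul, one_mul, ← Units.val_pow_eq_pow_val, Units.val_eq_one] at this
  · have := congrArg Matrix.det (U.mem_Iso_iff_adj.1 hg)
    rw [U.det_adj, hσ] at this
    rw [pow_succ, this, ← det_mul, Units.inv_mul, det_one]
  · obtain ⟨a, ha0, ha⟩ := U.exists_adj_of_sim (U.le_sim_of_nrm (H := Subgroup.normalizer _)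
      hs inf_le_left (fun _ hx _ hy => (Subgroup.mem_normalizer_iff.1 hx _).1 hy)
      (Subgroup.mem_normalizer_fintype hg))
    have ha' : a ^ (r + 1) = a := by
      have e := congrArg U.adj (congrArg (· * g.1) ha)
      simp only [smul_mul_assoc, Units.inv_mul] at e
      rw [U.adj_mul, U.adj_adj, U.adj_smul, U.adj_one, hσ, ha, smul_mul_assoc, Units.inv_mul] at e
      exact (smul_left_injective k one_ne_zero e).symm
    obtain ⟨x, hx⟩ := H59.exists_norm_eq hk ha'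
    have hx0 : x ≠ 0 := by rintro rfl; exact ha0 (hx.symm.trans (zero_pow (by omega)))
    exact mem_sup_scalars.2 ⟨_, (hsc (Units.mk0 x hx0)⁻¹ g a ha).2 (by simp [hx, ha0]), _,
      scal_mem (Units.mk0 x hx0), by rw [mul_assoc, ← scal_mul, inv_mul_cancel]; exact mul_one _⟩
  · rintro ⟨a1, a2, c, a3, a4⟩
    refine ⟨a1, fun m hm => three_dvd_of_pow a3 a4 (by
      rw [hq, hr, Nat.add_mod, Nat.mul_mod, Nat.mod_eq_zero_of_dvd a1]; simp) (by
      rw [hq, hr, pow_succ, pow_mul, pow_eq_pow_mod r a4, show r % 3 = 1 by omega, pow_one]) hm, ?_⟩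
    obtain ⟨L, hL, e⟩ := h.exists_sub h1 (h2 ▸ hle)
    exact ⟨L, by rw [hL, h2, a2], e⟩

end H19
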