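import Cfsg.Agent.H76.LW3

/-! Homogeneous groups: tools for the Livingstone–Wagner theorem. -/

set_option autoImplicit false

namespace H19.LW

open MulAction H76 H76.LW Equiv
open scoped Pointwise

variable {G Ω : Type*} [Group G] [MulAction G Ω] [DecidableEq Ω] {m k : ℕ}

/-- transitive on `m`-subsets -/
def Hom (G Ω : Type*) [Group G] [MulAction G Ω] [DecidableEq Ω] (m : ℕ) : Prop :=
  ∀ s t : Finset Ω, s.card = m → t.card = m → ∃ g : G, g • s = t

theorem ex_tau (hh : Hom G Ω m) (x y : Fin m ↪ Ω) :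
    ∃ (h : G) (τ : Perm (Fin m)), ∀ i, h • x i = y (τ i) := by
  obtain ⟨h, e⟩ := hh (Finset.univ.map x) (Finset.univ.map y) (by simp) (by simp)
  have h1 : ∀ i, ∃ j, y j = h • x i := fun i => by
    have : h • x i ∈ Finset.univ.map y := e ▸ Finset.smul_mem_smul_finset (by simp)
    obtain ⟨j, -, hj⟩ := Finset.mem_map.1 this
    exact ⟨j, hj⟩
  choose f hf using h1
  have hi : Function.Injective f := fun i j e => x.injective (MulAction.injective h (by
    show h • x i = h • x j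
    rw [← hf, ← hf, e]))
  exact ⟨h, Equiv.ofBijective f (Finite.injective_iff_bijective.1 hi), fun i => (hf i).symm⟩

theorem tr_of_odd (hh : Hom G Ω m) (x : Fin m ↪ Ω)
    (hx : ∀ σ : Perm (Fin m), Perm.sign σ = 1 → ∃ g : G, Ind x σ g) (y : Fin m ↪ Ω)
    {ρ : Perm (Fin m)} (hρ : Perm.sign ρ = -1) {g : G} (hg : Ind y ρ g) :
    IsMultiplyPretransitive G Ω m := by
  obtain ⟨h, τ, e⟩ := ex_tau hh x y
  have h1 : Ind x (τ⁻¹ * ρ * τ) (h⁻¹ * g * h) := fun i => by
    rw [mul_smul, mul_smul, e, hg, inv_smul_eq_iff, e]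
    simp
  have h2 : ∀ σ : Perm (Fin m), ∃ g : G, Ind x σ g := fun σ => by
    rcases Int.units_eq_one_or (Perm.sign σ) with hs | hs
    · exact hx σ hs
    · obtain ⟨g', hg'⟩ := hx ((τ⁻¹ * ρ * τ)⁻¹ * σ) (by
        simp only [map_mul, map_inv, hρ, hs]
        rcases Int.units_eq_one_or (Perm.sign τ) with h | h <;> simp [h])
      exact ⟨_, by have := h1.mul hg'; rwa [mul_inv_cancel_left] at this⟩
  have h3 : ∀ z : Fin m ↪ Ω, ∃ g : G, ∀ i, g • x i = z i := fun z => by
    obtain ⟨h', τ', e'⟩ := ex_tau hh x z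
    obtain ⟨g', hg'⟩ := h2 τ'⁻¹
    exact ⟨h' * g', fun i => by rw [mul_smul, hg', e']; simp⟩
  refine tr_of fun z w => ?_
  obtain ⟨a, ha⟩ := h3 z
  obtain ⟨b, hb⟩ := h3 w
  exact ⟨b * a⁻¹, fun i => by rw [mul_smul, ← ha, inv_smul_smul, hb]⟩

theorem tr_of_swap (hh : Hom G Ω (k + 1)) (hG : Good G Ω k) (s : Finset Ω) (hs : s.card = k + 1)
    {a b : Ω} (ha : a ∈ s) (hb : b ∈ s) (hab : a ≠ b) {g : G} (h1 : g • a = b) (h2 : g • b = a)
    (h3 : ∀ x ∈ s, x ≠ a → x ≠ b → g • x = x) : IsMultiplyPretransitive G Ω (k + 1) := by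
  obtain ⟨x, hx⟩ := hG
  let e := s.equivFinOfCardEq hs
  let y : Fin (k + 1) ↪ Ω := e.symm.toEmbedding.trans (Function.Embedding.subtype _)
  have hy : ∀ z : s, y (e z) = z := fun z => by simp [y]
  have hne : e ⟨a, ha⟩ ≠ e ⟨b, hb⟩ := fun h => hab (congrArg Subtype.val (e.injective h))
  refine tr_of_odd hh x hx y (Perm.sign_swap hne) (g := g) fun l => ?_
  obtain ⟨z, rfl⟩ := e.surjective l
  by_cases e1 : z = ⟨a, ha⟩
  · rw [e1, swap_apply_left, hy, hy, h1]
  by_cases e2 : z = ⟨b, hb⟩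
  · rw [e2, swap_apply_right, hy, hy, h2]
  rw [swap_apply_of_ne_of_ne (e.injective.ne e1) (e.injective.ne e2), hy]
  exact h3 _ z.2 (fun h => e1 (Subtype.ext h)) (fun h => e2 (Subtype.ext h))

omit [DecidableEq Ω] in
theorem smul_smul_of_sq {g : G} (gg : g * g = 1) (a : Ω) : g • g • a = a := by
  rw [← mul_smul, gg, one_smul]

/-- a 2-cycle of an involution together with fixed points -/
theorem card_two_cycle {g : G} (gg : g * g = 1) {a : Ω} (ha : g • a ≠ a) {T : Finset Ω}
    (hT : ∀ x ∈ T, g • x = x) : (insert a (insert (g • a) T)).card = T.card + 2 := by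
  have h1 : g • a ∉ T := fun h => ha ((hT _ h).symm.trans (smul_smul_of_sq gg a))
  have h2 : a ∉ insert (g • a) T := fun h => by
    rcases Finset.mem_insert.1 h with h | h
    · exact ha h.symm
    · exact ha (hT _ h)
  rw [Finset.card_insert_of_notMem h2, Finset.card_insert_of_notMem h1]

theorem smul_two_cycle {g : G} (gg : g * g = 1) (a : Ω) {T : Finset Ω}
    (hT : ∀ x ∈ T, g • x = x) : g • insert a (insert (g • a) T) = insert a (insert (g • a) T) := by
  have : g • T = T := by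
    ext x
    rw [Finset.mem_smul_finset]
    exact ⟨by rintro ⟨y, hy, rfl⟩; rwa [hT y hy], fun h => ⟨x, h, hT x h⟩⟩
  rw [Finset.smul_finset_insert, Finset.smul_finset_insert, this, smul_smul_of_sq gg,
    Finset.insert_comm]

/-- `k`-transitive with `k ≥ 4`, `(k+1)`-homogeneous but not `(k+1)`-transitive: a 3-cycle -/
theorem big [Finite G] [Finite Ω] (fa : ∀ g : G, (∀ x : Ω, g • x = x) → g = 1)
    (ht : IsMultiplyPretransitive G Ω k) (hk : 4 ≤ k) (hn : k + 1 ≤ Nat.card Ω)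
    (hh : Hom G Ω (k + 1)) (hnt : ¬ IsMultiplyPretransitive G Ω (k + 1)) :
    T3 G Ω ∧ Nat.card Ω ≤ k + 3 := by
  have hG := good ht hk hn
  have key : ∀ g : G, g * g = 1 → ∀ a : Ω, g • a ≠ a → ∀ T : Finset Ω, T.card = k - 1 →
      (∀ x ∈ T, g • x = x) → False := fun g gg a ha T hT hf => by
    refine hnt (tr_of_swap hh hG (insert a (insert (g • a) T))
      (by rw [card_two_cycle gg ha hf]; omega) (a := a) (b := g • a) (by simp) (by simp) ha.symm
      rfl (smul_smul_of_sq gg a) fun x hx h1 h2 => hf x ?_)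
    simpa [h1, h2] using hx
  have hok : Ok G Ω k := ⟨ht, fa, fun x g hg => by
    rw [← Nat.not_even_iff_odd]
    rintro ⟨j, hj⟩
    have hpos := orderOf_pos g
    have g1 : g ^ j ≠ 1 := pow_ne_one_of_lt_orderOf (by omega) (by omega)
    obtain ⟨a, ha⟩ : ∃ a : Ω, g ^ j • a ≠ a := by
      by_contra hne
      push Not at hne
      exact g1 (fa _ hne)
    obtain ⟨T, hT, hc⟩ := Finset.exists_subset_card_eq (s := Finset.univ.map x) (n := k - 1)
      (by simp)
    refine key (g ^ j) (by rw [← pow_add, ← hj, pow_orderOf_eq_one]) a ha T hc fun z hz => ?_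
    obtain ⟨i, -, rfl⟩ := Finset.mem_map.1 (hT hz)
    exact (stabilizer G (x i)).pow_mem (hg i) j⟩
  obtain ⟨k, rfl⟩ := Nat.exists_eq_add_of_le' hk
  rcases Ok.cases k G Ω hok (by omega) with h | ⟨hS, hc⟩
  · exact ⟨h.1, by omega⟩
  exfalso
  obtain ⟨x⟩ : Nonempty (Fin (k + 4) ↪ Ω) := exists_emb_fin (by omega)
  have hij : (0 : Fin (k + 4)) ≠ 1 := by simp
  obtain ⟨g, hg⟩ := ex_ind ht x (swap 0 1)
  have gg : g * g = 1 := ind_eq hS (by simpa using hg.mul hg) (ind_one x)
  obtain ⟨a, ha, ga⟩ := ex_out (by omega) hij gg hg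
  refine key g gg (x 0) (by rw [hg, swap_apply_left]; exact x.injective.ne hij.symm)
    (insert a (((Finset.univ.erase 0).erase 1).map x)) ?_ fun z hz => ?_
  · rw [Finset.card_insert_of_notMem, card_rest x hij]
    · omega
    · intro h
      obtain ⟨i, -, hi⟩ := Finset.mem_map.1 h
      exact ha ⟨i, hi⟩
  · rcases Finset.mem_insert.1 hz with rfl | hz
    · exact ga
    obtain ⟨i, hi, rfl⟩ := Finset.mem_map.1 hz
    simp only [Finset.mem_erase] at hi
    rw [hg, swap_apply_of_ne_of_ne hi.2.1 hi.1]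

theorem card_eq_choose [Fintype Ω] (hh : Hom G Ω m) (s : Finset Ω) (hs : s.card = m) :
    Nat.card G = (Fintype.card Ω).choose m * Nat.card (stabilizer G s) := by
  rw [H89.card_eq_card_orbit_mul_card_stabilizer (G := G) s]
  congr 1
  have : orbit G s = ↑(Finset.powersetCard m (Finset.univ : Finset Ω)) := by
    ext t
    simp only [Finset.mem_coe, Finset.mem_powersetCard,
      Finset.subset_univ, true_and]
    exact ⟨by rintro ⟨g, rfl⟩; simpa using hs, fun h => hh s t hs h⟩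
  rw [this, Nat.card_coe_set_eq, Set.ncard_coe_finset, Finset.card_powersetCard, Finset.card_univ]

theorem card_fix_hom (hh : Hom G Ω m) (s t : Finset Ω) (hs : s.card = m) (ht : t.card = m) :
    Nat.card (fixingSubgroup G (s : Set Ω)) = Nat.card (fixingSubgroup G (t : Set Ω)) := by
  obtain ⟨g, rfl⟩ := hh s t hs ht
  rw [Finset.coe_smul_finset, SubMulAction.fixingSubgroup_smul_eq_fixingSubgroup_map_conj]
  exact (Subgroup.card_map_of_injective (MulAut.conj g).injective).symm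

omit [DecidableEq Ω] in
/-- the number of orbits of a group acting semiregularly on `m`-tuples -/
theorem ex_orbits [Fintype Ω] (hf : ∀ x : Fin m ↪ Ω, stabilizer G x = ⊥)
    (hnt : ¬ IsMultiplyPretransitive G Ω m) :
    ∃ r, r ≠ 1 ∧ r * Nat.card G = (Fintype.card Ω).descFactorial m := by
  classical
  have h := Nat.card_congr (selfEquivOrbitsQuotientProd hf)
  rw [Nat.card_prod, Nat.card_eq_fintype_card (α := Fin m ↪ Ω), Fintype.card_embedding_eq,
    Fintype.card_fin] at h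
  refine ⟨_, fun h1 => hnt ⟨fun x y => ?_⟩, h.symm⟩
  have := (Nat.card_eq_one_iff_unique.1 h1).1
  exact (Quotient.exact (Subsingleton.elim (Quotient.mk (orbitRel G _) y)
    (Quotient.mk (orbitRel G _) x)) : orbitRel G _ y x)

omit [DecidableEq Ω] in
theorem count [Finite G] [Fintype Ω] (hf : ∀ x : Fin m ↪ Ω, stabilizer G x = ⊥) {p c : ℕ}
    (hp : p.Prime) (hkp : m ≤ p) (hk : m ≤ Fintype.card Ω) (h2 : Fintype.card Ω < 2 * p)
    (hG : Nat.card G = p * c) (hc : ¬ p ∣ c) : ∃ d, d ∣ p - 1 ∧ d ∣ c ∧ (c / d) % p = 1 := by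
  have : Fact p.Prime := ⟨hp⟩
  obtain ⟨P⟩ : Nonempty (Sylow p G) := inferInstance
  have hP := sylow_card_eq_prime hG hc P
  rw [← Nat.card_eq_fintype_card] at hk h2
  obtain ⟨n, d, h3, h4, h5, -⟩ := sylow_prime_count P hP
    (centralizer_eq_of_prime hp hf hkp hk h2 _ hP)
  have h6 : c = n * d := Nat.eq_of_mul_eq_mul_left hp.pos (by rw [← hG, h5]; ring)
  have hd : 0 < d := Nat.pos_of_dvd_of_pos h4 (by have := hp.two_le; omega)
  exact ⟨d, h4, h6 ▸ Dvd.intro_left _ rfl, by rw [h6, Nat.mul_div_cancel _ hd, h3]⟩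

/-- an involution fixing a `j`-tuple stabilises a `(j+1)`-set -/
theorem two_dvd [Finite G] [Finite Ω] {j : ℕ} (hj : 1 ≤ j)
    (fa : ∀ g : G, (∀ x : Ω, g • x = x) → g = 1) (x : Fin j ↪ Ω)
    (h : 2 ∣ Nat.card (stabilizer G x)) :
    ∃ s : Finset Ω, s.card = j + 1 ∧ 2 ∣ Nat.card (stabilizer G s) := by
  have : Fact (Nat.Prime 2) := ⟨Nat.prime_two⟩
  obtain ⟨⟨g, hg⟩, ho⟩ := exists_prime_orderOf_dvd_card' 2 h
  rw [Subgroup.orderOf_mk] at ho
  rw [mem_stabilizer_emb_iff] at hg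
  have gg : g * g = 1 := by rw [← sq, ← ho, pow_orderOf_eq_one]
  obtain ⟨a, ha⟩ : ∃ a : Ω, g • a ≠ a := by
    by_contra hne
    push Not at hne
    rw [fa _ hne, orderOf_one] at ho
    omega
  obtain ⟨T, hT, hc⟩ := Finset.exists_subset_card_eq (s := Finset.univ.map x) (n := j - 1)
    (by simp)
  have hf : ∀ z ∈ T, g • z = z := fun z hz => by
    obtain ⟨i, -, rfl⟩ := Finset.mem_map.1 (hT hz)
    exact hg i
  refine ⟨_, by rw [card_two_cycle gg ha hf]; omega, ?_⟩
  rw [← ho]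
  exact Subgroup.orderOf_dvd_natCard _ (smul_two_cycle gg a hf)

/-- no sharply 3-transitive group of degree 7 -/
theorem not_sharp_seven [Fintype Ω] (hS : SharpT G Ω 3) (hn : Fintype.card Ω = 7) : False := by
  obtain ⟨x⟩ : Nonempty (Fin 3 ↪ Ω) := exists_emb_fin (by rw [Nat.card_eq_fintype_card]; omega)
  obtain ⟨t, ht⟩ := ex_ind hS.1 x (swap 0 1)
  obtain ⟨u, hu⟩ := ex_ind hS.1 x (swap 0 1 * swap 1 2)
  have tt : t * t = 1 := ind_eq hS (by simpa using ht.mul ht) (ind_one x)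
  have uu : u * u * u = 1 := ind_eq hS ((hu.mul hu).mul hu)
    (by rw [show swap (0 : Fin 3) 1 * swap 1 2 * (swap 0 1 * swap 1 2) * (swap 0 1 * swap 1 2) = 1
      by decide]; exact ind_one x)
  have ut : u * t * u = t := ind_eq hS ((hu.mul ht).mul hu)
    (by rw [show swap (0 : Fin 3) 1 * swap 1 2 * swap 0 1 * (swap 0 1 * swap 1 2) = swap 0 1
      by decide]; exact ht)
  have le2 : ∀ g : G, g ≠ 1 → (Finset.univ.filter fun z : Ω => g • z = z).card ≤ 2 :=
    fun g g1 => by
      by_contra h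
      refine g1 (eq_one_of_fix_set hS.2 ↑(Finset.univ.filter fun z : Ω => g • z = z)
        (Finset.finite_toSet _) (by rw [Set.ncard_coe_finset]; omega) fun a ha => ?_)
      simpa using ha
  have : Fact (Nat.Prime 3) := ⟨Nat.prime_three⟩
  have h3 : (Finset.univ.filter fun z : Ω => u • z = z).card % 3 = Fintype.card Ω % 3 := by
    have := Equiv.Perm.card_compl_support_modEq (p := 3) (n := 1) (σ := toPermHom G Ω u)
      (by rw [← map_pow, pow_one, pow_succ, sq, uu, map_one])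
    rw [← this]
    congr 2
    ext x
    simp
  have h4 := le2 u (hu.ne_one (by decide))
  obtain ⟨δ, hδ⟩ := Finset.card_eq_one.1
    (show (Finset.univ.filter fun z : Ω => u • z = z).card = 1 by omega)
  have hm : ∀ z, u • z = z ↔ z = δ := fun z => by
    rw [← Finset.mem_singleton (a := δ), ← hδ]; simp
  have uδ := (hm δ).2 rfl
  have tδ : t • δ = δ := (hm _).1 (by
    conv_rhs => rw [← ut]
    rw [mul_smul, mul_smul, uδ])
  have h5 := le2 t (ht.ne_one (by decide))
  have h6 := card_fix_mod (Ω := Ω) tt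
  have h7 : ({δ, x 2} : Finset Ω) ⊆ Finset.univ.filter fun z : Ω => t • z = z := by
    intro z hz
    rcases Finset.mem_insert.1 hz with rfl | hz
    · simpa using tδ
    · rw [Finset.mem_singleton.1 hz, Finset.mem_filter, ht]
      exact ⟨Finset.mem_univ _, congrArg x (by decide)⟩
  have h8 := Finset.card_le_card h7
  rw [Finset.card_pair] at h8
  · omega
  · rintro rfl
    rw [hu] at uδ
    exact absurd (x.injective uδ) (by decide)

end H19.LW
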