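/- LOC2 (S3297), part A: local group theory under hypotheses (a), (b). -/
import Cfsg.Agent.H87.PairA
import Cfsg.Agent.H7.NPC
import Cfsg.Agent.H9.PBasic
import Cfsg.Agent.H2.PrimeCore

set_option autoImplicit false
set_option linter.unusedSectionVars false
set_option linter.unusedVariables false

namespace H19.Loc2

open Cfsg Subgroup H41

variable {G : Type*} [Group G] [Finite G] {p : ℕ} [hp : Fact p.Prime]

/-- hypotheses (a), (b) and `O_{p'}(G) = 1` -/
structure Hy (P : Sylow p G) : Prop where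
  core : pPrimeCore p G = ⊥
  ha : ∀ x ∈ (P : Subgroup G), ∀ y ∈ (P : Subgroup G), (∃ g : G, g * x * g⁻¹ = y) →
    ∃ n ∈ normalizer ((P : Subgroup G) : Set G), n * x * n⁻¹ = y
  hb : ∀ x ∈ (P : Subgroup G), orderOf x = p → HasNormalPComplement p (centralizer ({x} : Set G))

/-- the normaliser of `P` -/
abbrev NN (P : Sylow p G) : Subgroup G := normalizer ((P : Subgroup G) : Set G)
/-- the centraliser of `P` -/
abbrev CC (P : Sylow p G) : Subgroup G := centralizer ((P : Subgroup G) : Set G)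

theorem ppart (g : G) : ∃ y w : G, g = y * w ∧ y * w = w * y ∧ (∃ k, y ^ p ^ k = 1) ∧ ¬ p ∣ orderOf w ∧
    ∀ H : Subgroup G, g ∈ H → y ∈ H ∧ w ∈ H := by
  obtain ⟨y, hy⟩ := exists_isPPart hp.out g
  have hm := fun (H : Subgroup G) (hg : g ∈ H) => mem_of_isPPart hp.out hy hg
  obtain ⟨w, rfl, hc, ⟨k, hk⟩, hw⟩ := hy
  exact ⟨y, w, rfl, hc.eq, ⟨k, hk ▸ pow_orderOf_eq_one y⟩, hw, fun H hg =>
    ⟨hm H hg, (H.mul_mem_cancel_left (hm H hg)).1 hg⟩⟩

theorem pg_zpowers {y : G} (h : ∃ k, y ^ p ^ k = 1) : IsPGroup p (zpowers y) := by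
  obtain ⟨k, hk⟩ := h
  rintro ⟨_, j, rfl⟩
  refine ⟨k, Subtype.ext ?_⟩
  show (y ^ j) ^ p ^ k = 1
  rw [← zpow_natCast, ← zpow_mul, mul_comm j, zpow_mul, zpow_natCast, hk, one_zpow]

theorem pel_of_mem (P : Sylow p G) {u : G} (hu : u ∈ (P : Subgroup G)) : ∃ k, u ^ p ^ k = 1 :=
  (P.2 ⟨u, hu⟩).imp fun k hk => congrArg Subtype.val hk

theorem ord_of_mem (P : Sylow p G) {u : G} (hu : u ∈ (P : Subgroup G)) : ∃ k, orderOf u = p ^ k := by
  obtain ⟨k, hk⟩ := pel_of_mem P hu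
  obtain ⟨j, -, hj⟩ := (Nat.dvd_prime_pow hp.out).1 (orderOf_dvd_of_pow_eq_one hk)
  exact ⟨j, hj⟩

theorem eq_one_of_pel {y : G} (h : ∃ k, y ^ p ^ k = 1) (h' : ¬ p ∣ orderOf y) : y = 1 := by
  obtain ⟨k, hk⟩ := h
  exact orderOf_eq_one_iff.1 (Nat.Coprime.eq_one_of_dvd
    ((hp.out.coprime_iff_not_dvd.2 h').symm.pow_right k) (orderOf_dvd_of_pow_eq_one hk))

theorem mem_of_nor (P : Sylow p G) {y : G} (h : ∃ k, y ^ p ^ k = 1) (hy : y ∈ NN P) : y ∈ (P : Subgroup G) :=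
  (((pg_zpowers h).inf_normalizer_sylow P).le ⟨mem_zpowers y, hy⟩).2

theorem conj_mem (P : Sylow p G) {n x : G} (hn : n ∈ NN P) (hx : x ∈ (P : Subgroup G)) :
    n * x * n⁻¹ ∈ (P : Subgroup G) := (mem_normalizer_iff.1 hn x).1 hx

theorem exists_conj_le (P : Sylow p G) {T : Subgroup G} (hT : IsPGroup p T) :
    ∃ g : G, ∀ x ∈ T, g * x * g⁻¹ ∈ (P : Subgroup G) := by
  obtain ⟨S, hS⟩ := hT.exists_le_sylow
  obtain ⟨g, rfl⟩ := MulAction.exists_smul_eq G S P
  exact ⟨g, fun x hx => ⟨x, hS hx, rfl⟩⟩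

theorem mem_of_pel (P : Sylow p G) {L : Subgroup G} [hL : L.Normal] (hP : (P : Subgroup G) ≤ L) {y : G}
    (h : ∃ k, y ^ p ^ k = 1) : y ∈ L := by
  obtain ⟨g, hg⟩ := exists_conj_le P (pg_zpowers h)
  simpa [mul_assoc] using hL.conj_mem _ (hP (hg y (mem_zpowers y))) g⁻¹

/-- a `p'`-element of a `p`-nilpotent group normalising a `p`-subgroup centralises it -/
theorem cen_of_npc {X Q : Subgroup G} (hX : HasNormalPComplement p X) (hQ : Q ≤ X) (hpQ : IsPGroup p Q) {w : G}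
    (hw : w ∈ X) (hn : w ∈ normalizer (Q : Set G)) (ho : ¬ p ∣ orderOf w) : w ∈ centralizer (Q : Set G) :=
  H7.mem_centralizer_of_hasNPC (H := X ⊓ normalizer (Q : Set G)) (H7.hasNPC_of_le inf_le_left hX)
    (le_inf hQ le_normalizer) inf_le_right hpQ ⟨hw, hn⟩ (hp.out.coprime_iff_not_dvd.2 ho).symm

theorem comm_surj (P : Subgroup G) {w : G} (hn : ∀ x ∈ P, w * x * w⁻¹ ∈ P)
    (hf : ∀ x ∈ P, w * x = x * w → x = 1) {y : G} (hy : y ∈ P) : ∃ x ∈ P, x⁻¹ * (w * x * w⁻¹) = y := by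
  obtain ⟨x, hx⟩ := Finite.surjective_of_injective
    (f := fun x : P => (⟨x⁻¹ * (w * x * w⁻¹), mul_mem (inv_mem x.2) (hn x x.2)⟩ : P)) (fun a b e => by
      have e' : (a : G)⁻¹ * (w * a * w⁻¹) = (b : G)⁻¹ * (w * b * w⁻¹) := congrArg Subtype.val e
      refine Subtype.ext (mul_inv_eq_one.1 (hf _ (mul_mem a.2 (inv_mem b.2)) ?_))
      calc w * (a * (b : G)⁻¹) = a * ((a : G)⁻¹ * (w * a * w⁻¹)) * w * (b : G)⁻¹ := by group
        _ = _ := by rw [e']; group) ⟨y, hy⟩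
  exact ⟨x, x.2, congrArg Subtype.val hx⟩

/-- Frattini argument in a `p`-nilpotent subgroup -/
theorem frat (P : Sylow p G) {L X R : Subgroup G} [L.Normal] (hP : (P : Subgroup G) ≤ L)
    (hX : HasNormalPComplement p X) (hR : R ≤ X) (hpR : IsPGroup p R) {c : G} (hc : c ∈ X) :
    ∃ w ∈ centralizer (R : Set G), w⁻¹ * c ∈ L := by
  obtain ⟨Q, hQ⟩ := (hpR.comap_subtype (K := X)).exists_le_sylow
  have h1 := Q.normalizer_sup_eq_top' (N := L.subgroupOf X) fun x hx =>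
    mem_of_pel P hP ((pel_of_mem Q hx).imp fun k hk => congrArg Subtype.val hk)
  obtain ⟨n, hn, l, hl, e⟩ := mem_sup_of_normal_right.1 (h1.ge (mem_top ⟨c, hc⟩))
  obtain ⟨y, w, rfl, hyw, hy, hw, hm⟩ := ppart (p := p) n
  have h2 := cen_of_npc (X := ⊤) (H7.hasNPC_top_iff.2 hX) le_top Q.2 (mem_top w) (hm _ hn).2 hw
  refine ⟨w, fun r hr => congrArg Subtype.val (h2 ⟨r, hR hr⟩ (hQ hr)), ?_⟩
  rw [show c = ((w * y * l : X) : G) by rw [← hyw, e]]
  simpa [mul_assoc] using L.mul_mem (mem_of_pel P hP (hy.imp fun k hk => congrArg Subtype.val hk)) hl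

theorem exists_center (P : Sylow p G) {W : Subgroup G} (hn : (P : Subgroup G) ≤ normalizer (W : Set G))
    (h : W ⊓ P ≠ ⊥) : ∃ z ∈ W, z ∈ (P : Subgroup G) ∧ z ∈ CC P ∧ orderOf z = p := by
  have : (W.subgroupOf P).Normal := normal_subgroupOf_of_le_normalizer hn
  obtain ⟨z, hz, hc, ho⟩ := H9.exists_mem_center_orderOf_eq P.2 (K := W.subgroupOf P) fun e =>
    h (by rw [← subgroupOf_map_subtype, e, Subgroup.map_bot])
  exact ⟨z, hz, z.2, fun x hx => congrArg Subtype.val (mem_center_iff.1 hc ⟨x, hx⟩), by simpa using ho⟩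

theorem exists_center' (P : Sylow p G) {u : G} (hu : u ∈ (P : Subgroup G)) (h1 : u ≠ 1) :
    ∃ z ∈ (P : Subgroup G), z ∈ CC P ∧ orderOf z = p := by
  obtain ⟨z, -, h⟩ := exists_center P (W := P) le_normalizer (by
    rw [inf_idem]; exact fun e => h1 (mem_bot.1 (e ▸ hu)))
  exact ⟨z, h⟩

namespace Hy
variable {P : Sylow p G} (h : Hy P)
include h

theorem npc {u : G} (hu : u ∈ (P : Subgroup G)) (h1 : u ≠ 1) :
    HasNormalPComplement p (centralizer ({u} : Set G)) := by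
  obtain ⟨k, hk⟩ := ord_of_mem P hu
  obtain ⟨j, rfl⟩ : ∃ j, k = j + 1 := Nat.exists_eq_succ_of_ne_zero (by rintro rfl; simp_all)
  refine H7.hasNPC_of_le (fun x hx => ?_) (h.hb (u ^ p ^ j) (pow_mem hu _) ?_)
  · rw [mem_centralizer_singleton_iff] at hx ⊢
    exact (Commute.pow_right hx _).eq
  · rw [orderOf_pow' _ (pow_ne_zero _ hp.out.ne_zero), hk, Nat.gcd_eq_right (pow_dvd_pow _ j.le_succ), pow_succ,
      Nat.mul_div_cancel_left _ (pow_pos hp.out.pos _)]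

/-- F1 -/
theorem sylow_cent {u : G} (hu : u ∈ (P : Subgroup G)) :
    p ^ (Nat.card (centralizer ({u} : Set G))).factorization p ≤
      Nat.card ((P : Subgroup G) ⊓ centralizer ({u} : Set G) : Subgroup G) := by
  obtain ⟨T, hT⟩ := ((pg_zpowers (pel_of_mem P hu)).comap_subtype
    (K := centralizer ({u} : Set G))).exists_le_sylow
  obtain ⟨g, hg⟩ := exists_conj_le P (T.2.map (centralizer ({u} : Set G)).subtype)
  obtain ⟨n, hn, e⟩ := h.ha u hu _ (hg u ⟨⟨u, mem_centralizer_singleton_iff.2 rfl⟩, hT (mem_zpowers u), rfl⟩)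
    ⟨g, rfl⟩
  rw [← T.card_eq_multiplicity]
  refine Nat.card_le_card_of_injective (fun x => ⟨n⁻¹ * (g * x.1 * g⁻¹) * n⁻¹⁻¹,
    conj_mem P (inv_mem hn) (hg _ ⟨x.1, x.2, rfl⟩), ?_⟩) fun x y e => ?_
  · have := mem_centralizer_singleton_iff.1 x.1.2
    refine mem_centralizer_singleton_iff.2 ?_
    calc _ = n⁻¹ * g * x.1 * g⁻¹ * (n * u * n⁻¹) * n := by group
      _ = n⁻¹ * g * (x.1 * u) * g⁻¹ * n := by rw [e]; group
      _ = n⁻¹ * (g * u * g⁻¹) * g * x.1 * g⁻¹ * n := by rw [this]; group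
      _ = _ := by rw [← e]; group
  · exact Subtype.ext (Subtype.ext (by simpa using e))

theorem cen_of_conj {z : G} (hz : z ∈ (P : Subgroup G)) (hc : z ∈ CC P) {g : G}
    (hg : g * z * g⁻¹ ∈ (P : Subgroup G)) : g * z * g⁻¹ ∈ CC P := by
  obtain ⟨n, hn, e⟩ := h.ha z hz _ hg ⟨g, rfl⟩
  intro x hx
  have := hc _ (conj_mem P (inv_mem hn) hx)
  rw [← e]
  calc _ = n * (n⁻¹ * x * n⁻¹⁻¹ * z) * n⁻¹ := by group
    _ = _ := by rw [this]; group

/-- F3 -/
theorem normal_of_pn (W : Subgroup G) [hW : W.Normal] (hpW : IsPGroup p W) (h1 : W ≠ ⊥) :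
    (P : Subgroup G).Normal := by
  have hWP := hpW.le_sylow_of_normal P
  obtain ⟨z, hz, hzP, hc, ho⟩ := exists_center P (W := W) (le_normalizer_of_normal ..) (by rwa [inf_of_le_left hWP])
  let D := centralizer (normalClosure ({z} : Set G) : Set G)
  have hPD : (P : Subgroup G) ≤ D := by
    rw [le_centralizer_iff]
    refine (closure_le _).2 fun x hx => ?_
    obtain ⟨_, rfl, hx'⟩ := Group.mem_conjugatesOfSet_iff.1 hx
    obtain ⟨g, rfl⟩ := isConj_iff.1 hx'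
    exact h.cen_of_conj hzP hc (hWP (hW.conj_mem _ hz g))
  have hD : HasNormalPComplement p D :=
    H7.hasNPC_of_le (centralizer_le subset_normalClosure) (h.hb z hzP ho)
  have h2 : IsPGroup p D := fun x => by
    obtain ⟨y, w, rfl, -, hy, hw, -⟩ := ppart (p := p) x
    have := (H36.mem_pPrimeCore_iff_of_hasNPC hD).2 hw
    rw [H2.pPrimeCore_eq_subgroupOf, h.core, bot_subgroupOf, mem_bot] at this
    rwa [this, mul_one]
  rw [← P.3 h2 hPD]
  infer_instance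

/-- F4 -/
theorem cen_of_fix {w u : G} (hn : w ∈ NN P) (ho : ¬ p ∣ orderOf w) (hu : u ∈ (P : Subgroup G)) (h1 : u ≠ 1)
    (e : w * u = u * w) : w ∈ CC P := by
  obtain ⟨z, hzP, hc, hz⟩ := exists_center' P hu h1
  have h2 := cen_of_npc (Q := P ⊓ CC P) (h.npc hu h1) (fun x hx => mem_centralizer_singleton_iff.2 (hx.2 u hu).symm)
    (P.2.to_le inf_le_left) (mem_centralizer_singleton_iff.2 e) (mem_normalizer_fintype fun x hx =>
      ⟨conj_mem P hn hx.1, h.cen_of_conj hx.1 hx.2 (conj_mem P hn hx.1)⟩) ho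
  exact cen_of_npc (h.hb z hzP hz) (fun x hx => mem_centralizer_singleton_iff.2 (hc x hx)) P.2
    (mem_centralizer_singleton_iff.2 (h2 z ⟨hzP, hc⟩).symm) hn ho

theorem dec {n u : G} (hn : n ∈ NN P) (hu : u ∈ (P : Subgroup G)) (h1 : u ≠ 1) (e : n * u = u * n) :
    ∃ x ∈ (P : Subgroup G), ∃ c ∈ CC P, n = x * c := by
  obtain ⟨y, w, rfl, -, hy, hw, hm⟩ := ppart (p := p) n
  exact ⟨y, mem_of_nor P hy (hm _ hn).1, w, h.cen_of_fix (hm _ hn).2 hw hu h1
    (mem_centralizer_singleton_iff.1 (hm _ (mem_centralizer_singleton_iff.2 e)).2), rfl⟩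

/-- an element of `N` fixing a nonidentity element of `P` centralises `Z(P)` -/
theorem fix_center {n u z : G} (hn : n ∈ NN P) (hu : u ∈ (P : Subgroup G)) (h1 : u ≠ 1) (e : n * u = u * n)
    (hz : z ∈ (P : Subgroup G)) (hc : z ∈ CC P) : n * z = z * n := by
  obtain ⟨x, hx, c, hc', rfl⟩ := h.dec hn hu h1 e
  rw [mul_assoc, ← hc' z hz, ← mul_assoc, hc x hx, mul_assoc]

/-- F5 -/
theorem le_of_move (L : Subgroup G) [hL : L.Normal] {z n c : G} (hz : z ∈ (P : Subgroup G)) (hc : z ∈ CC P)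
    (hn : n ∈ NN P) (hcz : c * z = z * c) (hl : n * c⁻¹ ∈ L) (hne : n * z ≠ z * n) : (P : Subgroup G) ≤ L := by
  have z1 : z ≠ 1 := by rintro rfl; simp at hne
  obtain ⟨y, hy⟩ := exists_isPPart hp.out n
  obtain ⟨y', hy'⟩ := exists_isPPart hp.out c
  have e0 : (n : G ⧸ L) = c := (QuotientGroup.eq_iff_div_mem.2 (by rwa [div_eq_mul_inv]))
  have e1 : (y : G ⧸ L) = y' := isPPart_unique hp.out (isPPart_map hp.out (QuotientGroup.mk' L) hy)
    (by rw [QuotientGroup.mk'_apply, e0]; exact isPPart_map hp.out (QuotientGroup.mk' L) hy')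
  have yN := mem_of_isPPart hp.out hy hn
  have yC := mem_of_isPPart hp.out hy' (mem_centralizer_singleton_iff.2 hcz)
  obtain ⟨w, rfl, -, ⟨k, hk⟩, hw⟩ := hy
  obtain ⟨w', rfl, -, -, hw'⟩ := hy'
  have e2 : (w : G ⧸ L) = w' := by simpa [e1] using e0
  have wN : w ∈ NN P := (mul_mem_cancel_left yN).1 hn
  have wC : w' ∈ centralizer {z} := (mul_mem_cancel_left yC).1 (mem_centralizer_singleton_iff.2 hcz)
  have yP := mem_of_nor P ⟨k, hk ▸ pow_orderOf_eq_one y⟩ yN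
  intro v hv
  obtain ⟨x, hx, rfl⟩ := comm_surj (P : Subgroup G) (fun x hx => conj_mem P wN hx) (fun x hx e => by
    by_contra h1
    exact hne (by rw [mul_assoc, ← h.cen_of_fix wN hw hx h1 e z hz, ← mul_assoc, hc y yP, mul_assoc])) hv
  have xC : x ∈ centralizer {z} := mem_centralizer_singleton_iff.2 (hc x hx)
  have hN := fun x => H36.mem_pPrimeCore_iff_of_hasNPC (h.npc hz z1) (x := x)
  have m1 : (⟨w', wC⟩ : centralizer {z}) ∈ pPrimeCore p _ := (hN _).2 (by simpa using hw')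
  have m2 := (hN _).1 (mul_mem ((inferInstance : (pPrimeCore p _).Normal).conj_mem _ m1 ⟨x, xC⟩⁻¹) (inv_mem m1))
  rw [← QuotientGroup.eq_one_iff]
  refine eq_one_of_pel (p := p) ((pel_of_mem P hv).imp fun k hk => by
    rw [← QuotientGroup.mk_pow, hk, QuotientGroup.mk_one]) fun hd => m2 ?_
  rw [← orderOf_coe]
  refine hd.trans ((congrArg orderOf ?_).dvd.trans (orderOf_map_dvd (QuotientGroup.mk' L) _))
  simp [e2, mul_assoc]

/-- passage to a normal subgroup containing `P` -/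
theorem subgroup (L : Subgroup G) [hL : L.Normal] (hP : (P : Subgroup G) ≤ L) : Hy (P.subtype hP) where
  core := by rw [H2.pPrimeCore_eq_subgroupOf, h.core, bot_subgroupOf]
  hb x hx ho := H7.hasNPC_of_injective (h.hb x hx (by simpa using ho))
    ((L.subtype.comp (centralizer {x}).subtype).codRestrict _ fun y => mem_centralizer_singleton_iff.2
      (congrArg Subtype.val (mem_centralizer_singleton_iff.1 y.2))) fun a b e =>
    Subtype.ext (Subtype.ext (congrArg (Subtype.val (p := (· ∈ centralizer {(x : G)}))) e))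
  ha := by
    rintro a ha b hb ⟨g, rfl⟩
    by_cases a1 : a = 1
    · exact ⟨1, one_mem _, by simp [a1]⟩
    have a1' : (a : G) ≠ 1 := fun e => a1 (Subtype.ext e)
    obtain ⟨n, hn, e⟩ := h.ha a ha (g * a * g⁻¹) hb ⟨g, rfl⟩
    obtain ⟨z, hzP, hc, hz⟩ := exists_center' P (u := a) ha a1'
    obtain ⟨w, hw, l1⟩ := frat P hP (h.npc ha a1') (R := zpowers z)
      (zpowers_le_of_mem (mem_centralizer_singleton_iff.2 (hc a ha).symm)) (pg_zpowers (pel_of_mem P hzP))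
      (c := (g : G)⁻¹ * n) (mem_centralizer_singleton_iff.2 (by
        calc (g : G)⁻¹ * n * a = (g : G)⁻¹ * (n * a * n⁻¹) * n := by group
          _ = _ := by rw [e]; simp [mul_assoc]))
    obtain ⟨c, hc', l2⟩ := frat P hP (h.hb z hzP hz) (R := P)
      (fun x hx => mem_centralizer_singleton_iff.2 (hc x hx)) P.2 (c := w)
      (mem_centralizer_singleton_iff.2 (hw z (mem_zpowers z)).symm)
    have l3 : n * c⁻¹ ∈ L := by
      have := mul_mem g.2 (hL.conj_mem _ (mul_mem l2 l1) c)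
      simpa [mul_assoc] using this
    refine ⟨⟨_, l3⟩, mem_normalizer_fintype fun x hx =>
      conj_mem P (mul_mem hn (inv_mem (centralizer_le_normalizer _ hc'))) hx, Subtype.ext ?_⟩
    have := hc' a ha
    calc n * c⁻¹ * a * (n * c⁻¹)⁻¹ = n * c⁻¹ * (a * c) * n⁻¹ := by group
      _ = n * a * n⁻¹ := by rw [this]; group
      _ = _ := e

end Hy

end H19.Loc2
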