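/- LOC2 (S3297), part B: the pair lemma and the isolated case. -/
import Cfsg.Agent.H19.Loc2A
import Cfsg.Agent.H8.SylowInf

set_option autoImplicit false
set_option linter.unusedSectionVars false
set_option linter.unusedVariables false

namespace H19.Loc2

open Cfsg Subgroup H41 H28 H35
open scoped ComplexConjugate

variable {G : Type*} [Group G] [Finite G] {p : ℕ} [hp : Fact p.Prime]

/-- hypothesis (c) -/
def Hc (p : ℕ) (G : Type*) [Group G] : Prop :=
  ∀ x y : G, orderOf x = p → orderOf y = p → IsPSolvable p (closure ({x, y} : Set G))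

theorem Hc.subgroup (h : Hc p G) (L : Subgroup G) : Hc p L := fun x y hx hy =>
  H18.isPSolvable_of_injective (h x y (by simpa using hx) (by simpa using hy))
    ((L.subtype.comp (closure {x, y}).subtype).codRestrict _ fun g => by
      have := mem_map_of_mem L.subtype g.2
      rwa [MonoidHom.map_closure, Set.image_pair] at this) fun a b e =>
    Subtype.ext (Subtype.ext (congrArg (Subtype.val (p := (· ∈ closure {(x : G), (y : G)}))) e))

theorem pair (P : Sylow p G) {Z : Subgroup G} (hZ : Z ≤ (P : Subgroup G)) (hZc : Z ≤ CC P)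
    (hsc : ∀ x ∈ Z, ∀ g, g * x * g⁻¹ ∈ (P : Subgroup G) → g * x * g⁻¹ ∈ Z) {a b : G}
    (ha : ∃ x ∈ Z, IsConj x a) (hb : ∃ x ∈ Z, IsConj x b) (hs : IsPSolvable p (closure ({a, b} : Set G))) :
    ∃ g b1, IsConj b b1 ∧ g * a * g⁻¹ ∈ Z ∧ g * b1 * g⁻¹ ∈ Z ∧
      ∀ (j : ℕ) y, IsPPart p (a * b ^ j) y → IsConj y (a * b1 ^ j) := by
  set X := closure ({a, b} : Set G)
  let π := QuotientGroup.mk' (pPrimeCore p X)
  have hπ : Function.Surjective π := QuotientGroup.mk'_surjective _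
  have inZ : ∀ c g : G, (∃ x ∈ Z, IsConj x c) → g * c * g⁻¹ ∈ (P : Subgroup G) → g * c * g⁻¹ ∈ Z := by
    rintro _ g ⟨x, hx, hc⟩ h
    obtain ⟨t, rfl⟩ := isConj_iff.1 hc
    simpa [mul_assoc] using hsc x hx (g * t) (by simpa [mul_assoc] using h)
  have pel : ∀ c : X, (∃ x ∈ Z, IsConj x (c : G)) → ∃ k, c ^ p ^ k = 1 := by
    rintro c ⟨x, hx, hc⟩
    obtain ⟨t, e⟩ := isConj_iff.1 hc
    exact (pel_of_mem P (hZ hx)).imp fun k hk => Subtype.ext (by simp [← e, hk])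
  have key : ∀ c : X, (∃ x ∈ Z, IsConj x (c : G)) → π c ∈ pCore p (X ⧸ pPrimeCore p X) := fun c hc => by
    refine H18.centralizer_pCore_le (H18.isPSolvable_quotient hs _) (H18.pPrimeCore_quotient_pPrimeCore p)
      fun d hd => ?_
    obtain ⟨S, hS⟩ := (pg_zpowers (pel c hc)).exists_le_sylow
    obtain ⟨g, hg⟩ := exists_conj_le P (S.2.map X.subtype)
    obtain ⟨s, hs, rfl⟩ := (H18.isPGroup_pCore p).le_sylow_of_normal (S.mapSurjective hπ) hd
    have := hZc (inZ c g hc (hg _ ⟨c, hS (mem_zpowers c), rfl⟩)) _ (hg _ ⟨s, hs, rfl⟩)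
    rw [← map_mul, ← map_mul]
    exact congrArg π (Subtype.ext (by simpa using this))
  let a' : X := ⟨a, subset_closure (by simp)⟩
  let b' : X := ⟨b, subset_closure (by simp)⟩
  have hQ : IsPGroup p (X ⧸ pPrimeCore p X) := fun q => by
    obtain ⟨⟨x, hx⟩, rfl⟩ := hπ q
    have : π ⟨x, hx⟩ ∈ pCore p (X ⧸ pPrimeCore p X) := by
      induction hx using closure_induction with
      | mem x hx => rcases hx with rfl | rfl; exacts [key a' ha, key b' hb]
      | one => exact one_mem _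
      | mul x y hx hy ihx ihy => exact mul_mem ihx ihy
      | inv x hx ih => exact inv_mem ih
    exact (H18.isPGroup_pCore p ⟨_, this⟩).imp fun k hk => congrArg Subtype.val hk
  obtain ⟨S, hS⟩ := (pg_zpowers (pel a' ha)).exists_le_sylow
  obtain ⟨g, hg⟩ := exists_conj_le P (S.2.map X.subtype)
  obtain ⟨b1, hb1, e⟩ := (hQ.to_subgroup ⊤).le_sylow_of_normal (S.mapSurjective hπ) (mem_top (π b'))
  have hk : ¬ p ∣ Nat.card π.ker := by rw [QuotientGroup.ker_mk']; exact H87.not_dvd_card_core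
  have c1 : IsConj b (b1 : G) :=
    X.subtype.map_isConj (H29.isConj_of_map_eq hk (pel b' hb) (pel_of_mem S hb1) e.symm)
  refine ⟨g, b1, c1, inZ a g ha (hg _ ⟨a', hS (mem_zpowers a'), rfl⟩),
    inZ _ g (hb.imp fun x hx => ⟨hx.1, hx.2.trans c1⟩) (hg _ ⟨b1, hb1, rfl⟩), fun j y hy => ?_⟩
  have hyX : y ∈ X := mem_of_isPPart hp.out hy (a' * b' ^ j).2
  have hy' : IsPPart p (a' * b' ^ j) ⟨y, hyX⟩ := (isPPart_coe_iff hp.out).1 hy
  refine X.subtype.map_isConj (H29.isConj_of_map_eq (s := ⟨y, hyX⟩) (s' := a' * b1 ^ j) hk ?_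
    (pel_of_mem S (mul_mem (hS (mem_zpowers a')) (pow_mem hb1 j))) ?_)
  · obtain ⟨-, -, -, ⟨k, hk⟩, -⟩ := hy'
    exact ⟨k, hk ▸ pow_orderOf_eq_one _⟩
  · rw [map_mul, map_pow, e, ← map_pow, ← map_mul]
    exact isPPart_unique hp.out (isPPart_map hp.out π hy') (isPPart_self hp.out (IsPGroup.iff_orderOf.1 hQ _))

variable {M : Ideal AlgInt} [M.IsMaximal]

theorem prin_sec (hM : IsPModular p M) {u g y : G} (hN : HasNormalPComplement p (centralizer ({u} : Set G)))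
    {χ : IrrCharacter G} (hχ : χ ∈ principalBlock M G) (hy : IsPPart p g y) (hc : IsConj u y) :
    (χ : G → ℂ) g = (χ : G → ℂ) u :=
  H29.apply_eq_of_inSec χ.2.isClassFunction (fun g hg => H36.prin_apply_of_isPPart hM hN hχ hg) ⟨y, hy, hc⟩

theorem not_dvd_index_cent (P : Sylow p G) {z : G} (hc : z ∈ CC P) : ¬ p ∣ (centralizer ({z} : Set G)).index :=
  fun h => P.not_dvd_index (h.trans (index_dvd_of_le fun x hx => mem_centralizer_singleton_iff.2 (hc x hx)))

/-- an odd analogue of the `Z*`-theorem under hypothesis (c) -/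
theorem isolated (hp2 : p ≠ 2) (S : Sylow p G) (core : pPrimeCore p G = ⊥) {z : G} (hz : z ∈ (S : Subgroup G))
    (ho : orderOf z = p) (hiso : ∀ x ∈ zpowers z, ∀ g, g * x * g⁻¹ ∈ (S : Subgroup G) → g * x * g⁻¹ = x)
    (hb : ∀ x ∈ zpowers z, x ≠ 1 → HasNormalPComplement p (centralizer ({x} : Set G))) (hc : Hc p G) :
    z ∈ center G := by
  obtain ⟨M, hM⟩ := exists_isPModular p hp.out
  have := hM.2.1
  have hZ : zpowers z ≤ (S : Subgroup G) := zpowers_le_of_mem hz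
  have hZc : zpowers z ≤ CC S := fun x hx s hs =>
    mul_inv_eq_iff_eq_mul.1 (hiso x hx s (mul_mem (mul_mem hs (hZ hx)) (inv_mem hs)))
  have z1 : ∀ j, 0 < j → j < p → z ^ j ≠ 1 := fun j h0 hj => pow_ne_one_of_lt_orderOf h0.ne' (ho ▸ hj)
  have p3 : 3 ≤ p := by have := hp.out.two_le; omega
  rw [mem_center_iff]
  intro g
  suffices z * g * z⁻¹ * g⁻¹ ∈ H37.blockKerSub (principalBlock M G) by
    rw [H37.blockKerSub_principalBlock hM, core, mem_bot, mul_inv_eq_one, mul_inv_eq_iff_eq_mul] at this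
    exact this.symm
  refine H37.mem_blockKerSub.2 fun χ hχ => χ.2.mem_charCenter_iff_commutator.1 (χ.2.mem_charCenter.2 ?_) g
  have step : ∀ j, 0 < j → j + 1 < p → (χ : G → ℂ) z * (χ : G → ℂ) (z ^ j) =
      (χ : G → ℂ) 1 * (χ : G → ℂ) (z ^ (j + 1)) := fun j h0 hj => H34.irr_mul_eq_of_const χ.2 fun t => by
    have c1 : IsConj z (t * z * t⁻¹) := isConj_iff.2 ⟨t, rfl⟩
    obtain ⟨k, b1, c2, m1, m2, h⟩ := pair S hZ hZc (fun x hx g hg => by rw [hiso x hx g hg]; exact hx)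
      ⟨z, mem_zpowers z, c1⟩ ⟨z, mem_zpowers z, IsConj.refl z⟩
      (hc _ _ ((H87.orderOf_eq_of_isConj c1).symm.trans ho) ho)
    obtain ⟨r, rfl⟩ := isConj_iff.1 c2
    have e1 := hiso z (mem_zpowers z) (k * t) (by simpa [mul_assoc] using hZ m1)
    have e2 := hiso z (mem_zpowers z) (k * r) (by simpa [mul_assoc] using hZ m2)
    obtain ⟨y, hy⟩ := exists_isPPart hp.out (t * z * t⁻¹ * z ^ j)
    refine prin_sec hM (hb _ (pow_mem (mem_zpowers z) _) (z1 _ (by omega) hj)) hχ hy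
      ((h j y hy).trans (isConj_iff.2 ⟨k, ?_⟩)).symm
    calc _ = (k * t * z * (k * t)⁻¹) * (k * r * z * (k * r)⁻¹) ^ j := by
          rw [conj_pow, conj_pow]; group
      _ = _ := by rw [e1, e2, pow_succ']
  have pw : ∀ j, j + 1 < p → (χ : G → ℂ) z ^ (j + 1) = (χ : G → ℂ) 1 ^ j * (χ : G → ℂ) (z ^ (j + 1)) := by
    intro j hj
    induction j with
    | zero => simp
    | succ j ih => rw [pow_succ', ih (by omega), mul_left_comm, step _ (by omega) hj]; ring
  obtain ⟨n, rfl⟩ : ∃ n, p = n + 3 := ⟨p - 3, by omega⟩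
  have e := pw (n + 1) (by omega)
  rw [show z ^ (n + 1 + 1) = z⁻¹ by
    rw [eq_inv_iff_mul_eq_one, ← pow_succ, ← ho, pow_orderOf_eq_one], χ.2.isCharacter.apply_inv] at e
  have h0 := H36.prin_apply_ne_zero hM ⟨1, by rw [pow_one, ho]⟩
    (hb z (mem_zpowers z) (by simpa using z1 1 one_pos (by omega))) (not_dvd_index_cent S (hZc (mem_zpowers z))) hχ
  have e' := congrArg norm e
  rw [norm_mul, norm_pow, norm_pow, RCLike.norm_conj, pow_succ, mul_left_inj' (norm_ne_zero_iff.2 h0),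
    pow_left_inj₀ (norm_nonneg _) (norm_nonneg _) (by omega), ← H87.coe_dg] at e'
  rw [e', ← H87.coe_dg]; simp

/-- the isolated case -/
theorem Hy.normal_of_iso {P : Sylow p G} (h : Hy P) (hp2 : p ≠ 2) (hc : Hc p G) (H : Subgroup G) [hH : H.Normal]
    {z : G} (hzH : z ∈ H) (hz : z ∈ (P : Subgroup G)) (ho : orderOf z = p)
    (hiso : ∀ x ∈ zpowers z, ∀ g ∈ H, g * x * g⁻¹ ∈ (P : Subgroup G) → g * x * g⁻¹ = x) :
    (P : Subgroup G).Normal := by
  obtain ⟨S, hS⟩ := H8.exists_sylow_eq_subgroupOf_normal P H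
  have zp : ∀ x ∈ zpowers (⟨z, hzH⟩ : H), (x : G) ∈ zpowers z := by
    rintro _ ⟨k, rfl⟩; exact ⟨k, rfl⟩
  have h1 := isolated hp2 S (by rw [H2.pPrimeCore_eq_subgroupOf, h.core, bot_subgroupOf]) (z := ⟨z, hzH⟩)
    (by rw [hS]; exact hz) (by simpa using ho)
    (fun x hx g hg => Subtype.ext (hiso x (zp x hx) g g.2 (by rw [hS] at hg; exact hg)))
    (fun x hx x1 => H7.hasNPC_of_injective (h.npc (zpowers_le_of_mem hz (zp x hx)) fun e => x1 (Subtype.ext e))
      ((H.subtype.comp (centralizer {x}).subtype).codRestrict _ fun y => mem_centralizer_singleton_iff.2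
        (congrArg Subtype.val (mem_centralizer_singleton_iff.1 y.2))) fun a b e =>
      Subtype.ext (Subtype.ext (congrArg (Subtype.val (p := (· ∈ centralizer {(x : G)}))) e))) (hc.subgroup H)
  let W : Subgroup G :=
    { carrier := {x | x ∈ H ∧ (∀ y ∈ H, y * x = x * y) ∧ x ^ p = 1}
      one_mem' := ⟨one_mem _, by simp, one_pow _⟩
      mul_mem' := fun {a b} ha hb => ⟨mul_mem ha.1 hb.1, fun y hy => by
        rw [← mul_assoc, ha.2.1 y hy, mul_assoc, hb.2.1 y hy, mul_assoc], by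
        rw [Commute.mul_pow (hb.2.1 a ha.1), ha.2.2, hb.2.2, one_mul]⟩
      inv_mem' := fun {a} ha => ⟨inv_mem ha.1, fun y hy => (Commute.inv_right (ha.2.1 y hy)).eq, by
        rw [inv_pow, ha.2.2, inv_one]⟩ }
  have : W.Normal := ⟨fun x hx g => ⟨hH.conj_mem _ hx.1 g, fun y hy => by
    calc _ = g * (g⁻¹ * y * g⁻¹⁻¹ * x) * g⁻¹ := by group
      _ = _ := by rw [hx.2.1 _ (hH.conj_mem _ hy g⁻¹)]; group, by rw [conj_pow, hx.2.2]; simp⟩⟩
  refine h.normal_of_pn W (fun x => ⟨1, Subtype.ext (by simpa using x.2.2.2)⟩) fun e => ?_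
  have : z ∈ W := ⟨hzH, fun y hy => congrArg Subtype.val (mem_center_iff.1 h1 ⟨y, hy⟩), ho ▸ pow_orderOf_eq_one z⟩
  rw [e, mem_bot] at this
  exact hp.out.ne_one (by rw [← ho, this, orderOf_one])

end H19.Loc2
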