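/- LOC2 (S3297), part C: a lower bound for the norm of a character on a normal subgroup. -/
import Cfsg.Agent.H43.LyAvg

set_option autoImplicit false
set_option linter.unusedSectionVars false
set_option linter.unusedVariables false

namespace H19.Loc2

open Cfsg Subgroup H41 H28
open scoped ComplexConjugate

variable {G : Type*} [Group G] [Fintype G]

open Classical in
/-- the elements of a subgroup -/
noncomputable def fs (H : Subgroup G) : Finset G := Finset.univ.filter (· ∈ H)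

@[simp] theorem mem_fs {H : Subgroup G} {x : G} : x ∈ fs H ↔ x ∈ H := by simp [fs]

theorem card_fs (H : Subgroup G) : (fs H).card = Nat.card H := by
  classical
  rw [Nat.card_eq_fintype_card, Fintype.card_subtype]; congr

theorem sum_fs_mul {V : Type*} [AddCommMonoid V] (H : Subgroup G) {z : G} (hz : z ∈ H) (f : G → V) :
    ∑ u ∈ fs H, f (z * u) = ∑ u ∈ fs H, f u :=
  Finset.sum_bijective (z * ·) (Group.mulLeft_bijective z) (fun u => by simp [H.mul_mem_cancel_left hz])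
    fun _ _ => rfl

theorem sum_fs_sub {V : Type*} [AddCommMonoid V] {H N : Subgroup G} [Fintype N] (h : H ≤ N) (f : G → V) :
    ∑ u ∈ fs (H.subgroupOf N), f u = ∑ u ∈ fs H, f u :=
  Finset.sum_bij (fun u _ => (u : G)) (fun u hu => by simpa [mem_subgroupOf] using hu)
    (fun _ _ _ _ => Subtype.ext) (fun u hu => ⟨⟨u, h (mem_fs.1 hu)⟩, by simpa [mem_subgroupOf] using hu, rfl⟩)
    fun _ _ => rfl

theorem split (Z : Subgroup G) [hZ : Z.Normal] {φ : G → ℂ} (hφ : IsCharacter G φ) :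
    ∃ A B : G → ℂ, IsCharacter G A ∧ IsCharacter G B ∧ (∀ g, φ g = A g + B g) ∧
      (∀ z ∈ Z, ∀ g, A (z * g) = A g) ∧ (∀ g, ∑ z ∈ fs Z, φ (z * g) = Nat.card Z * A g) ∧
      ∀ g, ∑ z ∈ fs Z, B (z * g) = 0 := by
  classical
  have h1 : ∀ g, ∑ z ∈ fs Z, φ (z * g) = Nat.card Z * blockPart (H43.kerSet Z) φ g := fun g => by
    rw [H43.blockPart_kerSet Z hφ.isClassFunction]
    exact Finset.sum_subtype _ (by simp) fun k => φ (k * g)
  have h2 := fun g => (congrFun (blockPart_add_compl (H43.kerSet Z) hφ.isClassFunction) g).symm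
  have h3 : ∀ z ∈ Z, ∀ g, blockPart (H43.kerSet Z) φ (z * g) = blockPart (H43.kerSet Z) φ g := fun z hz g => by
    refine mul_left_cancel₀ (card_ne_zero' Z) ?_
    rw [← h1, ← h1, ← sum_fs_mul Z hz fun u => φ (u * g)]
    refine Finset.sum_bijective (fun u => z⁻¹ * u * z) ((Group.mulRight_bijective z).comp
      (Group.mulLeft_bijective z⁻¹)) (fun u => ?_) fun u _ => by simp [mul_assoc]
    simp [Z.mul_mem_cancel_left (inv_mem hz), Z.mul_mem_cancel_right hz]
  refine ⟨_, _, H43.isCharacter_blockPart _ hφ, H43.isCharacter_blockPart _ hφ, h2, h3, h1, fun g => ?_⟩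
  have := h1 g
  rw [Finset.sum_congr rfl fun z hz => h2 (z * g)] at this
  simp only [Pi.add_apply, Finset.sum_add_distrib] at this
  rw [Finset.sum_congr rfl fun z hz => h3 z (mem_fs.1 hz) g, Finset.sum_const, card_fs, nsmul_eq_mul] at this
  simpa using this

theorem norm_low (P K : Subgroup G) [P.Normal] (hPK : P ≤ K) {B : G → ℂ} (hB : IsCharacter G B) (h0 : B ≠ 0)
    (hv : ∀ g, g ∉ K → B g = 0) :
    (Nat.card G : ℝ) * Nat.card P ≤ Nat.card K * ∑ u ∈ fs P, ‖B u‖ ^ 2 := by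
  obtain ⟨A, -, hA, -, -, -, h1, -⟩ := split P (hB.mul hB.conj)
  have h2 : ∀ g, ∑ u ∈ fs P, ‖B (u * g)‖ ^ 2 = Nat.card P * ‖A g‖ := fun g => by
    have := congrArg norm (h1 g)
    simp only [Pi.mul_apply, Complex.mul_conj'] at this
    rw [norm_mul, Complex.norm_natCast] at this
    rw [← this, ← Real.norm_of_nonneg (Finset.sum_nonneg fun _ _ => sq_nonneg _), ← Complex.norm_real]
    push_cast; rfl
  have h3 : ∀ g, ∑ u ∈ fs P, ‖B (u * g)‖ ^ 2 ≤ ∑ u ∈ fs P, ‖B u‖ ^ 2 := fun g => by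
    have := h2 1
    simp only [mul_one] at this
    rw [h2, this]
    exact mul_le_mul_of_nonneg_left ((hA.norm_le g).trans (Complex.re_le_norm _)) (Nat.cast_nonneg _)
  have h4 : (Nat.card G : ℝ) ≤ ∑ g, ‖B g‖ ^ 2 := by
    obtain ⟨n, hn⟩ := hB.classInner_nat hB
    have h5 := classInner_self_re_pos h0
    have h6 := classInner_self_re B
    rw [hn, Complex.natCast_re] at h5 h6
    have h7 : (1 : ℝ) ≤ n := by exact_mod_cast Nat.cast_pos.1 h5
    have h8 : (0 : ℝ) < Nat.card G := by exact_mod_cast Nat.card_pos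
    rw [h6, le_inv_mul_iff₀ h8, mul_one] at h7
    exact h7
  calc _ ≤ (∑ g, ‖B g‖ ^ 2) * Nat.card P := mul_le_mul_of_nonneg_right h4 (Nat.cast_nonneg _)
    _ = ∑ g, ∑ u ∈ fs P, ‖B (u * g)‖ ^ 2 := by
      rw [Finset.sum_comm, mul_comm, ← card_fs, ← nsmul_eq_mul, ← Finset.sum_const]
      exact Finset.sum_congr rfl fun u _ => (Equiv.sum_comp (Equiv.mulLeft u) fun g => ‖B g‖ ^ 2).symm
    _ = ∑ g ∈ fs K, ∑ u ∈ fs P, ‖B (u * g)‖ ^ 2 :=
      (Finset.sum_subset (Finset.subset_univ _) fun g _ hg => Finset.sum_eq_zero fun u hu => by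
        rw [hv _ fun h => hg (mem_fs.2 ((K.mul_mem_cancel_left (hPK (mem_fs.1 hu))).1 h))]; simp).symm
    _ ≤ _ := by
      rw [← card_fs, ← nsmul_eq_mul]
      exact Finset.sum_le_card_nsmul _ _ _ fun g _ => h3 g

theorem bound (Z P K : Subgroup G) [Z.Normal] [P.Normal] (hZP : Z ≤ P) (hPK : P ≤ K)
    (hK : ∀ g, g ∉ K → ∀ y ∈ Z, ∃ z ∈ Z, z⁻¹ * (g * z * g⁻¹) = y) {φ : G → ℂ} (hφ : IsCharacter G φ)
    (hn : ¬ Z ≤ charKer φ) : ∃ α : ℝ, 0 ≤ α ∧ ∑ z ∈ fs Z, φ z = ((Nat.card Z * α : ℝ) : ℂ) ∧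
      Nat.card K * (Nat.card Z * α ^ 2) + (Nat.card G : ℝ) * Nat.card P ≤ Nat.card K * ∑ u ∈ fs P, ‖φ u‖ ^ 2 := by
  obtain ⟨A, B, hA, hB, h1, h2, h3, h4⟩ := split Z hφ
  have h5 := norm_low P K hPK hB (fun e => hn fun z hz => hφ.mem_charKer.2 (by
    rw [h1, h1, e, ← mul_one z, h2 z hz]; rfl)) fun g hg => by
    have := h4 g
    rw [Finset.sum_congr rfl (g := fun _ => B g) fun y hy => by
      obtain ⟨z, -, rfl⟩ := hK g hg y (mem_fs.1 hy)
      exact (hB.isClassFunction.eq_of_isConj (isConj_iff.2 ⟨z⁻¹, by group⟩)).symm,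
      Finset.sum_const, card_fs, nsmul_eq_mul] at this
    exact (mul_eq_zero.1 this).resolve_left (card_ne_zero' Z)
  refine ⟨charDegree A, Nat.cast_nonneg _, by simpa [hA.cast_charDegree] using h3 1, ?_⟩
  have cross : ∑ u ∈ fs P, A u * conj (B u) = 0 := by
    refine (mul_eq_zero.1 ?_).resolve_left (card_ne_zero' Z)
    rw [← card_fs, ← nsmul_eq_mul, ← Finset.sum_const, Finset.sum_congr rfl fun z hz =>
      (sum_fs_mul P (hZP (mem_fs.1 hz)) fun u => A u * conj (B u)).symm, Finset.sum_comm]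
    refine Finset.sum_eq_zero fun u _ => ?_
    rw [Finset.sum_congr rfl fun z hz => by rw [h2 z (mem_fs.1 hz)], ← Finset.mul_sum, ← map_sum, h4, map_zero,
      mul_zero]
  have e : ∑ u ∈ fs P, ‖φ u‖ ^ 2 = ∑ u ∈ fs P, ‖A u‖ ^ 2 + ∑ u ∈ fs P, ‖B u‖ ^ 2 := by
    have := congrArg Complex.re cross
    rw [Complex.re_sum, Complex.zero_re] at this
    simp only [h1, Complex.sq_norm, Complex.normSq_add, Finset.sum_add_distrib, ← Finset.mul_sum, this]
    simp
  have l : (Nat.card Z * (charDegree A : ℝ) ^ 2) ≤ ∑ u ∈ fs P, ‖A u‖ ^ 2 := by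
    refine le_trans (le_of_eq ?_) (Finset.sum_le_sum_of_subset_of_nonneg (s := fs Z)
      (fun z hz => mem_fs.2 (hZP (mem_fs.1 hz))) fun _ _ _ => sq_nonneg _)
    rw [Finset.sum_congr rfl (g := fun _ => (charDegree A : ℝ) ^ 2) fun z hz => by
      rw [← mul_one z, h2 z (mem_fs.1 hz), ← hA.cast_charDegree, Complex.norm_natCast],
      Finset.sum_const, card_fs, nsmul_eq_mul]
  rw [e, mul_add]
  exact add_le_add (mul_le_mul_of_nonneg_left l (Nat.cast_nonneg _)) h5

end H19.Loc2
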