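/- LOC2 (S3297), part D: the count in the principal block. -/
import Cfsg.Agent.H19.Loc2B
import Cfsg.Agent.H19.Loc2C
import Cfsg.Agent.H4.ClassMisc
import Cfsg.Agent.H7.SylowIn

set_option autoImplicit false
set_option linter.unusedSectionVars false
set_option linter.unusedVariables false

namespace H19.Loc2

open Cfsg Subgroup H41 H28 H35 H87
open scoped ComplexConjugate

variable {G : Type*} [Group G] [Fintype G] {p : ℕ} [hp : Fact p.Prime]

/-- the centraliser of `Z(P)` -/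
abbrev KK (P : Sylow p G) : Subgroup G := centralizer (((P : Subgroup G) ⊓ CC P : Subgroup G) : Set G)

/-- `e |P|` -/
noncomputable def EE (P : Sylow p G) : ℕ := (KK P).relIndex (NN P) * Nat.card (P : Subgroup G)

theorem le_KK (P : Sylow p G) : (P : Subgroup G) ≤ KK P := fun x hx z hz => (hz.2 x hx).symm

variable {M : Ideal AlgInt} [M.IsMaximal] {P : Sylow p G}

theorem Hy.mem_KK (h : Hy P) {n u : G} (hn : n ∈ NN P) (hu : u ∈ (P : Subgroup G)) (h1 : u ≠ 1)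
    (e : n * u = u * n) : n ∈ KK P := fun z hz => (h.fix_center hn hu h1 e hz.1 hz.2).symm

theorem Hy.pow_fact (h : Hy P) {u : G} (hu : u ∈ (P : Subgroup G)) :
    p ^ (Nat.card (centralizer ({u} : Set G))).factorization p =
      Nat.card ((P : Subgroup G) ⊓ centralizer ({u} : Set G) : Subgroup G) := by
  refine (h.sylow_cent hu).antisymm ?_
  obtain ⟨k, hk⟩ := IsPGroup.iff_card.1 (P.2.to_le (inf_le_left (b := centralizer ({u} : Set G))))
  rw [hk]
  exact Nat.pow_le_pow_right hp.out.pos ((hp.out.pow_dvd_iff_le_factorization Nat.card_pos.ne').1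
    (hk ▸ card_dvd_of_le inf_le_right))

theorem Hy.rel_mul (h : Hy P) {u : G} (hu : u ∈ (P : Subgroup G)) (h1 : u ≠ 1) :
    (centralizer ({u} : Set G)).relIndex (NN P) * p ^ (Nat.card (centralizer ({u} : Set G))).factorization p =
      EE P := by
  obtain ⟨z, hz, hc, ho⟩ := exists_center' P hu h1
  have e1 : (centralizer ({u} : Set G)).relIndex (NN P) =
      (centralizer ({u} : Set G)).relIndex (KK P ⊓ NN P) * (KK P).relIndex (NN P) := by
    rw [relIndex_inf_mul_relIndex, ← inf_relIndex_right, ← inf_relIndex_right (_ ⊓ KK P)]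
    congr 1
    exact le_antisymm (fun n hn => ⟨⟨hn.1, h.mem_KK hn.2 hu h1 (mem_centralizer_singleton_iff.1 hn.1)⟩, hn.2⟩)
      fun n hn => ⟨hn.1.1, hn.2⟩
  have e2 : (centralizer ({u} : Set G)).relIndex (KK P ⊓ NN P) = (centralizer ({u} : Set G)).relIndex P := by
    rw [H4.relIndex_cent_eq_ncard, H4.relIndex_cent_eq_ncard]
    congr 1
    refine Set.Subset.antisymm ?_ (Set.image_mono fun x hx => ⟨le_KK P hx, le_normalizer hx⟩)
    rintro _ ⟨n, hn, rfl⟩
    obtain ⟨x, hx, c, hc', rfl⟩ := h.dec hn.2 hz (ne_one_of_orderOf_prime ho) (hn.1 z ⟨hz, hc⟩).symm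
    refine ⟨x, hx, ?_⟩
    calc x * u * x⁻¹ = x * (u * c) * (x * c)⁻¹ := by group
      _ = _ := by rw [hc' u hu]; simp [mul_assoc]
  rw [e1, e2, h.pow_fact hu, EE, ← inf_relIndex_left, mul_right_comm, H7.relIndex_mul_card inf_le_left, mul_comm]

theorem bker_congr {B : Set (IrrCharacter G)} (g : G) {u v : G} (h : IsConj u v) : bker B g u = bker B g v := by
  simp only [H34.bker_eq_sum_bF]
  exact Finset.sum_congr rfl fun χ _ => by rw [χ.2.isClassFunction.eq_of_isConj h]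

theorem Hy.sum_bker (h : Hy P) (hM : IsPModular p M) {T : Finset G} (hT : ∀ v ∈ T, v ∈ (P : Subgroup G) ∧ v ≠ 1)
    (hN : ∀ n ∈ NN P, ∀ v ∈ T, n * v * n⁻¹ ∈ T) {c : G → ℂ} (hc : IsClassFunction G c) {g y u : G} (hu : u ∈ T)
    (hy : IsPPart p g y) (hs : IsConj u y) :
    ∑ v ∈ T, bker (principalBlock M G) g v * c v = EE P * c u := by
  classical
  obtain ⟨uP, u1⟩ := hT u hu
  have e1 : bker (principalBlock M G) g u = ((p ^ (Nat.card (centralizer ({u} : Set G))).factorization p : ℕ) : ℂ) := by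
    rw [← H36.bker_prin_self_of_hasNPC hM (ord_of_mem P uP) (h.npc uP u1), H34.bker_eq_sum_bF, H34.bker_eq_sum_bF]
    exact Finset.sum_congr rfl fun χ hχ => by rw [prin_sec hM (h.npc uP u1) (mem_bF.1 hχ) hy hs]
  have e2 : (T.filter (IsConj u)).card = (centralizer ({u} : Set G)).relIndex (NN P) := by
    rw [H4.relIndex_cent_eq_ncard, ← Set.ncard_coe_finset]
    congr 1
    ext v
    simp only [Finset.coe_filter, Set.mem_ofPred_eq, Set.mem_image, SetLike.mem_coe]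
    exact ⟨fun hv => h.ha u uP v (hT v hv.1).1 (isConj_iff.1 hv.2), fun ⟨n, hn, e⟩ =>
      ⟨e ▸ hN n hn u hu, isConj_iff.2 ⟨n, e⟩⟩⟩
  rw [← Finset.sum_filter_of_ne (p := IsConj u) fun v hv h0 => by_contra fun h1 => h0 (by
      rw [bker_prin_eq_zero hM hy (isPPart_self hp.out (ord_of_mem P (hT v hv).1)) fun h2 => h1 (hs.trans h2),
        zero_mul]),
    Finset.sum_congr rfl (g := fun _ => bker (principalBlock M G) g u * c u) fun v hv => by
      rw [bker_congr g (Finset.mem_filter.1 hv).2, hc.eq_of_isConj (Finset.mem_filter.1 hv).2],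
    Finset.sum_const, e2, e1, nsmul_eq_mul, ← mul_assoc, ← Nat.cast_mul, h.rel_mul uP u1]

open Classical in
theorem Hy.bessel (h : Hy P) (hM : IsPModular p M) {χ : IrrCharacter G} (hχ : χ ∈ principalBlock M G) :
    ∑ u ∈ (fs (P : Subgroup G)).erase 1, ‖(χ : G → ℂ) u‖ ^ 2 ≤ EE P := by
  set T := (fs (P : Subgroup G)).erase 1
  have hT : ∀ v, v ∈ T ↔ v ∈ (P : Subgroup G) ∧ v ≠ 1 := fun v => by simp [T, and_comm]
  set S := ∑ u ∈ T, ‖(χ : G → ℂ) u‖ ^ 2 with hS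
  have e1 : ∑ u ∈ T, (χ : G → ℂ) u * conj ((χ : G → ℂ) u) = (S : ℂ) := by
    simp only [hS, Complex.mul_conj']; push_cast; rfl
  have e2 : ∑ ψ ∈ bF (principalBlock M G), ‖∑ u ∈ T, (ψ : G → ℂ) u * conj ((χ : G → ℂ) u)‖ ^ 2 = EE P * S := by
    apply Complex.ofReal_injective
    push_cast
    rw [← e1, Finset.mul_sum, Finset.sum_congr rfl (g := fun u => (∑ v ∈ T, bker (principalBlock M G) u v *
      (χ : G → ℂ) v) * conj ((χ : G → ℂ) u)) fun u hu => by
        rw [h.sum_bker hM (fun v hv => (hT v).1 hv) (fun n hn v hv => (hT _).2 ⟨conj_mem P hn ((hT v).1 hv).1,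
          by simpa using ((hT v).1 hv).2⟩) χ.2.isClassFunction hu
          (isPPart_self hp.out (ord_of_mem P ((hT u).1 hu).1)) (IsConj.refl u), mul_assoc]]
    simp only [← Complex.mul_conj', map_sum, map_mul, Complex.conj_conj, H34.bker_eq_sum_bF, Finset.sum_mul,
      Finset.mul_sum, Finset.sum_comm (s := bF _)]
    rw [Finset.sum_comm]
    refine Finset.sum_congr rfl fun u _ => Finset.sum_congr rfl fun v _ => Finset.sum_congr rfl fun ψ _ => by ring
  have e3 := Finset.single_le_sum (f := fun ψ : IrrCharacter G =>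
    ‖∑ u ∈ T, (ψ : G → ℂ) u * conj ((χ : G → ℂ) u)‖ ^ 2) (fun _ _ => sq_nonneg _) (mem_bF.2 hχ)
  rw [e2, e1, Complex.norm_real, Real.norm_eq_abs, sq_abs] at e3
  by_contra h0
  nlinarith [(Nat.cast_nonneg (EE P) : (0 : ℝ) ≤ _)]

open Classical in
theorem Hy.low (h : Hy P) (hM : IsPModular p M) {Z : Subgroup G} (hZ : Z ≤ (P : Subgroup G))
    (hN : ∀ n ∈ NN P, ∀ z ∈ Z, n * z * n⁻¹ ∈ Z) {χ : IrrCharacter G} (hχ : χ ∈ principalBlock M G)
    (hn : ¬ Z ≤ charKer (χ : G → ℂ)) : ∃ s : ℝ, ∑ z ∈ (fs Z).erase 1, (χ : G → ℂ) z = s ∧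
      s ≤ (√(Nat.card Z) - 1) * dg χ := by
  have : (Z.subgroupOf (NN P)).Normal := ⟨fun z hz n => hN n n.2 z hz⟩
  have hPN : (P : Subgroup G) ≤ NN P := le_normalizer
  obtain ⟨α, h0, h1, h2⟩ := bound (Z.subgroupOf (NN P)) ((P : Subgroup G).subgroupOf (NN P))
    ((KK P).subgroupOf (NN P)) (comap_mono hZ) (comap_mono (le_KK P)) (fun g hg y hy => by
      obtain ⟨x, hx, e⟩ := comm_surj Z (hN g g.2) (fun x hx e => by_contra fun x1 =>
        hg (h.mem_KK g.2 (hZ hx) x1 e)) hy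
      exact ⟨⟨x, hPN (hZ hx)⟩, hx, Subtype.ext e⟩) (χ.2.isCharacter.restrict (NN P)) fun hk => hn fun z hz =>
        χ.2.mem_charKer.2 ((χ.2.isCharacter.restrict (NN P)).mem_charKer.1 (hk (x := ⟨z, hPN (hZ hz)⟩) hz))
  rw [Nat.card_congr (subgroupOfEquivOfLe (hZ.trans hPN)).toEquiv] at h1 h2
  rw [sum_fs_sub (hZ.trans hPN), ← Finset.add_sum_erase _ _ (mem_fs.2 (one_mem Z)), ← coe_dg] at h1
  rw [sum_fs_sub hPN fun u => ‖(χ : G → ℂ) u‖ ^ 2, ← Finset.add_sum_erase _ _ (mem_fs.2 (one_mem _)), ← coe_dg,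
    Complex.norm_natCast, Nat.card_congr (subgroupOfEquivOfLe hPN).toEquiv,
    ← ((KK P).subgroupOf (NN P)).card_mul_index, Nat.cast_mul, mul_assoc, ← mul_add, ← Nat.cast_mul] at h2
  have h3 := le_of_mul_le_mul_left h2 (by exact_mod_cast Nat.card_pos)
  have h4 : (Nat.card Z : ℝ) * α ^ 2 ≤ (dg χ : ℝ) ^ 2 := by
    have := h.bessel hM hχ
    rw [EE, relIndex] at this
    linarith
  refine ⟨Nat.card Z * α - dg χ, by push_cast at h1 ⊢; linear_combination h1, ?_⟩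
  have h5 : √(Nat.card Z) * α ≤ dg χ := by
    refine (sq_le_sq₀ (by positivity) (by positivity)).1 ?_
    rwa [mul_pow, Real.sq_sqrt (by positivity)]
  nlinarith [mul_le_mul_of_nonneg_left h5 (Real.sqrt_nonneg (Nat.card Z)),
    Real.mul_self_sqrt (show (0 : ℝ) ≤ Nat.card Z by positivity)]

theorem sum_pow_idx {V : Type*} [AddCommMonoid V] {T : Finset G} (hT : ∀ z ∈ T, orderOf z = p) {j : ℕ}
    (hj : j ∈ Finset.Ico 1 p) (hm : ∀ z ∈ T, z ^ j ∈ T) (F : G → V) : ∑ z ∈ T, F (z ^ j) = ∑ z ∈ T, F z := by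
  have hc : j.Coprime p := (Nat.coprime_of_lt_prime (by have := (Finset.mem_Ico.1 hj).1; omega)
    (Finset.mem_Ico.1 hj).2 hp.out).symm
  obtain ⟨k, -, hk⟩ := Nat.exists_mul_mod_eq_one_of_coprime hc hp.out.one_lt
  have inj : ∀ z ∈ T, (z ^ j) ^ k = z := fun z hz => by
    rw [← pow_mul, ← pow_mod_orderOf, hT z hz, hk, pow_one]
  have hi : ∀ a ∈ T, ∀ b ∈ T, a ^ j = b ^ j → a = b := fun a ha b hb e => by rw [← inj a ha, e, inj b hb]
  exact Finset.sum_bij (fun z _ => z ^ j) hm (fun a ha b hb => hi a ha b hb) (fun b hb => by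
    obtain ⟨a, ha, e⟩ := Finset.surj_on_of_inj_on_of_card_le (s := T) (t := T) (fun z _ => z ^ j) hm
      (fun a b ha hb => hi a ha b hb) le_rfl b hb
    exact ⟨a, ha, e.symm⟩) fun _ _ => rfl

open Classical in
theorem Hy.count (h : Hy P) (hc : Hc p G) {Z : Subgroup G} (hZ : Z ≤ (P : Subgroup G)) (hZc : Z ≤ CC P)
    (hN : ∀ n ∈ NN P, ∀ z ∈ Z, n * z * n⁻¹ ∈ Z) (hZp : ∀ z ∈ Z, z ^ p = 1) {z : G} (hz : z ∈ Z) (z1 : z ≠ 1)
    (htop : normalClosure ({z} : Set G) = ⊤) :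
    (EE P : ℝ) * ((p - 2) * √(Nat.card Z) - 1) ≤ (p - 1) * √(Nat.card Z) * (Nat.card Z - 1) := by
  obtain ⟨M, hM⟩ := exists_isPModular p hp.out
  have := hM.2.1
  set T := (fs Z).erase 1
  have hT : ∀ v, v ∈ T ↔ v ∈ Z ∧ v ≠ 1 := fun v => by simp [T, and_comm]
  have hTo : ∀ v ∈ T, orderOf v = p := fun v hv => orderOf_eq_prime (hZp v ((hT v).1 hv).1) ((hT v).1 hv).2
  have hm : (T.card : ℝ) = Nat.card Z - 1 := by
    rw [Finset.card_erase_of_mem (mem_fs.2 (one_mem Z)), card_fs, Nat.cast_sub Nat.card_pos, Nat.cast_one]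
  set B := bF (principalBlock M G)
  set r := √(Nat.card Z)
  have hs : ∀ χ : IrrCharacter G, ∃ s : ℝ, χ ∈ B → ∑ z ∈ T, (χ : G → ℂ) z = s ∧
      (χ ≠ one G → s ≤ (r - 1) * dg χ) := fun χ => by
    by_cases h1 : χ = one G
    · exact ⟨T.card, fun _ => ⟨by simp [h1], fun h2 => (h2 h1).elim⟩⟩
    by_cases h2 : χ ∈ B
    · obtain ⟨s, hs⟩ := h.low hM hZ hN (mem_bF.1 h2) fun hk => h1 (Subtype.ext (χ.2.charKer_eq_top_iff.1 (by
        have := χ.2.charKer_normal
        exact top_le_iff.1 (htop ▸ normalClosure_le_normal (Set.singleton_subset_iff.2 (hk hz))))))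
      exact ⟨s, fun _ => ⟨hs.1, fun _ => hs.2⟩⟩
    · exact ⟨0, fun h3 => (h2 h3).elim⟩
  choose s hs using hs
  let f : G → ℂ := fun g => ∑ χ ∈ B, (χ : G → ℂ) g * s χ
  have f1 : ∀ g, f g = ∑ v ∈ T, bker (principalBlock M G) g v * 1 := fun g => by
    simp only [H34.bker_eq_sum_bF, mul_one]
    rw [Finset.sum_comm]
    exact Finset.sum_congr rfl fun χ hχ => by rw [← Finset.mul_sum, ← map_sum, (hs χ hχ).1, Complex.conj_ofReal]
  have f2 : ∀ g y u, u ∈ T → IsPPart p g y → IsConj u y → f g = EE P := fun g y u hu hy hs => by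
    rw [f1, h.sum_bker hM (fun v hv => ⟨hZ ((hT v).1 hv).1, ((hT v).1 hv).2⟩) (fun n hn v hv => (hT _).2
      ⟨hN n hn v ((hT v).1 hv).1, by simpa using ((hT v).1 hv).2⟩) (c := fun _ => 1) (fun _ _ => rfl) hu hy hs,
      mul_one]
  have f3 : ∀ g, 0 ≤ (f g).re := fun g => by
    obtain ⟨y, hy⟩ := exists_isPPart hp.out g
    by_cases h1 : ∃ u ∈ T, IsConj u y
    · obtain ⟨u, hu, h1⟩ := h1
      rw [f2 g y u hu hy h1]; simp
    · rw [f1, Finset.sum_eq_zero fun v hv => by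
        rw [bker_prin_eq_zero hM hy (isPPart_self hp.out ⟨1, by rw [pow_one, hTo v hv]⟩)
          fun h2 => h1 ⟨v, hv, h2.symm⟩, zero_mul]]; simp
  have s2 : ∑ χ ∈ B, s χ ^ 2 = T.card * EE P := by
    apply Complex.ofReal_injective
    push_cast
    rw [← nsmul_eq_mul, ← Finset.sum_const, ← Finset.sum_congr rfl fun v hv => f2 v v v hv
      (isPPart_self hp.out ⟨1, by rw [pow_one, hTo v hv]⟩) (IsConj.refl v), Finset.sum_comm]
    exact Finset.sum_congr rfl fun χ hχ => by rw [← Finset.sum_mul, (hs χ hχ).1, sq]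
  have good : ∀ a b : G, (∃ x ∈ T, IsConj x a) → (∃ x ∈ T, IsConj x b) →
      ((p : ℝ) - 2) * EE P ≤ ∑ j ∈ Finset.Ico 1 p, (f (a * b ^ j)).re := by
    rintro a b ⟨x, hx, ha⟩ ⟨x', hx', hb⟩
    have ob := (orderOf_eq_of_isConj hb).symm.trans (hTo _ hx')
    obtain ⟨g, b1, c1, m1, m2, h1⟩ := pair P hZ hZc (fun x hx g hg => by
      obtain ⟨n, hn, e⟩ := h.ha x (hZ hx) _ hg ⟨g, rfl⟩
      exact e ▸ hN n hn x hx) ⟨x, ((hT _).1 hx).1, ha⟩ ⟨x', ((hT _).1 hx').1, hb⟩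
      (hc _ _ ((orderOf_eq_of_isConj ha).symm.trans (hTo _ hx)) ob)
    have ob1 := (orderOf_eq_of_isConj c1).symm.trans ob
    have c2 : ((Finset.Ico 1 p).filter fun j => a * b1 ^ j = 1).card ≤ 1 := Finset.card_le_one.2 fun i hi j hj => by
      simp only [Finset.mem_filter, Finset.mem_Ico] at hi hj
      exact pow_injOn_Iio_orderOf (ob1 ▸ hi.1.2) (ob1 ▸ hj.1.2) (mul_left_cancel (hi.2.trans hj.2.symm))
    have c3 := Finset.card_filter_add_card_filter_not (s := Finset.Ico 1 p) fun j => a * b1 ^ j = 1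
    rw [Nat.card_Ico] at c3
    have c4 : (p : ℝ) - 2 ≤ ((Finset.Ico 1 p).filter fun j => ¬ a * b1 ^ j = 1).card := by
      have := hp.out.two_le
      rw [sub_le_iff_le_add]; exact_mod_cast (by omega : p ≤ _ + 2)
    refine (mul_le_mul_of_nonneg_right c4 (Nat.cast_nonneg _)).trans (le_trans ?_
      (Finset.sum_le_sum_of_subset_of_nonneg (Finset.filter_subset (fun j => ¬ a * b1 ^ j = 1) _) fun _ _ _ => f3 _))
    rw [← nsmul_eq_mul]
    refine Finset.card_nsmul_le_sum _ _ _ fun j hj => ?_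
    obtain ⟨y, hy⟩ := exists_isPPart hp.out (a * b ^ j)
    rw [f2 _ y (g * (a * b1 ^ j) * g⁻¹) ((hT _).2 ⟨by
      have := mul_mem m1 (pow_mem m2 j); rw [conj_pow] at this; simpa [mul_assoc] using this,
      by simpa using (Finset.mem_filter.1 hj).2⟩) hy ((h1 j y hy).trans (isConj_iff.2 ⟨g, rfl⟩)).symm]
    simp
  have s3 : ∑ x ∈ T, ∑ y ∈ T, ∑ g, ∑ k, (f (g * x * g⁻¹ * (k * y * k⁻¹))).re =
      (Nat.card G : ℝ) ^ 2 * ∑ χ ∈ B, s χ ^ 3 / dg χ := by
    apply Complex.ofReal_injective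
    simp only [← Complex.re_sum, f, sum_sum_lin, ← Finset.mul_sum, Finset.sum_comm (s := T) (t := B)]
    rw [Finset.sum_congr rfl (g := fun χ => ((s χ ^ 3 / dg χ : ℝ) : ℂ)) fun χ hχ => by
      simp only [← Finset.sum_mul, ← Finset.sum_div, ← Finset.mul_sum, (hs χ hχ).1]; push_cast; ring]
    norm_cast
  have s4 : (Nat.card G : ℝ) ^ 2 * (T.card * (T.card * (((p : ℝ) - 2) * EE P))) ≤
      (Nat.card G : ℝ) ^ 2 * ((p - 1) * ∑ χ ∈ B, s χ ^ 3 / dg χ) := by
    rw [mul_left_comm _ ((p : ℝ) - 1), ← s3, mul_left_comm, ← nsmul_eq_mul, Finset.mul_sum]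
    refine Finset.card_nsmul_le_sum _ _ _ fun x hx => ?_
    rw [show (p : ℝ) - 1 = (Finset.Ico 1 p).card by rw [Nat.card_Ico, Nat.cast_sub hp.out.one_le, Nat.cast_one],
      ← nsmul_eq_mul (Finset.Ico 1 p).card, ← Finset.sum_const, Finset.sum_congr rfl fun j hj =>
        (sum_pow_idx hTo hj (fun z hz => (hT _).2 ⟨pow_mem ((hT _).1 hz).1 j, pow_ne_one_of_lt_orderOf
          (by have := (Finset.mem_Ico.1 hj).1; omega) (hTo z hz ▸ (Finset.mem_Ico.1 hj).2)⟩) _).symm,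
      Finset.sum_comm, mul_left_comm, ← nsmul_eq_mul]
    refine Finset.card_nsmul_le_sum _ _ _ fun y hy => ?_
    rw [Finset.sum_comm, sq, mul_assoc, Nat.card_eq_fintype_card, ← nsmul_eq_mul]
    refine Finset.card_nsmul_le_sum _ _ _ fun g _ => ?_
    rw [Finset.sum_comm, ← nsmul_eq_mul]
    refine Finset.card_nsmul_le_sum _ _ _ fun k _ => ?_
    simpa only [conj_pow] using good _ _ ⟨x, hx, isConj_iff.2 ⟨g, rfl⟩⟩ ⟨y, hy, isConj_iff.2 ⟨k, rfl⟩⟩
  have s5 := le_of_mul_le_mul_left s4 (by have := Nat.card_pos (α := G); positivity)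
  have h5 : one G ∈ B := mem_bF.2 H37.one_mem_principalBlock
  have h6 : s (one G) = T.card := by
    apply Complex.ofReal_injective; rw [← (hs _ h5).1]; simp
  rw [← Finset.add_sum_erase _ _ h5, h6] at s2 s5
  have s6 : ∑ χ ∈ B.erase (one G), s χ ^ 3 / dg χ ≤ (r - 1) * ∑ χ ∈ B.erase (one G), s χ ^ 2 := by
    rw [Finset.mul_sum]
    refine Finset.sum_le_sum fun χ hχ => ?_
    rw [div_le_iff₀ (by exact_mod_cast dg_pos χ)]
    nlinarith [mul_le_mul_of_nonneg_left ((hs χ (Finset.mem_of_mem_erase hχ)).2 (Finset.ne_of_mem_erase hχ))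
      (sq_nonneg (s χ))]
  have r2 : r * r = Nat.card Z := Real.mul_self_sqrt (by positivity)
  have m1 : (1 : ℝ) ≤ T.card := by exact_mod_cast Finset.card_pos.2 ⟨z, (hT z).2 ⟨hz, z1⟩⟩
  have r0 : 0 ≤ r := Real.sqrt_nonneg _
  have r1 : 0 < r - 1 := by nlinarith
  have p1 : (0 : ℝ) ≤ p - 1 := by rw [sub_nonneg]; exact_mod_cast hp.out.one_le
  rw [dg_one, Nat.cast_one, div_one] at s5
  have s7 := s5.trans (mul_le_mul_of_nonneg_left (add_le_add le_rfl s6) p1)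
  rw [eq_sub_of_add_eq' s2, hm, ← r2] at s7
  rw [hm, ← r2] at m1
  rw [← r2]
  refine le_of_mul_le_mul_left ?_ (mul_pos r1 (show 0 < r * r - 1 by linarith))
  linarith

end H19.Loc2
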