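/- LOC2 (S3297), part E: the case `p` odd. -/
import Cfsg.Agent.H19.Loc2D
import Cfsg.Agent.H87.PairB

set_option autoImplicit false
set_option linter.unusedSectionVars false
set_option linter.unusedVariables false

namespace H19.Loc2

open Cfsg Subgroup H41 H28 H35 H87

universe u

variable {p : ℕ} [hp : Fact p.Prime]

theorem arith {p e q r : ℝ} (hp : 3 ≤ p) (hr : p ≤ r * r) (h0 : 0 ≤ r) (hq : r * r ≤ q)
    (he : 4 ≤ e ∨ (2 ≤ e ∧ 5 ≤ p)) (h : e * q * ((p - 2) * r - 1) ≤ (p - 1) * r * (r * r - 1)) : False := by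
  have r1 : 1 < r := by nlinarith
  have a1 : 0 < (p - 2) * r - 1 := by nlinarith
  rcases he with he | ⟨he, hp5⟩
  · have a2 : 4 * (r * r) * ((p - 2) * r - 1) ≤ e * q * ((p - 2) * r - 1) :=
      mul_le_mul_of_nonneg_right (mul_le_mul he hq (by positivity) (by linarith)) a1.le
    have a3 := le_of_mul_le_mul_left (a := r) (b := 4 * r * ((p - 2) * r - 1)) (c := (p - 1) * (r * r - 1))
      (by linarith) (by linarith)
    nlinarith [mul_nonneg (sub_nonneg.2 hp) (show 0 ≤ 3 * (r * r) + 1 by positivity), mul_pos (sub_pos.2 r1) (sub_pos.2 r1)]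
  · have r2 : 2 < r := by nlinarith
    have a2 : 2 * (r * r) * ((p - 2) * r - 1) ≤ e * q * ((p - 2) * r - 1) :=
      mul_le_mul_of_nonneg_right (mul_le_mul he hq (by positivity) (by linarith)) a1.le
    have a3 := le_of_mul_le_mul_left (a := r) (b := 2 * r * ((p - 2) * r - 1)) (c := (p - 1) * (r * r - 1))
      (by linarith) (by linarith)
    nlinarith [mul_nonneg (sub_nonneg.2 hp5) (show 0 ≤ r * r + 1 by positivity)]

theorem Hy.top_case {G : Type u} [Group G] [Finite G] {P : Sylow p G} (h : Hy P) (hp2 : p ≠ 2) (hc : Hc p G) {z : G}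
    (hz : z ∈ (P : Subgroup G)) (hzc : z ∈ CC P) (ho : orderOf z = p) (htop : normalClosure ({z} : Set G) = ⊤) :
    (P : Subgroup G).Normal := by
  cases nonempty_fintype G
  have z1 := ne_one_of_orderOf_prime ho
  have zp : z ^ p = 1 := ho ▸ pow_orderOf_eq_one z
  have p3 : 3 ≤ p := by have := hp.out.two_le; omega
  by_cases e1 : (KK P).relIndex (NN P) = 1
  · refine h.normal_of_iso hp2 hc ⊤ (mem_top z) hz ho fun x hx g _ hg => ?_
    obtain ⟨n, hn, e⟩ := h.ha x (zpowers_le_of_mem hz hx) _ hg ⟨g, rfl⟩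
    rw [← e, ← relIndex_eq_one.1 e1 hn x ⟨zpowers_le_of_mem hz hx, zpowers_le_of_mem hzc hx⟩, mul_inv_cancel_right]
  have e0 : (KK P).relIndex (NN P) ≠ 0 := index_ne_zero_of_finite
  have e3 : ¬ p ∣ (KK P).relIndex (NN P) := fun hd => P.not_dvd_index
    (hd.trans ((relIndex_dvd_of_le_left _ (le_KK P)).trans (relIndex_dvd_index_of_le le_normalizer)))
  by_cases e2 : (KK P).relIndex (NN P) = 2 ∧ p = 3
  · obtain ⟨e2, rfl⟩ := e2
    have hinv : ∀ n ∈ NN P, n * z * n⁻¹ ∈ zpowers z := fun n hn => by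
      by_cases hk : n ∈ KK P
      · rw [← hk z ⟨hz, hzc⟩, mul_inv_cancel_right]; exact mem_zpowers z
      have h2 : n * n ∈ KK P := mul_self_mem_of_index_two e2 (⟨n, hn⟩ : NN P)
      have h3 : z * (n * z * n⁻¹) = 1 := by_contra fun h3 => hk (h.mem_KK hn (mul_mem hz (conj_mem P hn hz)) h3 (by
        calc _ = (n * z * n⁻¹) * (n * n * z) * n⁻¹ := by group
          _ = (n * z * n⁻¹) * z * n := by rw [← h2 z ⟨hz, hzc⟩]; group
          _ = _ := by rw [hzc _ (conj_mem P hn hz)]))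
      rw [eq_inv_of_mul_eq_one_right h3]; exact inv_mem (mem_zpowers z)
    have h1 := h.count hc (Z := zpowers z) (zpowers_le_of_mem hz) (zpowers_le_of_mem hzc) (by
      rintro n hn _ ⟨k, rfl⟩
      simpa only [conj_zpow] using zpow_mem (hinv n hn) k) (by
      rintro _ ⟨k, rfl⟩
      show (z ^ k) ^ 3 = 1
      rw [← zpow_natCast, ← zpow_mul, mul_comm k, zpow_mul, zpow_natCast, zp, one_zpow]) (mem_zpowers z) z1 htop
    rw [EE, e2, Nat.card_zpowers, ho] at h1
    have h2 : (Nat.card (P : Subgroup G) : ℝ) < 5 := by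
      have r2 : √((3 : ℕ) : ℝ) * √((3 : ℕ) : ℝ) = 3 := by simp
      have r0 := Real.sqrt_nonneg ((3 : ℕ) : ℝ)
      have r1 : 17 / 10 < √((3 : ℕ) : ℝ) := Real.lt_sqrt_of_sq_lt (by norm_num)
      push_cast at h1 r2 r0 r1
      by_contra h3
      nlinarith
    have h3 : Nat.card (P : Subgroup G) = 3 := by
      obtain ⟨k, hk⟩ := IsPGroup.iff_card.1 P.2
      have h4 := ho ▸ orderOf_dvd_natCard _ hz
      have h5 : Nat.card (P : Subgroup G) < 5 := by exact_mod_cast h2
      have := Nat.card_pos (α := (P : Subgroup G))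
      omega
    have : Nontrivial G := ⟨z, 1, z1⟩
    exact h.normal_of_pn _ (H18.isPGroup_pCore 3) ((H18.isPSolvable_core_ne_bot
      (isPSolvable_of_pairs _ G rfl P (isCyclic_of_prime_card h3) hc)).resolve_right fun h4 => h4 h.core)
  let Z : Subgroup G :=
    { carrier := {x | x ∈ (P : Subgroup G) ∧ x ∈ CC P ∧ x ^ p = 1}
      one_mem' := ⟨one_mem _, one_mem _, one_pow _⟩
      mul_mem' := fun {a b} ha hb => ⟨mul_mem ha.1 hb.1, mul_mem ha.2.1 hb.2.1, by
        rw [Commute.mul_pow (hb.2.1 a ha.1), ha.2.2, hb.2.2, one_mul]⟩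
      inv_mem' := fun {a} ha => ⟨inv_mem ha.1, inv_mem ha.2.1, by rw [inv_pow, ha.2.2, inv_one]⟩ }
  have h1 := h.count hc (Z := Z) (fun x hx => hx.1) (fun x hx => hx.2.1) (fun n hn x hx => ⟨conj_mem P hn hx.1,
    h.cen_of_conj hx.1 hx.2.1 (conj_mem P hn hx.1), by rw [conj_pow, hx.2.2]; simp⟩) (fun x hx => hx.2.2)
    ⟨hz, hzc, zp⟩ z1 htop
  have r2 : √(Nat.card Z) * √(Nat.card Z) = Nat.card Z := Real.mul_self_sqrt (by positivity)
  rw [EE, Nat.cast_mul] at h1
  refine (arith (p := p) (e := (KK P).relIndex (NN P)) (q := Nat.card (P : Subgroup G)) (by exact_mod_cast p3) ?_ (Real.sqrt_nonneg _) ?_ ?_ (by rw [r2]; exact h1)).elim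
  · rw [r2]
    exact_mod_cast Nat.le_of_dvd Nat.card_pos (ho ▸ orderOf_dvd_natCard Z (x := z) ⟨hz, hzc, zp⟩)
  · rw [r2]
    exact_mod_cast card_le_of_le (H := Z) fun x hx => hx.1
  · have : 4 ≤ (KK P).relIndex (NN P) ∨ 2 ≤ (KK P).relIndex (NN P) ∧ 5 ≤ p := by
      have h4 : p ≠ 4 := by rintro rfl; exact absurd hp.out (by decide)
      by_cases h3 : p = 3
      · subst h3; omega
      · omega
    exact_mod_cast this

theorem odd_aux (hp2 : p ≠ 2) (n : ℕ) : ∀ (G : Type u) [Group G] [Finite G], Nat.card G = n → ∀ P : Sylow p G,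
    Hy P → Hc p G → (P : Subgroup G).Normal := by
  induction n using Nat.strong_induction_on with
  | _ n ih =>
  intro G _ _ hn P h hc
  rcases (P : Subgroup G).bot_or_exists_ne_one with e | ⟨u, hu, u1⟩
  · rw [e]; infer_instance
  obtain ⟨z, hz, hzc, ho⟩ := exists_center' P hu u1
  by_cases hP : (P : Subgroup G) ≤ normalClosure {z}
  · by_cases ht : normalClosure ({z} : Set G) = ⊤
    · exact h.top_case hp2 hc hz hzc ho ht
    have := ih _ (hn ▸ (H7.card_lt_of_lt (lt_top_iff_ne_top.2 ht)).trans_eq card_top) _ rfl _ (h.subgroup _ hP)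
      (hc.subgroup _)
    have := (P.subtype hP).characteristic_of_normal this
    have h2 := ConjAct.normal_of_characteristic_of_normal (K := (P.subtype hP : Subgroup (normalClosure {z})))
    rwa [Sylow.coe_subtype, subgroupOf_map_subtype, inf_of_le_left hP] at h2
  refine h.normal_of_iso hp2 hc (normalClosure {z}) (subset_normalClosure rfl) hz ho fun x hx g hg hx' => ?_
  obtain ⟨n, hn, e⟩ := h.ha x (zpowers_le_of_mem hz hx) _ hx' ⟨g, rfl⟩
  rw [← e, mul_inv_eq_iff_eq_mul]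
  by_contra hne
  refine hP (h.le_of_move _ (zpowers_le_of_mem hz hx) (zpowers_le_of_mem hzc hx) hn (c := g⁻¹ * n) ?_
    (by simpa using hg) hne)
  calc _ = g⁻¹ * (n * x * n⁻¹) * n := by group
    _ = _ := by rw [e]; group

/-- LOC2-A -/
theorem odd_normal {G : Type u} [Group G] [Finite G] (hp2 : p ≠ 2) {P : Sylow p G} (h : Hy P) (hc : Hc p G) :
    (P : Subgroup G).Normal := odd_aux hp2 _ G rfl P h hc

end H19.Loc2
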