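/- LOC2 (S3297), part F: the case `p = 2`. -/
import Cfsg.Agent.H19.Loc2A
import Cfsg.Agent.H89.OScott
import Cfsg.Agent.H17.FrobSys
import Cfsg.Agent.H14.Quasi
import Cfsg.Agent.H55.RkOne4
import Cfsg.Agent.H88.ASBase
import Cfsg.Agent.H32.SHKit
import Cfsg.Agent.H51.GoldHub
import Cfsg.Agent.H82.Hub
import Cfsg.Agent.H99.BenderB
import Cfsg.Agent.H31.CITMain
import Cfsg.Agent.H30.ZTIso
import Cfsg.Agent.H29.HoltCore

set_option autoImplicit false
set_option linter.unusedSectionVars false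
set_option linter.unusedVariables false

namespace H19.Loc2

open Cfsg Subgroup H41 H98

universe u

variable {G : Type u} [Group G] [Finite G] {P : Sylow 2 G}

theorem Hy.sol_cent (h : Hy P) {t : G} (ht : orderOf t = 2) : Group.IsSolvable (centralizer ({t} : Set G)) := by
  obtain ⟨g, hg⟩ := exists_conj_le P (pg_zpowers (y := t) ⟨1, ht ▸ by simp⟩)
  have := h.hb _ (hg t (mem_zpowers t)) ((H87.orderOf_eq_of_isConj (isConj_iff.2 ⟨g, rfl⟩)).symm.trans ht)
  refine H17.sol_of_hasNPC (H7.hasNPC_of_injective this (((MulAut.conj g).toMonoidHom.comp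
    (centralizer {t}).subtype).codRestrict _ fun y => mem_centralizer_singleton_iff.2 ?_) fun a b e => ?_)
  · simpa [mul_assoc] using congrArg (· * g⁻¹) (mem_centralizer_singleton_iff.1 y.2)
  · simpa using congrArg Subtype.val e

theorem Hy.socle (h : Hy P) (hnn : ¬ (P : Subgroup G).Normal) :
    ∃ L : Subgroup G, L.Normal ∧ IsSimpleGroup L ∧ ¬ IsMulCommutative L ∧ centralizer (L : Set G) = ⊥ := by
  have h2 : pCore 2 G = ⊥ := by_contra fun e => hnn (h.normal_of_pn _ (H18.isPGroup_pCore 2) e)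
  have : Nontrivial G := by_contra fun e => hnn (by
    have := not_nontrivial_iff_subsingleton.1 e
    rw [Subsingleton.elim (P : Subgroup G) ⊥]; infer_instance)
  by_contra h0
  obtain ⟨K, K', h3, h4, h5⟩ := H89.exists_two_comp ((H2.fitting_eq_pCore_of_pPrimeCore_eq_bot h.core).trans h2) h0
  obtain ⟨t, ht⟩ := exists_prime_orderOf_dvd_card' (G := K') 2 (even_iff_two_dvd.1 (H29.Holt.comp_even h4))
  exact H14.quasi_not_le_solvable h3.2 (h.sol_cent ((orderOf_coe t).trans ht)) fun x hx =>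
    mem_centralizer_singleton_iff.2 (H89.comp_comm h3 h4 h5 hx t.2)

/-- LOC2-B -/
theorem two_case (h : Hy P) (hnn : ¬ (P : Subgroup G).Normal) (hd : ¬ (IsElementaryAbelian 2 (P : Subgroup G) ∧
    ∀ x ∈ (P : Subgroup G), ∀ y ∈ (P : Subgroup G), x ≠ 1 → y ≠ 1 → ∃ g : G, g * x * g⁻¹ = y)) :
    Lie.IsoSuzuki G := by
  obtain ⟨L, hL, hs, hna, hC⟩ := h.socle hnn
  have hS := (isSyl_sylow P).inf_of_le_normalizer (N := L) le_top (le_normalizer_of_normal ..)
  have h1 : L ⊓ P ≠ ⊥ := fun e => by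
    have h2 := H2.le_pPrimeCore_of_not_dvd (p := 2) (N := L) (hS.eq_bot_iff.1 (by rwa [inf_comm]))
    rw [h.core, le_bot_iff] at h2
    exact hna (by rw [h2]; infer_instance)
  obtain ⟨z, hzL, hz, hzc, ho⟩ := exists_center P (W := L) (le_normalizer_of_normal ..) h1
  have z1 := H87.ne_one_of_orderOf_prime ho
  have z2 : z ^ 2 = 1 := ho ▸ pow_orderOf_eq_one z
  let A : Subgroup L := ((P : Subgroup G) ⊓ CC P).subgroupOf L
  have hA : IsStronglyClosed A (((P : Subgroup G) ⊓ L).subgroupOf L) :=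
    ⟨fun x hx => ⟨hx.1, x.2⟩, fun x hx g hg => ⟨hg.1, h.cen_of_conj hx.1 hx.2 hg.1⟩⟩
  have hAc : ∀ a ∈ A, ∀ b ∈ A, a * b = b * a := fun a ha b hb => Subtype.ext (hb.2 a ha.1)
  have hA1 : A ≠ ⊥ := fun e => z1 (congrArg Subtype.val (mem_bot.1 (e.le (x := ⟨z, hzL⟩) ⟨hz, hzc⟩)))
  obtain ⟨⟨x, hx, y, hy, x2, y2, x1, y1, hxy⟩, hcl⟩ := H32.SH.tr_of_sc hna hS.subgroupOf_top hA hAc hA1 _
    hS.subgroupOf_top
  have hcl' : ∀ w : L, (w : G) ∈ (P : Subgroup G) → w ^ 2 = 1 → w ≠ 1 → ∃ d ∈ L, d * z * d⁻¹ = w :=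
    fun w hw w2 w1 => by
      obtain ⟨d, -, e⟩ := hcl ⟨z, hzL⟩ ⟨hz, hzL⟩ w ⟨hw, w.2⟩ (Subtype.ext z2) w2
        (fun e => z1 (congrArg Subtype.val e)) w1
      exact ⟨d, d.2, congrArg Subtype.val e⟩
  obtain ⟨w, hw, w2, w1, hwz⟩ : ∃ w : L, (w : G) ∈ (P : Subgroup G) ∧ w ^ 2 = 1 ∧ w ≠ 1 ∧ (w : G) ≠ z := by
    by_cases e : (x : G) = z
    · exact ⟨y, hy.1, y2, y1, fun e' => hxy (Subtype.ext (e.trans e'.symm))⟩
    · exact ⟨x, hx.1, x2, x1, e⟩
  have hP : (P : Subgroup G) ≤ L := by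
    obtain ⟨d, hd, e⟩ := hcl' w hw w2 w1
    obtain ⟨n, hn, e'⟩ := h.ha z hz w hw ⟨d, e⟩
    refine h.le_of_move L hz hzc hn (c := d⁻¹ * n) ?_ (by simpa using hd) fun e2 => hwz ?_
    · calc _ = d⁻¹ * (n * z * n⁻¹) * n := by group
        _ = _ := by rw [e', ← e]; group
    · rw [← e', e2, mul_inv_cancel_right]
  have hel : ¬ ∀ x ∈ (P : Subgroup G), x * x = 1 := fun he => hd ⟨⟨⟨⟨fun a b => Subtype.ext (by
      have e : ∀ x ∈ (P : Subgroup G), x⁻¹ = x := fun x hx => inv_eq_of_mul_eq_one_right (he x hx)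
      show (a : G) * b = b * a
      rw [← e _ (mul_mem a.2 b.2), mul_inv_rev, e _ a.2, e _ b.2])⟩⟩, fun a ha => (sq a).trans (he a ha)⟩,
    fun a ha b hb a1 b1 => by
      obtain ⟨d, -, e⟩ := hcl' ⟨a, hP ha⟩ ha (Subtype.ext ((sq a).trans (he a ha))) fun e => a1 (congrArg Subtype.val e)
      obtain ⟨d', -, e'⟩ := hcl' ⟨b, hP hb⟩ hb (Subtype.ext ((sq b).trans (he b hb))) fun e => b1 (congrArg Subtype.val e)
      exact ⟨d' * d⁻¹, by rw [← show _ = a from e, ← show _ = b from e']; group⟩⟩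
  obtain ⟨H, hH⟩ := (H51.st1169 (P.subtype hP) A hA1 ⟨⟨fun a b => Subtype.ext (hAc _ a.2 _ b.2)⟩⟩
    ⟨fun x hx => hx.1, fun x hx g hg => ⟨hg, h.cen_of_conj hx.1 hx.2 hg⟩⟩).resolve_left fun hab => hel
      (H88.AS.gold hs hna (isSyl_sylow P) (le_inf le_rfl hP) (fun e => z1 (mem_bot.1 (e ▸ hz))) (fun a ha b hb =>
        congrArg Subtype.val (setLike_mul_comm (s := (P.subtype hP : Subgroup L)) (a := ⟨a, hP ha⟩) (b := ⟨b, hP hb⟩)
          ha hb)) fun _ _ _ hg => hg).1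
  have ti : ∀ g : G, ∀ x ∈ (P : Subgroup G), x ≠ 1 → g * x * g⁻¹ ∈ (P : Subgroup G) → g ∈ NN P := fun g x hx x1 hg => by
    have s1 := isSyl_sylow_of_le P hP
    have s2 := s1.cj_of_mem_normalizer (g := g) (le_normalizer_of_normal (H := L) (mem_top g))
    have e : (P : Subgroup G).subgroupOf L = (cj g P).subgroupOf L := by_contra fun e => x1 (by
      have := (H55.RkOne.ti_of_se hH s1.subgroupOf_top s2.subgroupOf_top e).le (x := ⟨_, hP hg⟩) ⟨hg, ⟨x, hx, rfl⟩⟩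
      simpa using congrArg Subtype.val (mem_bot.1 this))
    exact mem_normalizer_fintype fun y hy => e.ge (x := ⟨_, hL.conj_mem _ (hP hy) g⟩) ⟨y, hy, rfl⟩
  have hM : IsStronglyEmbedded (NN P) := (H88.isStronglyEmbedded_iff _).2 ⟨fun e => hnn (normalizer_eq_top_iff.1 e),
    ⟨z, le_normalizer hz, ho⟩, fun t ht o g hg => ti g t (mem_of_nor P ⟨1, o ▸ by simp⟩ ht)
      (H87.ne_one_of_orderOf_prime o) (mem_of_nor P ⟨1, by rw [conj_pow, ← o]; simp⟩ hg)⟩
  have hCC : HasNormalPComplement 2 (CC P) :=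
    H7.hasNPC_of_le (centralizer_le (Set.singleton_subset_iff.2 hz)) (h.hb z hz ho)
  have hO := H99.se_le_oddCore H82.hub hM (X := (pPrimeCore 2 (CC P)).map (CC P).subtype)
    ((map_subtype_le _).trans (centralizer_le_normalizer _)) (by
      rw [card_map_of_injective (subtype_injective _)]; exact H99.odd_card_oddCore) (by
      rintro n hn _ ⟨c, hc, rfl⟩
      refine ⟨⟨n * c * n⁻¹, fun x hx => ?_⟩, (H36.mem_pPrimeCore_iff_of_hasNPC hCC).2 ?_, rfl⟩
      · have := c.2 _ (conj_mem P (inv_mem hn) hx)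
        calc _ = n * (n⁻¹ * x * n⁻¹⁻¹ * c) * n⁻¹ := by group
          _ = _ := by rw [this]; group
      · have := (H36.mem_pPrimeCore_iff_of_hasNPC hCC).1 hc
        rw [← orderOf_coe] at this ⊢
        exact fun hd => this (hd.trans (H87.orderOf_eq_of_isConj (isConj_iff.2 ⟨n, rfl⟩)).symm.dvd))
  rw [h.core] at hO
  have hcen : ∀ t ∈ (P : Subgroup G), orderOf t = 2 → centralizer ({t} : Set G) ≤ P := fun t ht o c hc => by
    have t1 := H87.ne_one_of_orderOf_prime o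
    have e := mem_centralizer_singleton_iff.1 hc
    have cN := ti c t ht t1 (by rwa [e, mul_inv_cancel_right])
    obtain ⟨y, v, rfl, -, hy, hv, hm⟩ := ppart (p := 2) c
    have vC := h.cen_of_fix (hm _ cN).2 hv ht t1 (mem_centralizer_singleton_iff.1 (hm _ hc).2)
    rw [mem_bot.1 (hO (x := v) ⟨⟨v, vC⟩, (H36.mem_pPrimeCore_iff_of_hasNPC hCC).2 (by simpa using hv), rfl⟩), mul_one]
    exact mem_of_nor P hy (hm _ cN).1
  rcases H31.tiCases G P P ⟨le_rfl, ti, hcen, z, hz, ho, fun x hx =>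
    mem_centralizer_singleton_iff.2 (hzc x hx)⟩ with e | ⟨-, e⟩ | ⟨-, -, e | e⟩
  · exact (hnn e).elim
  · exact (hwz (e w hw z hz ((orderOf_coe w).trans (orderOf_eq_prime w2 w1)) ho)).elim
  · exact (hel e.1).elim
  · exact H30.ztIso G e

end H19.Loc2
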