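/- Slot M24-P27: the numerical searches for the columns of the principal `7`-block. -/
import Cfsg.Agent.H45.MN23

set_option autoImplicit false
set_option maxRecDepth 100000

namespace H19.M24
open H45.MN

/-- the search for an involution with centralizer order `c` -/
noncomputable def s27 (c : ℕ) : Bool :=
  (cas 244823040 7).all fun x => x.2.2 % 23 == 0 || x.2.2 % 11 == 0 || x.2.2 % 2 != 0 ||
    !((dvs (7 * x.2.1 * x.2.2)).any fun k => k % 14 == 0 && c % k == 0 && c / k % 7 == 1) ||
    degs 244823040 7 x.1 x.2.1
      (fun d => big 7 x.2.2 d && r23 d && hasC 244823040 [5, 7, 11, 23] 7 c d) fun D =>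
      colsF 244823040 [5, 7, 11, 23] 7 x.2.1 x.2.2 D c (fun _ _ => true) 0 fun _ => false

theorem s27a : s27 24640 = true := by decide +kernel
theorem s27b : s27 73920 = true := by decide +kernel
theorem s27c : s27 295680 = true := by decide +kernel
theorem s27d : s27 887040 = true := by decide +kernel
theorem s27e : s27 3548160 = true := by decide +kernel
theorem s27f : s27 10644480 = true := by decide +kernel

end H19.M24
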