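/- Slot M24-P27: the columns of the principal `7`-block. -/
import Cfsg.Agent.H45.MK
import Cfsg.Agent.H19.M24N27

set_option autoImplicit false

namespace H19.M24
open Cfsg H87 H45.MO H45.MN H45.M24

universe u

theorem not_s27 {G : Type u} [Group G] [Fintype G] [IsSimpleGroup G]
    (hG : Nat.card G = 244823040) (hA : HB G 23 11 1) {e v : ℕ} (hC : HB G 7 e v) (hv : ¬ 11 ∣ v)
    {a : G} (ha : orderOf a = 2) (h7 : 7 ∣ cc a) : s27 (cc a) ≠ true := by
  intro hs
  obtain ⟨n, L, E, s, A⟩ := hA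
  obtain ⟨n7, L7, E7, s7, C⟩ := hC
  have ha2 := H83.mul_self_of_orderOf_two ha
  have hc : Cl 244823040 [5, 7, 11, 23] 7 e v (cl s7 L7 1) (cc a) (cl s7 L7 a) :=
    hG ▸ C.col _ (by rw [hG]; simp; norm_num) a ha
  have h2 := C.even_v (by norm_num) ha h7
  obtain ⟨k, k1, k2, k3, k4⟩ := C.exists_k (a := a) (by rw [ha]; norm_num) h7
  rw [ha] at k2
  have h0 := List.all_eq_true.1 hs _ (hG ▸ C.mem)
  have hev : 7 * e * v ≠ 0 := fun h => by
    have h1 := C.ne0
    have h3 : v ≠ 0 := fun h3 => by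
      obtain ⟨g, hg⟩ := C.exists_ord
      have := C.ccp g hg
      rw [h3, mul_zero] at this
      exact Nat.card_pos.ne' this
    simp_all
  simp only [Bool.or_assoc] at h0
  have h1 := or_not (or_res (or_res (or_res h0 (C.ndv_v A (by norm_num))) (by simp; omega))
    (by simp; omega)) (List.any_eq_true.2 ⟨k, mem_dvs hev k1, by
      simp only [Bool.and_eq_true, beq_iff_eq]
      exact ⟨⟨Nat.mod_eq_zero_of_dvd k2, Nat.mod_eq_zero_of_dvd k3⟩, k4⟩⟩)
  have h4 := degs_spec (by norm_num) C.ne0 (hG ▸ C.deg _ fun χ h => by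
    simp only [C.big' h, r23, A.r23, C.hasC (by norm_num) ha2 hc h, Bool.and_self]) h1
  simpa using C.colsF (W := []) (by norm_num) ha2 hc (by simp) (fun _ _ _ _ => rfl) h4

theorem jobP27 : JobP27.{u} := by
  intro G _ _ _ hG hA e v hC hv a ha hm
  have key := not_s27 hG hA hC hv ha
  simp only [List.mem_cons, List.not_mem_nil, or_false] at hm
  rcases hm with h | h | h | h | h | h <;> rw [h] at key
  exacts [key (by norm_num) s27a, key (by norm_num) s27b, key (by norm_num) s27c,
    key (by norm_num) s27d, key (by norm_num) s27e, key (by norm_num) s27f]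

end H19.M24
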