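import Cfsg.Agent.H75.SymCoxeter

/-! Moore's presentation of the alternating groups. -/

set_option autoImplicit false

namespace H19.Moore

open Equiv H75

variable {G : Type*} [Group G] {m : ℕ}

/-- The generators `(0 1)(i+1 i+2)`. -/
def gen (i : Fin m) : alternatingGroup (Fin (m + 2)) :=
  ⟨adjSwap 0 * adjSwap i.succ, by
    rw [Perm.mem_alternatingGroup, map_mul, adjSwap, adjSwap,
      Perm.sign_swap Fin.castSucc_lt_succ.ne, Perm.sign_swap Fin.castSucc_lt_succ.ne]
    simp⟩

theorem gen_closure : Subgroup.closure (Set.range (gen (m := m))) = ⊤ := by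
  set H := (Subgroup.closure (Set.range (gen (m := m)))).map (alternatingGroup _).subtype
  have s2 : ∀ i : Fin (m + 1), adjSwap i * adjSwap i = 1 := fun i => swap_mul_self _ _
  have h0 : ∀ i : Fin m, adjSwap 0 * adjSwap i.succ ∈ H := fun i =>
    ⟨_, Subgroup.subset_closure ⟨i, rfl⟩, rfl⟩
  have h1 : ∀ i : Fin (m + 1), adjSwap 0 * adjSwap i ∈ H := fun i =>
    Fin.cases (s2 0 ▸ one_mem H) h0 i
  have h2 : ∀ i : Fin (m + 1), adjSwap i * adjSwap 0 ∈ H := fun i => by
    simpa [adjSwap] using inv_mem (h1 i)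
  have key : ∀ σ ∈ Subgroup.closure (Set.range (adjSwap (n := m + 1))),
      σ ∈ H ∨ adjSwap 0 * σ ∈ H := fun σ hσ => by
    have step : ∀ i σ, σ ∈ H ∨ adjSwap 0 * σ ∈ H →
        adjSwap i * σ ∈ H ∨ adjSwap 0 * (adjSwap i * σ) ∈ H := fun i σ h => h.symm.imp
      (fun h => by simpa [mul_assoc, ← mul_assoc (adjSwap 0), s2] using mul_mem (h2 i) h)
      fun h => by simpa [mul_assoc] using mul_mem (h1 i) h
    induction hσ using Subgroup.closure_induction_left with
    | one => exact .inl (one_mem H)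
    | mul_left x hx y _ h => obtain ⟨i, rfl⟩ := hx; exact step i y h
    | inv_mul_cancel x hx y _ h =>
      obtain ⟨i, rfl⟩ := hx
      rw [inv_eq_of_mul_eq_one_right (s2 i)]; exact step i y h
  refine top_unique fun σ _ => ?_
  rcases key σ (adjSwap_closure _ ▸ trivial) with ⟨τ, h, e⟩ | ⟨τ, -, e⟩
  · exact Subtype.ext e ▸ h
  · have := congrArg Perm.sign e
    simp [adjSwap, Perm.mem_alternatingGroup.1 τ.2, Perm.mem_alternatingGroup.1 σ.2] at this

/-- The swap action of `±1`. -/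
def sw (G : Type*) [Group G] : ℤˣ →* MulAut (G × G) where
  toFun u := if u = 1 then 1 else MulEquiv.prodComm
  map_one' := if_pos rfl
  map_mul' u v := by
    rcases Int.units_eq_one_or u with rfl | rfl <;> rcases Int.units_eq_one_or v with rfl | rfl <;>
      (simp; try rfl)

theorem exists_hom (f : Fin m → G) (h1 : ∀ i : Fin m, 1 ≤ i.val → f i ^ 2 = 1)
    (h0 : ∀ i : Fin m, i.val = 0 → f i ^ 3 = 1)
    (h3 : ∀ i j : Fin m, j.val = i.val + 1 → (f i * f j) ^ 3 = 1)
    (h2 : ∀ i j : Fin m, i.val + 1 < j.val → (f i * f j) ^ 2 = 1) :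
    ∃ ψ : alternatingGroup (Fin (m + 2)) →* G, ∀ i, ψ (gen i) = f i := by
  let F : Fin (m + 1) → G := Fin.cons 1 f
  let s : Fin (m + 1) → (G × G) ⋊[sw G] ℤˣ := fun i => ⟨((F i)⁻¹, F i), -1⟩
  have hs : ∀ i j, s i * s j = SemidirectProduct.inl ((F i)⁻¹ * F j, F i * (F j)⁻¹) := fun i j => by
    refine SemidirectProduct.ext ?_ (by simp [s, -SemidirectProduct.mk_eq_inl_mul_inr])
    rfl
  have hk : ∀ (i j : Fin m) (k : ℕ), 1 ≤ j.val → (f i * f j) ^ k = 1 →
      (s i.succ * s j.succ) ^ k = 1 := fun i j k hj e => by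
    have e1 : (f j)⁻¹ = f j := inv_eq_of_mul_eq_one_right (by rw [← sq, h1 j hj])
    rw [hs, ← map_pow, Prod.pow_mk, ← map_one SemidirectProduct.inl]
    simp only [F, Fin.cons_succ, e1, e]
    have e2 : (f i)⁻¹ * f j = f j * (f i * f j)⁻¹ * (f j)⁻¹ := by
      rw [mul_inv_rev, ← mul_assoc, mul_inv_cancel, one_mul, e1]
    rw [e2, conj_pow, inv_pow, e]
    simp [Prod.mk_one_one]
  have hk0 : ∀ (j : Fin m) (k : ℕ), f j ^ k = 1 → (s 0 * s j.succ) ^ k = 1 := fun j k e => by
    rw [hs, ← map_pow, Prod.pow_mk, ← map_one SemidirectProduct.inl]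
    simp [F, e, Prod.mk_one_one]
  have sq : ∀ i, s i * s i = 1 := fun i => by rw [hs]; simp [Prod.mk_one_one]
  obtain ⟨φ, hφ⟩ := exists_hom_perm s sq
    (fun i j e => by
      obtain ⟨j, rfl⟩ := Fin.exists_succ_eq.2 (show j ≠ 0 by rintro rfl; simp at e)
      induction i using Fin.cases with
      | zero => exact hk0 j 3 (h0 j (by simpa using e.symm))
      | succ i => exact hk i j 3 (by simp at e; omega) (h3 i j (by simp at e; omega)))
    fun i j e => by
      obtain ⟨j, rfl⟩ := Fin.exists_succ_eq.2 (show j ≠ 0 by rintro rfl; simp at e)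
      have : (s i * s j.succ) ^ 2 = 1 := by
        induction i using Fin.cases with
        | zero => exact hk0 j 2 (h1 j (by simp at e; omega))
        | succ i => exact hk i j 2 (by simp at e; omega) (h2 i j (by simp at e; omega))
      rw [Commute, SemiconjBy, ← inv_eq_of_mul_eq_one_right ((_root_.sq _).symm.trans this),
        mul_inv_rev, inv_eq_of_mul_eq_one_right (sq _), inv_eq_of_mul_eq_one_right (sq _)]
  have hr : ∀ σ, (φ σ).right = Perm.sign σ := fun σ =>
    DFunLike.congr_fun (MonoidHom.eq_of_eqOn_dense (adjSwap_closure _)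
      (f := SemidirectProduct.rightHom.comp φ) (g := Perm.sign) (by
        rintro _ ⟨i, rfl⟩
        simp [adjSwap, hφ, s, (Fin.castSucc_lt_succ (i := i)).ne])) σ
  refine ⟨MonoidHom.mk' (fun σ => (φ σ).left.1) fun σ τ => ?_, fun i => ?_⟩
  · simp [hr, Perm.mem_alternatingGroup.1 σ.2]
  · simp only [gen, adjSwap, MonoidHom.mk'_apply, map_mul, hφ, hs]
    simp [F]

theorem range_eq (ψ : alternatingGroup (Fin (m + 2)) →* G) :
    ψ.range = Subgroup.closure (Set.range fun i => ψ (gen i)) := by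
  rw [MonoidHom.range_eq_map, ← gen_closure, MonoidHom.map_closure, ← Set.range_comp]
  rfl

theorem gen_pow (i j : Fin m) (hj : 1 ≤ j.val) (k : ℕ)
    (h : orderOf (adjSwap i.succ * adjSwap j.succ) = k) : (gen i * gen j) ^ k = 1 := by
  have c : adjSwap (0 : Fin (m + 1)) * adjSwap j.succ = adjSwap j.succ * (adjSwap 0)⁻¹ := by
    have := pow_orderOf_eq_one (adjSwap (0 : Fin (m + 1)) * adjSwap j.succ)
    rw [orderOf_adjSwap_mul, if_neg (Fin.succ_ne_zero j).symm, if_neg (by simp; omega), sq] at this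
    rw [← inv_eq_of_mul_eq_one_right this]
    simp [adjSwap]
  ext1
  simp only [gen, Subgroup.coe_pow, Subgroup.coe_mul, c, Subgroup.coe_one]
  rw [mul_assoc, ← mul_assoc (adjSwap i.succ), ← mul_assoc, conj_pow, ← h, pow_orderOf_eq_one]
  simp

end H19.Moore
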