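import Cfsg.Agent.H23.NDSpec

/-! Tower ND (S4780), slot Lie0. -/

set_option autoImplicit false

namespace H19.NdLie0
open H23.ND

universe u

theorem card_dual (A : Type*) [AddCommGroup A] [Finite A] :
    Nat.card (A →+ Additive ℂˣ) = Nat.card A := by
  have : NeZero (Monoid.exponent (Multiplicative A)) := ⟨Monoid.exponent_ne_zero_of_finite⟩
  rw [Nat.card_congr AddMonoidHom.toMultiplicativeLeft,
    CommGroup.card_monoidHom_of_hasEnoughRootsOfUnity (Multiplicative A) ℂ]
  rfl

theorem exists_char (A : Type*) [AddCommGroup A] [Finite A] [Nontrivial A] :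
    ∃ ρ : A →+ Additive ℂˣ, ρ ≠ 0 := by
  by_contra h
  push Not at h
  have : Subsingleton (A →+ Additive ℂˣ) := ⟨fun a b => by rw [h a, h b]⟩
  have h1 := card_dual A
  rw [Nat.card_of_subsingleton (0 : A →+ Additive ℂˣ)] at h1
  have := Finite.one_lt_card (α := A)
  omega

/-- The counting lemma. -/
theorem count {A B : Type*} [AddCommGroup A] [AddCommGroup B] [Finite A] [Finite B]
    (β : A →+ B →+ Additive ℂˣ) (X : AddSubgroup B) (hX : ∀ a, ∀ x ∈ X, β a x = 0) :
    Nat.card A * Nat.card X ≤ Nat.card β.ker * Nat.card B := by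
  let γ : A →+ (B ⧸ X) →+ Additive ℂˣ :=
    { toFun := fun a => QuotientAddGroup.lift X (β a) (hX a)
      map_zero' := AddMonoidHom.ext fun b => by
        obtain ⟨b, rfl⟩ := QuotientAddGroup.mk_surjective b
        exact DFunLike.congr_fun (map_zero β) b
      map_add' := fun a a' => AddMonoidHom.ext fun b => by
        obtain ⟨b, rfl⟩ := QuotientAddGroup.mk_surjective b
        exact DFunLike.congr_fun (map_add β a a') b }
  have hk : γ.ker = β.ker := by
    ext a
    simp only [AddMonoidHom.mem_ker]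
    constructor
    · intro h
      exact AddMonoidHom.ext fun b => DFunLike.congr_fun h (QuotientAddGroup.mk b)
    · intro h
      refine AddMonoidHom.ext fun b => ?_
      obtain ⟨b, rfl⟩ := QuotientAddGroup.mk_surjective b
      exact DFunLike.congr_fun h b
  have hfin : Finite ((B ⧸ X) →+ Additive ℂˣ) :=
    Nat.finite_of_card_ne_zero (by rw [card_dual]; exact Nat.card_pos.ne')
  have h1 : Nat.card A = Nat.card γ.range * Nat.card γ.ker := by
    rw [← Nat.card_congr (QuotientAddGroup.quotientKerEquivRange γ).toEquiv]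
    exact AddSubgroup.card_eq_card_quotient_mul_card_addSubgroup _
  have h2 : Nat.card γ.range ≤ Nat.card (B ⧸ X) := by
    rw [← card_dual (B ⧸ X)]
    exact Nat.card_le_card_of_injective _ Subtype.val_injective
  have h3 := AddSubgroup.card_eq_card_quotient_mul_card_addSubgroup X
  rw [h1, hk, h3]
  calc Nat.card γ.range * Nat.card β.ker * Nat.card X
      ≤ Nat.card (B ⧸ X) * Nat.card β.ker * Nat.card X := by gcongr
    _ = _ := by ring

theorem card_surj {A B : Type*} [AddCommGroup A] [AddCommGroup B] (f : A →+ B)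
    (hf : Function.Surjective f) : Nat.card A = Nat.card B * Nat.card f.ker := by
  rw [← Nat.card_congr (QuotientAddGroup.quotientKerEquivOfSurjective f hf).toEquiv]
  exact AddSubgroup.card_eq_card_quotient_mul_card_addSubgroup _

theorem jobLie0 : JobLie0.{u} := by
  intro V1 V2 V3 V4 _ _ _ _ _ _ _ _ b11 b21 b31 b22 h h0
  have := h.n1
  have := h.n2
  have := h.n3
  have := h.n4
  obtain ⟨ρ, hρ⟩ := exists_char V4
  obtain ⟨σ, hσ⟩ := exists_char V2
  have anti : ∀ x y, b11 x y = - b11 y x := fun x y => by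
    have e := h.alt (x + y)
    simp only [map_add, AddMonoidHom.add_apply, h.alt, zero_add, add_zero] at e
    exact eq_neg_of_add_eq_zero_right e
  have j4 : ∀ a x y, b31 (b21 a x) y = b31 (b21 a y) x := fun a x y => by
    have e := h.j4 a x y
    rw [h0] at e
    exact sub_eq_zero.1 e
  -- the pairing `V1 × V3`
  let β : V1 →+ V3 →+ Additive ℂˣ := (b31.compr₂ ρ).flip
  have hβ : ∀ w b, β w b = ρ (b31 b w) := fun _ _ => rfl
  have c1 : Nat.card V1 ≤ Nat.card β.ker * Nat.card V3 := by
    simpa using count β ⊥ (by simp)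
  have hlt : Nat.card V3 < Nat.card V1 := by
    obtain ⟨x, hx⟩ := exists_ne (0 : V1)
    refine (h.lt x hx).trans_le ?_
    rw [card_surj (b11 x) (h.s1 x hx)]
    exact Nat.mul_le_mul_right _
      (Nat.card_le_card_of_surjective _ (b21.flip x).rangeRestrict_surjective)
  obtain ⟨w, hw, hw0⟩ : ∃ w ∈ β.ker, w ≠ 0 := by
    by_contra hn
    push Not at hn
    have : β.ker = ⊥ := (AddSubgroup.eq_bot_iff_forall _).2 hn
    rw [this] at c1
    simp at c1
    omega
  have f1 : ∀ w' ∈ β.ker, ∀ a, b21 a w' = 0 := fun w' hw' a => by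
    by_contra hn
    refine hρ (AddMonoidHom.ext fun z => ?_)
    obtain ⟨y, rfl⟩ := h.s3 _ hn z
    rw [j4, ← hβ, (AddMonoidHom.mem_ker).1 hw']
    rfl
  have z2 : ∀ a, (∀ y, b21 a y = 0) → a = 0 := fun a ha => by
    by_contra hn
    obtain ⟨b, hb⟩ := exists_ne (0 : V3)
    obtain ⟨y, rfl⟩ := h.s2 a hn b
    exact hb (ha y)
  have l1 : Nat.card V3 < Nat.card (b11 w).ker := by
    have e := h.lt w hw0
    have : (b21.flip w).range = ⊥ := (AddSubgroup.eq_bot_iff_forall _).2 (by
      rintro _ ⟨a, rfl⟩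
      exact f1 w hw a)
    rw [this] at e
    simpa using e
  have f2 : ∀ x ∈ (b11 w).ker, ∀ a, b21 a x = 0 := fun x hx a => by
    obtain ⟨y, rfl⟩ := h.s1 w hw0 a
    have e := h.j3 x y w
    rw [f1 w hw, (AddMonoidHom.mem_ker).1 hx, anti y w] at e
    simpa using e
  have f3 : ∀ x ∈ (b11 w).ker, ∀ x' ∈ (b11 w).ker, b11 x x' = 0 := fun x hx x' hx' =>
    z2 _ fun y => by
      have e := h.j3 x x' y
      rwa [f2 x hx, f2 x' hx', add_zero, add_zero] at e
  have f4 : β.ker ≤ (b11 w).ker := fun w' hw' => (AddMonoidHom.mem_ker).2 (z2 _ fun y => by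
    have e := h.j3 w w' y
    rwa [f1 w hw, f1 w' hw', add_zero, add_zero] at e)
  have c2 := card_surj (b11 w) (h.s1 w hw0)
  have c3 : Nat.card β.ker ≤ Nat.card (b11 w).ker := AddSubgroup.card_le_of_le f4
  let δ : (b11 w).ker →+ V1 →+ Additive ℂˣ := (b11.compr₂ σ).comp (b11 w).ker.subtype
  have hδ : ∀ x y, δ x y = σ (b11 x y) := fun _ _ => rfl
  have c4 := count δ (b11 w).ker fun x y hy => by rw [hδ, f3 x x.2 y hy, map_zero]
  have hk : δ.ker = ⊥ := (AddSubgroup.eq_bot_iff_forall _).2 fun x hx => by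
    by_contra hn
    refine hσ (AddMonoidHom.ext fun z => ?_)
    obtain ⟨y, rfl⟩ := h.s1 x (fun e => hn (Subtype.ext e)) z
    rw [← hδ, (AddMonoidHom.mem_ker).1 hx]
    rfl
  rw [hk, AddSubgroup.card_bot, one_mul, c2] at c4
  have hp : 0 < Nat.card (b11 w).ker := Nat.card_pos
  have c5 : Nat.card (b11 w).ker ≤ Nat.card V2 := Nat.le_of_mul_le_mul_right c4 hp
  have c6 : Nat.card V2 ≤ Nat.card V3 := by
    refine Nat.le_of_mul_le_mul_right ?_ hp
    rw [← c2, mul_comm]
    exact c1.trans (Nat.mul_le_mul_right _ c3)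
  omega

end H19.NdLie0
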