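/- Tower O7, slot O4s: `SL₂` on a four dimensional orthogonal space, split case. -/
import Cfsg.Agent.H31.O7B

set_option autoImplicit false

namespace H19.O7

open H56 QuadraticMap Module H31.O7
open H56.SL2M (xx yy hh ww xx_coe yy_coe hh_coe ww_coe)
open scoped MatrixGroups

universe u

section sl2
variable {F : Type*} [Field F]

theorem yy_add (a c : F) : yy (a + c) = yy a * yy c := by
  exact Subtype.ext (by simp [yy_coe])
theorem yy_zero : yy (0 : F) = 1 := by
  ext i j; fin_cases i <;> fin_cases j <;> simp [yy]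
theorem braid : (xx 1 * yy (-1) * xx 1 : SL(2, F)) = yy (-1) * xx 1 * yy (-1) := by
  exact Subtype.ext (by simp [xx_coe, yy_coe])
theorem ww_eq : (ww : SL(2, F)) = xx (-1) * yy 1 * xx (-1) := by
  exact Subtype.ext (by simp [xx_coe, yy_coe, ww_coe])
theorem hh_eq (s : Fˣ) : hh s = xx (s : F) * yy (-(s⁻¹ : Fˣ) : F) * xx (s : F) * ww := by
  exact Subtype.ext (by simp [xx_coe, yy_coe, hh_coe, ww_coe])
theorem hh_w (s : Fˣ) :
    hh s * (xx 1 * yy (-1) * xx 1) = xx (s : F) * yy ((-s⁻¹ : Fˣ) : F) * xx (s : F) := by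
  exact Subtype.ext (by simp [xx_coe, yy_coe, hh_coe])
theorem yy_eq (a : F) : yy a = ww * xx (-a) * ww⁻¹ := by
  rw [eq_mul_inv_iff_mul_eq]
  exact Subtype.ext (by simp [xx_coe, yy_coe, ww_coe])

theorem sl2_gen (H : Subgroup SL(2, F)) (hx : ∀ a, xx a ∈ H) (hy : ∀ a, yy a ∈ H) (g : SL(2, F)) :
    g ∈ H := by
  have w : ww ∈ H := ww_eq (F := F) ▸ mul_mem (mul_mem (hx _) (hy _)) (hx _)
  have h : ∀ s, hh s ∈ H := fun s => hh_eq s ▸ mul_mem (mul_mem (mul_mem (hx _) (hy _)) (hx _)) w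
  by_cases c : g 1 0 = 0
  · obtain ⟨s, t, rfl⟩ := SL2M.bruhat_zero g c
    exact mul_mem (h s) (hx t)
  · obtain ⟨t, u, e⟩ := SL2M.bruhat_ne g c
    exact e ▸ mul_mem (mul_mem (mul_mem (hx _) (h _)) w) (hx _)

end sl2

variable {K : Type u} [Field K] {W : Type u} [AddCommGroup W] [Module K W] {q : QuadraticForm K W}
  {F : Type} [Field F] [Fintype F] {b b' : W} {τ : Fˣ →* Kˣ} {u : F → O q}

theorem tri (h5 : 5 ≤ Fintype.card F) (hi : Function.Injective τ) {M : Type*} [AddCommGroup M]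
    [Module K M] {A B C : M} (h : ∀ a : Fˣ, (a : F) + 1 ≠ 0 →
      A + (τ a : K) • B + ((τ a : K) ^ 2) • C = 0) : A = 0 ∧ B = 0 ∧ C = 0 := by
  classical
  obtain ⟨x, hx, y, hy, z, hz, n1, n2, n3⟩ := Finset.two_lt_card.1
    (show 2 < (Finset.univ.erase (-1 : Fˣ)).card by
      rw [Finset.card_erase_of_mem (Finset.mem_univ _), Finset.card_univ, Fintype.card_units]; omega)
  have k : ∀ a ∈ Finset.univ.erase (-1 : Fˣ), A + (τ a : K) • B + ((τ a : K) ^ 2) • C = 0 :=
    fun a ha => h a fun e => Finset.ne_of_mem_erase ha (Units.ext (by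
      simpa using eq_neg_of_add_eq_zero_left e))
  have d : ∀ {a c : Fˣ}, a ≠ c → (τ a : K) - τ c ≠ 0 := fun n e =>
    n (hi (Units.ext (sub_eq_zero.1 e)))
  have e1 : B + ((τ x : K) + τ y) • C = 0 := smul_right_injective _ (d n1) (by
    linear_combination (norm := module) k x hx - k y hy)
  have e2 : B + ((τ x : K) + τ z) • C = 0 := smul_right_injective _ (d n2) (by
    linear_combination (norm := module) k x hx - k z hz)
  have e3 : C = 0 := smul_right_injective _ (d n3) (by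
    linear_combination (norm := module) e1 - e2)
  have e4 : B = 0 := by simpa [e3] using e1
  exact ⟨by simpa [e3, e4] using k x hx, e4, e3⟩

/-- The orthogonal complement of the hyperbolic pair. -/
def S0 (q : QuadraticForm K W) (b b' x : W) : Prop := polar q x b = 0 ∧ polar q x b' = 0

theorem S0.symm {x : W} (h : S0 q b b' x) : S0 q b' b x := ⟨h.2, h.1⟩

/-- The projection to `S0`. -/
def P0 (q : QuadraticForm K W) (b b' : W) : W →ₗ[K] W :=
  LinearMap.id - (q.polarBilin b').smulRight b - (q.polarBilin b).smulRight b'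

theorem P0_apply (w : W) : P0 q b b' w = w - polar q b' w • b - polar q b w • b' := rfl

theorem S0.p {x : W} (h : S0 q b b' x) : P0 q b b' x = x := by
  rw [P0_apply, polar_comm q b', polar_comm q b, h.1, h.2]; simp
theorem P0_b (H : IsHyp q b b') : P0 q b b' b = 0 := by simp [P0_apply, H.ee, H.fe]
theorem P0_b' (H : IsHyp q b b') : P0 q b b' b' = 0 := by simp [P0_apply, H.ff, H.ef]

theorem dec (H : IsHyp q b b') (w : W) : ∃ (α γ : K) (y : W), S0 q b b' y ∧ w = α • b + y + γ • b' :=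
  ⟨polar q b' w, polar q b w, P0 q b b' w, by
    simp [S0, P0_apply, polar_sub_left, polar_smul_left, H.ee, H.ff, H.ef, H.fe, polar_comm q w],
    by rw [P0_apply]; module⟩

theorem exists_S0 (H : IsHyp q b b') (nd : q.polarBilin.Nondegenerate) {c : W} (hc : S0 q b b' c)
    (c0 : c ≠ 0) : ∃ x, S0 q b b' x ∧ polar q x c ≠ 0 := by
  obtain ⟨w, hw⟩ := exists_polar_ne_zero nd c0
  obtain ⟨α, γ, y, h, rfl⟩ := dec H w
  exact ⟨y, h, by simpa [polar_add_right, polar_smul_right, hc.1, hc.2, polar_comm q y] using hw⟩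

/-- A root group normalised by the torus. -/
structure Tw (q : QuadraticForm K W) (b b' : W) (τ : Fˣ →* Kˣ) (u : F → O q) : Prop where
  hyp : IsHyp q b b'
  add : ∀ a c, u (a + c) = u a * u c
  zero : u 0 = 1
  cj : ∀ a : Fˣ, ∃ t : O q, u a = t * u 1 * t⁻¹ ∧ t b = (τ a : K) • b ∧
    t b' = (τ a : K)⁻¹ • b' ∧ ∀ x, S0 q b b' x → t x = x

omit [Fintype F] in
theorem Tw.symm (h : Tw q b b' τ u) : Tw q b' b τ⁻¹ u :=
  ⟨h.hyp.symm, h.add, h.zero, fun a => let ⟨t, h1, h2, h3, h4⟩ := h.cj a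
    ⟨t, h1, by simpa using h3, by simpa using h2, fun x hx => h4 x hx.symm⟩⟩

omit [Fintype F] in
theorem Tw.ub (h : Tw q b b' τ u) {α γ : K} {y : W} (hy : S0 q b b' y)
    (e : u 1 b = α • b + y + γ • b') (a : Fˣ) :
    u a b = α • b + (τ a : K)⁻¹ • y + ((τ a : K)⁻¹ ^ 2 * γ) • b' := by
  obtain ⟨t, h1, h2, h3, h4⟩ := h.cj a
  have : t⁻¹ b = (τ a : K)⁻¹ • b := by
    rw [O.inv_apply_eq, map_smul, h2, inv_smul_smul₀ (τ a).ne_zero]
  rw [h1, O.mul_apply, O.mul_apply, this, map_smul, e, map_smul, map_add, map_add, map_smul,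
    map_smul, h2, h3, h4 y hy]
  match_scalars <;> field_simp

omit [Fintype F] in
theorem Tw.ux (h : Tw q b b' τ u) {l l' : K} {x n : W} (hx : S0 q b b' x) (hn : S0 q b b' n)
    (e : u 1 x = l • b + n + l' • b') (a : Fˣ) :
    u a x = (τ a * l) • b + n + ((τ a : K)⁻¹ * l') • b' := by
  obtain ⟨t, h1, h2, h3, h4⟩ := h.cj a
  rw [h1, O.mul_apply, O.mul_apply, (O.inv_apply_eq t).2 (h4 x hx).symm, e, map_add, map_add,
    map_smul, map_smul, h2, h3, h4 n hn]
  module

omit [Fintype F] in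
theorem Tw.ub' (h : Tw q b b' τ u) {α μ : K} {y : W} (hy : S0 q b b' y)
    (e : u 1 b' = α • b' + y + μ • b) (a : Fˣ) :
    u a b' = α • b' + (τ a : K) • y + ((τ a : K) ^ 2 * μ) • b := by
  simpa using h.symm.ub hy.symm e a

omit [Fintype F] in
theorem Tw.succ (h : Tw q b b' τ u) (a : Fˣ) (ha : (a : F) + 1 ≠ 0) (w : W) :
    u a (u 1 w) = u (Units.mk0 _ ha) w := by rw [Units.val_mk0, h.add, O.mul_apply]

omit [Fintype F] in
theorem Tw.neg (h : Tw q b b' τ u) (w : W) : u (-1 : Fˣ) (u 1 w) = w := by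
  rw [← O.mul_apply, ← h.add]; simp [h.zero]

variable (h5 : 5 ≤ Fintype.card F) (hi : Function.Injective τ)
include h5 hi

theorem Tw.alpha (h : Tw q b b' τ u) {α γ : K} {y : W} (hy : S0 q b b' y)
    (e : u 1 b = α • b + y + γ • b') : α = 1 := by
  have H := h.hyp
  obtain ⟨l, l', n, hn, e1⟩ := dec H (u 1 y)
  obtain ⟨α', μ, y', hy', e2⟩ := dec H.symm (u 1 b')
  have k : ∀ a : Fˣ, polar q (u a (u 1 b)) b' = α * α + τ a * l + (τ a : K) ^ 2 * (γ * μ) := fun a => by
    rw [e, map_add, map_add, map_smul, map_smul, h.ub hy e, h.ux hy hn e1, h.ub' hy'.symm e2]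
    simp only [polar_add_left, polar_smul_left, H.ef, H.ff, hy.2, hn.2, hy'.1, smul_eq_mul]
    ring
  obtain ⟨a1, a2, a3⟩ := tri h5 hi (A := α * α - α) (B := l) (C := γ * μ) fun a ha => by
    have := k a
    rw [h.succ a ha, h.ub hy e] at this
    simp only [polar_add_left, polar_smul_left, H.ef, H.ff, hy.2, smul_eq_mul] at this ⊢
    linear_combination -this
  have := k (-1)
  rw [h.neg, H.ef, a2, a3] at this
  linear_combination -this - a1

theorem Tw.mid (h : Tw q b b' τ u) {α γ α' μ l l' : K} {x y y' n : W} (hy : S0 q b b' y)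
    (e : u 1 b = α • b + y + γ • b') (hy' : S0 q b b' y') (e2 : u 1 b' = α' • b' + y' + μ • b)
    (hx : S0 q b b' x) (hn : S0 q b b' n) (e3 : u 1 x = l • b + n + l' • b') :
    n = x ∧ l • y = 0 ∧ l' • y' = 0 := by
  have H := h.hyp
  obtain ⟨m, m', n', hn', e1⟩ := dec H (u 1 n)
  have k : ∀ a : Fˣ, P0 q b b' (u a (u 1 x)) =
      (l * (τ a : K)⁻¹) • y + n' + (l' * τ a) • y' := fun a => by
    simp only [e3, map_add, map_smul, h.ub hy e, h.ux hn hn' e1, h.ub' hy' e2, P0_b H, P0_b' H, hy.p,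
      hy'.p, hn'.p]
    module
  obtain ⟨a1, a2, a3⟩ := tri h5 hi (A := l • y) (B := n' - n) (C := l' • y') fun a ha => by
    have := k a
    rw [h.succ a ha, h.ux hx hn e3] at this
    simp only [map_add, map_smul, P0_b H, P0_b' H, hn.p, smul_zero, zero_add, add_zero] at this
    rw [this]
    match_scalars <;> field_simp <;> ring
  have := k (-1)
  rw [h.neg, hx.p, mul_comm l, mul_comm l', mul_smul, mul_smul, a1, a3] at this
  exact ⟨by rw [this, ← sub_eq_zero.1 a2]; simp, a1, a3⟩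

omit h5 hi in
/-- The normal form. -/
structure Up (q : QuadraticForm K W) (b b' : W) (τ : Fˣ →* Kˣ) (u : F → O q) (c : W) : Prop
    extends Tw q b b' τ u where
  s0 : S0 q b b' c
  b1 : ∀ a, u a b = b
  x1 : ∀ (a : Fˣ) x, S0 q b b' x → u a x = x - (τ a * polar q x c) • b
  b2 : ∀ a : Fˣ, u a b' = b' + (τ a : K) • c - ((τ a : K) ^ 2 * q c) • b

omit [Fintype F] h5 in
theorem inj_inv : Function.Injective (τ⁻¹ : Fˣ →* Kˣ) := fun _ _ e => hi (inv_injective e)

theorem Tw.up (h : Tw q b b' τ u) {α γ : K} (e : u 1 b = α • b + 0 + γ • b') :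
    ∃ c, Up q b b' τ u c := by
  have H := h.hyp
  have z : S0 q b b' 0 := ⟨by simp, by simp⟩
  obtain rfl := h.alpha h5 hi z e
  obtain rfl : γ = 0 := by
    have := O.map_Q (u 1) b
    rwa [e, add_zero, H.Q_comb, one_mul, H.qe] at this
  obtain ⟨α', μ, c, hc, e2⟩ := dec H.symm (u 1 b')
  obtain rfl := h.symm.alpha h5 (inj_inv hi) hc e2
  have e1 : u 1 b = b := by simpa using e
  obtain rfl : μ = -q c := by
    have := O.map_Q (u 1) b'
    rw [e2] at this
    simp only [Q_add, Q_smul, polar_add_left, polar_smul_left, polar_smul_right, H.qe, H.qf, H.fe, hc.2,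
      polar_comm q b' c, hc.1, smul_eq_mul] at this
    linear_combination this
  refine ⟨c, h, hc.symm, fun a => ?_, fun a x hx => ?_, fun a => ?_⟩
  · by_cases a0 : a = 0
    · rw [a0, h.zero, O.one_apply]
    · simpa using h.ub z e (Units.mk0 a a0)
  · obtain ⟨l, l', n, hn, e3⟩ := dec H (u 1 x)
    obtain ⟨rfl, -, -⟩ := h.mid h5 hi z e hc.symm e2 hx hn e3
    have a1 := O.map_polar (u 1) n b
    have a2 := O.map_polar (u 1) n b'
    rw [e1, e3] at a1
    rw [e2, e3] at a2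
    simp only [polar_add_left, polar_smul_left, polar_add_right, polar_smul_right, H.ee, H.ef, H.fe,
      H.ff, hx.1, hx.2, polar_comm q b c, polar_comm q b' c, hc.1, hc.2, smul_eq_mul] at a1 a2
    rw [h.ux hx hn e3, show l' = 0 by linear_combination a1,
      show l = -polar q n c by linear_combination a2 + q c * a1]
    module
  · rw [h.ub' hc.symm e2]; module

theorem Tw.cases (nd : q.polarBilin.Nondegenerate) (h : Tw q b b' τ u) :
    (∃ c, Up q b b' τ u c) ∨ ∃ c, Up q b' b τ⁻¹ u c := by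
  have H := h.hyp
  obtain ⟨α, γ, y, hy, e⟩ := dec H (u 1 b)
  obtain ⟨α', μ, y', hy', e2⟩ := dec H.symm (u 1 b')
  by_cases y0 : y = 0
  · exact .inl (h.up h5 hi (y0 ▸ e))
  by_cases y1 : y' = 0
  · exact .inr (h.symm.up h5 (inj_inv hi) (y1 ▸ e2))
  obtain ⟨x, hx, n⟩ := exists_S0 H nd hy y0
  obtain ⟨l, l', _, hn, e3⟩ := dec H (u 1 x)
  obtain ⟨rfl, a1, a2⟩ := h.mid h5 hi hy e hy'.symm e2 hx hn e3
  have := O.map_polar (u 1) _ b ▸ hx.1
  rw [e3, e, (smul_eq_zero.1 a1).resolve_right y0, (smul_eq_zero.1 a2).resolve_right y1] at this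
  exact absurd (by simpa [polar_add_right, polar_smul_right, hx.1, hx.2] using this) n

omit h5 hi [Fintype F]

theorem Up.triv (h : Up q b b' τ u 0) (a : F) : u a = 1 := by
  by_cases a0 : a = 0
  · rw [a0, h.zero]
  refine O.ext fun w => ?_
  obtain ⟨α, γ, y, hy, rfl⟩ := dec h.hyp w
  have a1 := h.x1 (Units.mk0 a a0) y hy
  have a2 := h.b2 (Units.mk0 a a0)
  rw [Units.val_mk0] at a1 a2
  simp [h.b1, a1, a2]

theorem Up.p {c : W} (h : Up q b b' τ u c) (a : Fˣ) :
    P0 q b b' (u a (u 1 b')) = ((τ a : K) + 1) • c := by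
  have e := h.b2 1
  rw [Units.val_one] at e
  rw [e]
  simp only [map_add, map_sub, map_smul, h.b1, h.b2, h.x1 a c h.s0, P0_b h.hyp, P0_b' h.hyp, h.s0.p,
    map_one, Units.val_one]
  module

theorem Up.succ_eq {c : W} (h : Up q b b' τ u c) (c0 : c ≠ 0) (a : Fˣ) (ha : (a : F) + 1 ≠ 0) :
    (τ (Units.mk0 _ ha) : K) = τ a + 1 := by
  have := h.p a
  rw [h.succ a ha, h.b2] at this
  simp only [map_add, map_sub, map_smul, P0_b h.hyp, P0_b' h.hyp, h.s0.p] at this
  exact smul_left_injective K c0 (by simpa using this)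

theorem Up.neg_one {c : W} (h : Up q b b' τ u c) (c0 : c ≠ 0) : (τ (-1) : K) = -1 := by
  have := h.p (-1)
  rw [h.neg, P0_b' h.hyp] at this
  exact eq_neg_of_add_eq_zero_left ((smul_eq_zero.1 this.symm).resolve_right c0)

theorem Up.fix {c w : W} (h : Up q b b' τ u c) (c0 : c ≠ 0) {α γ : K} (hw : S0 q b b' w)
    (e : u 1 (α • b + w + γ • b') = α • b + w + γ • b') : γ = 0 ∧ polar q w c = 0 := by
  have a1 := h.x1 1 w hw
  have a2 := h.b2 1
  rw [Units.val_one, map_one, Units.val_one] at a1 a2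
  rw [map_add, map_add, map_smul, map_smul, h.b1, a1, a2] at e
  have e1 := congrArg (P0 q b b') e
  simp only [map_add, map_sub, map_smul, P0_b h.hyp, P0_b' h.hyp, h.s0.p, hw.p] at e1
  obtain rfl : γ = 0 := (smul_eq_zero.1 (by linear_combination (norm := module) e1)).resolve_right c0
  exact ⟨rfl, (smul_eq_zero.1 (by linear_combination (norm := module) -e)).resolve_right h.hyp.ne_zero⟩

variable [Fintype F] [FiniteDimensional K W]

theorem core (h5 : 5 ≤ Fintype.card F) (hi : Function.Injective τ) (nd : q.polarBilin.Nondegenerate)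
    (h4 : finrank K W = 4) {φ : SL(2, F) →* O q} {c c' : W}
    (hu : Up q b b' τ (fun a => φ (xx a)) c) (hv : Up q b' b τ (fun a => φ (yy a)) c')
    (c0 : c ≠ 0) (c0' : c' ≠ 0)
    (hs : ∀ s, ∃ k : K, ∀ x, S0 q b b' x → φ (hh s) x = k • x) :
    ∃ x, x ≠ 0 ∧ S0 q b b' x ∧ ∀ x', (∀ g, φ g x' = x') ↔ ∃ k : K, x' = k • x := by
  have H := hu.hyp
  have s1 := hu.s0
  have s2 := hv.s0.symm
  have u1 : φ (xx 1) b = b := hu.b1 1
  have u2 : ∀ x, S0 q b b' x → φ (xx 1) x = x - polar q x c • b := fun x hx => by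
    simpa using hu.x1 1 x hx
  have u3 : φ (xx 1) b' = b' + c - q c • b := by simpa using hu.b2 1
  have v1 : φ (yy (-1)) b' = b' := hv.b1 (-1)
  have v2 : ∀ x, S0 q b b' x → φ (yy (-1)) x = x + polar q x c' • b' := fun x hx => by
    simpa [hu.neg_one c0] using hv.x1 (-1) x hx.symm
  have v3 : φ (yy (-1)) b = b - c' - q c' • b' := by
    simpa [hu.neg_one c0, sub_eq_add_neg] using hv.b2 (-1)
  have br : ∀ w, P0 q b b' (φ (xx 1) (φ (yy (-1)) (φ (xx 1) w))) =
      P0 q b b' (φ (yy (-1)) (φ (xx 1) (φ (yy (-1)) w))) := fun w => by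
    simp only [← O.mul_apply, ← map_mul, ← mul_assoc, braid]
  have e1 : ∀ x, S0 q b b' x → (polar q x c * q c') • c = (polar q x c' * q c) • c' := fun x hx => by
    have := br x
    simp only [map_add, map_sub, map_smul, u1, u3, v1, v3, u2 x hx, v2 x hx, u2 _ s2, v2 _ s1,
      P0_b H, P0_b' H, hx.p, s1.p, s2.p] at this
    linear_combination (norm := module) this
  obtain ⟨k, rfl⟩ : ∃ k : K, c' = k • c := by
    obtain ⟨x, hx, n⟩ := exists_S0 H nd s1 c0
    obtain ⟨x', hx', n'⟩ := exists_S0 H nd s2 c0'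
    by_cases q1 : q c = 0
    swap
    · exact ⟨_, by rw [eq_inv_smul_iff₀ (mul_ne_zero n' q1) |>.2 (e1 x' hx').symm, smul_smul]⟩
    have q2 : q c' = 0 := by simpa [q1, c0, n] using e1 x hx
    have P : polar q c' c = -1 := by
      have e := br b
      simp only [map_add, map_sub, map_smul, u1, u3, v1, v3, u2 _ s2, v2 _ s1,
        v2 _ s2, P0_b H, P0_b' H, s1.p, s2.p, q1, q2] at e
      exact eq_neg_of_add_eq_zero_left ((smul_eq_zero.1 (by
        linear_combination (norm := module) e)).resolve_right c0')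
    refine absurd (tri h5 hi (A := (-1 : K)) (B := 0) (C := 1) fun s _ => ?_).2.2 one_ne_zero
    obtain ⟨k, hk⟩ := hs s
    have a1 := O.map_polar (φ (hh s)) c' c
    rw [hk _ s1, hk _ s2, polar_smul_left, polar_smul_right, P] at a1
    have a2 := congrArg (fun g => φ g b') (hh_w s)
    have a3 := hv.x1 (-s⁻¹) c s1.symm
    have a4 := hu.x1 s c s1
    have a5 := hu.b2 s
    rw [show (τ (-s⁻¹) : K) = -(τ s : K)⁻¹ by
      rw [← neg_one_mul, map_mul, Units.val_mul, hu.neg_one c0, map_inv]; simp, polar_comm, P] at a3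
    simp only [map_mul, O.mul_apply, map_add, map_sub, map_smul, u3, v1, u2 _ s1, v2 _ s1, q1,
      polar_comm q c c', P, polar_self', a3, a4, a5, hv.b1, hk _ s1, mul_zero, zero_smul,
      sub_zero] at a2
    have a6 := congrArg (P0 q b b') a2
    simp only [map_add, map_sub, map_smul, P0_b' H, s1.p] at a6
    have n1 := mul_inv_cancel₀ (τ s).ne_zero
    obtain rfl : k = τ s := smul_left_injective K c0 (by
      linear_combination (norm := module) a6 - ((τ s : K) • n1) • c)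
    simp only [smul_eq_mul] at a1 ⊢
    linear_combination -a1
  have li : LinearIndependent K ![b, b', c] := Fintype.linearIndependent_iff.2 fun g hg => by
    simp only [Fin.sum_univ_three, Matrix.cons_val] at hg
    have a1 := congrArg (polar q · b') hg
    have a2 := congrArg (polar q · b) hg
    have a3 := congrArg (P0 q b b') hg
    simp [polar_add_left, polar_smul_left, H.ee, H.ef, H.fe, H.ff, s1.1, s1.2, P0_b H, P0_b' H, s1.p,
      c0] at a1 a2 a3
    intro i; fin_cases i <;> assumption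
  have d := finrank_perp nd (Submodule.span K (Set.range ![b, b', c]))
  rw [finrank_span_eq_card li, h4, Fintype.card_fin] at d
  have m : ∀ x, x ∈ perp q (Submodule.span K (Set.range ![b, b', c])) ↔
      S0 q b b' x ∧ polar q x c = 0 := fun x => by
    simp [mem_perp_span, S0, polar_comm q x, and_assoc]; tauto
  obtain ⟨⟨x, hx⟩, x0, hx'⟩ := (finrank_eq_one_iff' (K := K)
    (V := perp q (Submodule.span K (Set.range ![b, b', c])))).1 (by omega)
  obtain ⟨x1, x2⟩ := (m x).1 hx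
  refine ⟨x, fun e => x0 (Subtype.ext e), x1, fun x' => ⟨fun h => ?_, ?_⟩⟩
  · obtain ⟨α, γ, w, hw, rfl⟩ := dec H x'
    obtain ⟨rfl, a1⟩ := hu.fix c0 hw (h _)
    obtain ⟨rfl, -⟩ := hv.fix (α := 0) (γ := α) c0' hw.symm (by
      simpa only [add_comm, add_left_comm, add_assoc] using h (yy 1))
    obtain ⟨r, hr⟩ := hx' ⟨w, (m w).2 ⟨hw, a1⟩⟩
    exact ⟨r, by simpa using (congrArg Subtype.val hr).symm⟩
  · rintro ⟨r, rfl⟩ g
    rw [map_smul, show φ g x = x from sl2_gen ((MulAction.stabilizer (O q) x).comap φ)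
      (fun a => ?_) (fun a => ?_) g]
    all_goals by_cases a0 : a = 0
    · rw [a0, SL2M.xx_zero]; exact one_mem _
    · exact show φ _ x = x by simpa [x2] using hu.x1 (Units.mk0 a a0) x x1
    · rw [a0, yy_zero]; exact one_mem _
    · exact show φ _ x = x by simpa [x2, polar_smul_right] using hv.x1 (Units.mk0 a a0) x x1.symm

theorem jobO4s : JobO4s.{u} := by
  intro K _ W _ _ _ q b b₀ h p F _ _ _ _ h5 φ t ξ fac ht hs
  by_cases tr : ∀ a, φ (xx a) = 1
  · exact .inl (sl2_gen φ.ker tr fun a => by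
      rw [MonoidHom.mem_ker, yy_eq, map_mul, map_mul, tr, mul_one, ← map_mul, mul_inv_cancel, map_one])
  have tr' : ¬ ∀ a, φ (yy a) = 1 := fun k => tr fun a => by
    have := k (-a)
    rwa [yy_eq, neg_neg, map_mul, map_mul, map_inv, mul_inv_eq_one, mul_eq_left] at this
  obtain ⟨b', e⟩ : ∃ b', b' = (polar q b b₀)⁻¹ • b₀ := ⟨_, rfl⟩
  have H : IsHyp q b b' := ⟨h.qb, by rw [e, Q_smul, h.qb', mul_zero], by
    rw [e, polar_smul_right, smul_eq_mul, inv_mul_cancel₀ h.ne]⟩
  have s : ∀ x, S0 q b b' x ↔ polar q x b = 0 ∧ polar q x b₀ = 0 := fun x => by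
    simp [S0, e, polar_smul_right, h.ne]
  have t1 : ∀ a, t a b = (ξ a : K) • b ∧ t a b' = (ξ a : K)⁻¹ • b' ∧ ∀ x, S0 q b b' x → t a x = x :=
    fun a => ⟨(ht a).1, by rw [e, map_smul, (ht a).2.1, smul_comm, Units.smul_def, Units.val_inv_eq_inv_val],
      fun x hx => (ht a).2.2 x ((s x).1 hx).1 ((s x).1 hx).2⟩
  have hi : Function.Injective ξ := (injective_iff_map_eq_one ξ).2 fun a ha => by
    by_contra n
    have t0 : t a = 1 := O.ext fun w => by
      obtain ⟨α, γ, y, hy, rfl⟩ := dec H w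
      simp [(t1 a).1, (t1 a).2.1, (t1 a).2.2 y hy, ha]
    have n1 : (a : F) - 1 ≠ 0 := fun k => n (Units.ext (sub_eq_zero.1 k))
    refine tr' fun c => ?_
    have := (fac a (c / (a - 1))).2
    rwa [t0, one_mul, inv_one, mul_one, show a * (c / ((a : F) - 1)) = c / (a - 1) + c by
      field_simp; ring, yy_add, map_mul, left_eq_mul] at this
  have U : Tw q b b' ξ⁻¹ fun a => φ (xx a) :=
    ⟨H, fun a c => by rw [SL2M.xx_add, map_mul], by rw [SL2M.xx_zero, map_one], fun a =>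
      ⟨t a⁻¹, by simpa using (fac a⁻¹ 1).1.symm, by simpa using t1 a⁻¹⟩⟩
  have V : Tw q b b' ξ fun a => φ (yy a) :=
    ⟨H, fun a c => by rw [yy_add, map_mul], by rw [yy_zero, map_one], fun a =>
      ⟨t a, by simpa using (fac a 1).2.symm, t1 a⟩⟩
  have hs' : ∀ a, ∃ k : K, ∀ x, S0 q b b' x → φ (hh a) x = k • x := fun a =>
    (hs a).imp fun k hk x hx => hk x ((s x).1 hx).1 ((s x).1 hx).2
  have no : ∀ {b₁ b₂ b₃ b₄ c c' : W} {u v : F → O q}, Up q b₁ b₂ ξ u c → Up q b₃ b₄ ξ⁻¹ v c' →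
      c ≠ 0 → c' ≠ 0 → False := fun a1 a2 c0 c0' => by
    refine absurd (tri h5 hi (A := (1 : K)) (B := 1) (C := 1) fun r hr => ?_).1 one_ne_zero
    have e1 := a1.succ_eq c0 r hr
    have e2 := a2.succ_eq c0' r hr
    simp only [MonoidHom.inv_apply, Units.val_inv_eq_inv_val, e1, smul_eq_mul] at e2 ⊢
    have n1 := (ξ r).ne_zero
    have n2 : (ξ r : K) + 1 ≠ 0 := e1 ▸ Units.ne_zero _
    field_simp at e2
    linear_combination -e2
  refine .inr ?_
  simp only [← and_assoc, ← s]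
  simp only [and_assoc]
  rcases U.cases h5 (inj_inv hi) h.nd with ⟨c, U⟩ | ⟨c, U⟩ <;>
    rcases V.cases h5 hi h.nd with ⟨c', V⟩ | ⟨c', V⟩ <;>
    have c0 : c ≠ 0 := (by rintro rfl; exact tr U.triv) <;>
    have c0' : c' ≠ 0 := (by rintro rfl; exact tr' V.triv)
  · exact (no V U c0' c0).elim
  · exact core h5 (inj_inv hi) h.nd h.dim U V c0 c0' hs'
  · rw [show ξ⁻¹⁻¹ = ξ from MonoidHom.ext fun _ => inv_inv _] at U
    obtain ⟨x, x0, x1, x2⟩ := core h5 hi h.nd h.dim U V c0 c0' fun a =>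
      (hs' a).imp fun k hk x hx => hk x hx.symm
    exact ⟨x, x0, x1.symm, x2⟩
  · rw [show ξ⁻¹⁻¹ = ξ from MonoidHom.ext fun _ => inv_inv _] at U
    exact (no U V c0 c0').elim

end H19.O7
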