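/- PARROTT, job TY, part B: the classes of involutions; `H19.ParTY.jobTY`. -/
import Cfsg.Agent.H19.ParTYA

set_option autoImplicit false
set_option linter.unusedSectionVars false
set_option linter.unusedVariables false
set_option linter.unusedSimpArgs false

open Subgroup H63.Oc

universe u v

namespace H19.ParTY

variable {K : Type*} [Field K] [CharP K 2] {T : TF K} {G : Type*} [Group G] {D : CS T G}

variable (D) in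
/-- conjugacy in `C` -/
def Cj (c c' : Co T) : Prop := ∃ g ∈ D.C, g * D.ι c * g⁻¹ = D.ι c'

theorem Cj.trans {c c' c'' : Co T} (h : Cj D c c') (h' : Cj D c' c'') : Cj D c c'' := by
  obtain ⟨g, hg, e⟩ := h
  obtain ⟨g', hg', e'⟩ := h'
  exact ⟨g' * g, mul_mem hg' hg, by rw [← e', ← e]; group⟩

theorem Cj.s (s c : Co T) : Cj D c (s * c * s⁻¹) := ⟨D.ι s, D.ι_mem s, by simp⟩

theorem Cj.n {c : Co T} (hc : c ∈ sQ T) : Cj D c c.nu8 :=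
  ⟨D.n8, D.n8_mem, by rw [n8_inv, D.n8_conj c hc]⟩

theorem Cj.B (s : Co T) (p : T0 T) (c : Co T) : Cj D c (s * dg T p.1.1 p.1.2 c * s⁻¹) :=
  ⟨_, mul_mem (D.ι_mem s) (D.h0_mem p), B_conj D s p c⟩

theorem Cj.sq {c c' : Co T} (h : Cj D c c') (hc : c * c = 1) : c' * c' = 1 := by
  obtain ⟨g, -, e⟩ := h
  apply D.inj
  rw [map_mul, ← e, map_one, conj_mul, ← map_mul, hc, map_one, mul_one, mul_inv_cancel]

theorem bW (bc : BC D) {c : Co T} (hc : c ∈ sW T) (h6 : c.a6 ≠ 0) :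
    ∃ (s : Co T) (p : T0 T), s * dg T p.1.1 p.1.2 c * s⁻¹ = x6 T 1 := by
  obtain ⟨p, hp, -⟩ := bc.T0_fst (Units.mk0 c.a6 h6)
  have ha : (p.1.1 : K) = c.a6 := by rw [hp]; rfl
  have e := t4 p
  obtain ⟨h1, h2, h3, h4, h5, h7, h8, h9, h10, h11⟩ := hc
  have e1 : dg T p.1.1 p.1.2 c = ww T 1 c.a4 := by
    ext <;> simp [dg, ww, h1, h2, h3, h4, h5, h7, h8, h9, h10, h11]
    · rw [e, one_mul]
    · rw [← ha]; linear_combination e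
  refine ⟨x1 T c.a4, p, ?_⟩
  rw [e1]
  ext <;> simp [x1, x6, ww, T.sq] <;> grind

theorem bA (bc : BC D) {c : Co T} (hc : c ∈ sA T) (h5 : c.a5 ≠ 0) :
    ∃ (s : Co T) (p : T0 T), s * dg T p.1.1 p.1.2 c * s⁻¹ = x5 T 1 := by
  obtain ⟨p, hp, -⟩ := bc.T0_fst (Units.mk0 (c.a5 * T.σ c.a5) (mul_ne_zero h5 (sg_ne h5)))
  have ha : (p.1.1 : K) = c.a5 * T.σ c.a5 := by rw [hp]; rfl
  have hab : (p.1.1 : K) * p.1.2 = c.a5 := by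
    have e := ts p
    refine mul_left_cancel₀ p.1.1.ne_zero ?_
    rw [← mul_assoc, ← sq, ← e, ha, map_mul, T.sq]; ring
  have e := t5 p
  obtain ⟨h1, h2, h3, h4, h6, h7, h8, h9, h10⟩ := hc
  obtain ⟨r, w, e1⟩ : ∃ r w, dg T p.1.1 p.1.2 c = ⟨0, 0, 0, 0, 0, r, 1, 0, w, 0, 0, 0⟩ := by
    refine ⟨_, _, Co.ext ?_ ?_ ?_ ?_ ?_ rfl ?_ ?_ rfl ?_ ?_ ?_⟩ <;>
      simp only [dg, h1, h2, h3, h4, h6, h7, h8, h9, h10, mul_zero]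
    rw [← hab]; linear_combination e
  refine ⟨y2 T r * y8 T w, p, ?_⟩
  rw [e1]
  ext <;> simp [y2, y8, x5, T.sq] <;> grind

theorem cjW (bc : BC D) {c : Co T} (hc : c ∈ sW T) (h6 : c.a6 ≠ 0) : Cj D c (x6 T 1) := by
  obtain ⟨s, p, e⟩ := bW bc hc h6
  exact e ▸ Cj.B s p c

theorem cjA (bc : BC D) {c : Co T} (hc : c ∈ sA T) (h5 : c.a5 ≠ 0) : Cj D c (x5 T 1) := by
  obtain ⟨s, p, e⟩ := bA bc hc h5
  exact e ▸ Cj.B s p c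

variable [Finite K]

theorem cj3 (bc : BC D) {c : Co T} (hc : c ∈ sV0 T) (h3 : c.a3 ≠ 0) : Cj D c (x5 T 1) := by
  obtain ⟨a1, b2, a2, a3, b4, a4, a5, b6, a6, a7, b8, a8⟩ := c
  obtain ⟨rfl, rfl, rfl, rfl, rfl, rfl, rfl, rfl⟩ := hc
  simp only at h3
  obtain ⟨u, hu⟩ := sg_surj (T := T) (a5 / a3)
  obtain rfl : a5 = T.σ u * a3 := by rw [hu]; field_simp
  have e1 : y8 T u * ⟨0, 0, 0, a3, 0, a4, T.σ u * a3, 0, a6, 0, 0, 0⟩ * (y8 T u)⁻¹ =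
      ⟨0, 0, 0, a3, 0, a4 + u * T.σ a3, 0, 0, a6 + u * T.σ u * a3, 0, 0, 0⟩ := by
    ext <;> simp [y8, T.sq] <;> grind
  refine (Cj.s (y8 T u) _).trans ?_
  rw [e1]
  generalize a4 + u * T.σ a3 = r
  generalize a6 + u * T.σ u * a3 = w
  obtain ⟨w, rfl⟩ : ∃ w', w = w' * a3 := ⟨w / a3, by field_simp⟩
  have e2 : x8 T w * ⟨0, 0, 0, a3, 0, r, 0, 0, w * a3, 0, 0, 0⟩ * (x8 T w)⁻¹ =
      ⟨0, 0, 0, a3, 0, r, 0, 0, 0, 0, 0, 0⟩ := by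
    ext <;> simp [x8, T.sq] <;> grind
  refine (Cj.s (x8 T w) _).trans ?_
  rw [e2]
  exact (Cj.n ⟨rfl, rfl⟩).trans (cjA bc (by simp [mem_sA, Co.nu8]) (by simpa [Co.nu8] using h3))

theorem cj26 (bc : BC D) {a2 a6 : K} (a4 : K) (h2 : a2 ≠ 0) (h6 : a6 ≠ 0) :
    Cj D ⟨0, 0, a2, 0, 0, a4, 0, 0, a6, 0, 0, 0⟩ (x5 T 1) := by
  obtain ⟨u, hu⟩ := sg_surj (T := T) (a6 / a2)
  obtain rfl : a6 = T.σ u * a2 := by rw [hu]; field_simp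
  have hu0 : u ≠ 0 := by rintro rfl; simp at h6
  have e1 : x8 T u * ⟨0, 0, a2, 0, 0, a4, 0, 0, T.σ u * a2, 0, 0, 0⟩ * (x8 T u)⁻¹ =
      ⟨0, 0, a2, 0, 0, a4 + u * T.σ a2, u * a2, 0, 0, 0, 0, 0⟩ := by
    ext <;> simp [x8, T.sq] <;> grind
  refine (Cj.s (x8 T u) _).trans ?_
  rw [e1]
  exact (Cj.n ⟨rfl, rfl⟩).trans (cj3 bc (by simp [mem_sV0, Co.nu8]) (by simp [Co.nu8, hu0, h2]))

theorem cjV (bc : BC D) {c : Co T} (hc : c ∈ sV T) (hz : c ∉ sZ T) :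
    Cj D c (x6 T 1) ∨ Cj D c (x5 T 1) := by
  obtain ⟨a1, b2, a2, a3, b4, a4, a5, b6, a6, a7, b8, a8⟩ := c
  obtain ⟨rfl, rfl, rfl, rfl, rfl, rfl, rfl⟩ := hc
  by_cases h2 : a2 = 0
  · subst h2
    by_cases h3 : a3 = 0
    · subst h3
      by_cases h5 : a5 = 0
      · subst h5
        exact Or.inl (cjW bc (by simp [mem_sW]) fun h => hz (by simpa [mem_sZ] using h))
      · exact Or.inr (cjA bc (by simp [mem_sA]) h5)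
    · exact Or.inr (cj3 bc (by simp [mem_sV0]) h3)
  obtain ⟨u, rfl⟩ : ∃ u, a3 = u * a2 := ⟨a3 / a2, by field_simp⟩
  obtain ⟨r, w, z, e1⟩ : ∃ r w z, y8 T u * ⟨0, 0, a2, u * a2, 0, a4, a5, 0, a6, 0, 0, 0⟩ * (y8 T u)⁻¹ =
      ⟨0, 0, a2, 0, 0, r, w * a2, 0, z, 0, 0, 0⟩ := by
    refine ⟨_, a5 / a2, _, Co.ext ?_ ?_ ?_ ?_ ?_ rfl ?_ ?_ rfl ?_ ?_ ?_⟩ <;> simp [y8, T.sq] <;> grind
  obtain ⟨r', z', e2⟩ : ∃ r' z', x8 T w * ⟨0, 0, a2, 0, 0, r, w * a2, 0, z, 0, 0, 0⟩ * (x8 T w)⁻¹ =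
      ⟨0, 0, a2, 0, 0, r', 0, 0, z', 0, 0, 0⟩ := by
    refine ⟨_, _, Co.ext ?_ ?_ ?_ ?_ ?_ rfl ?_ ?_ rfl ?_ ?_ ?_⟩ <;> simp [x8, T.sq] <;> grind
  have h0 := Cj.s (D := D) (y8 T u) ⟨0, 0, a2, u * a2, 0, a4, a5, 0, a6, 0, 0, 0⟩
  rw [e1] at h0
  have h := h0.trans (Cj.s (x8 T w) _)
  rw [e2] at h
  by_cases hz' : z' = 0
  · subst hz'
    exact Or.inl (h.trans ((Cj.n ⟨rfl, rfl⟩).trans
      (cjW bc (by simp [mem_sW, Co.nu8]) (by simpa [Co.nu8] using h2))))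
  · exact Or.inr (h.trans (cj26 bc r' h2 hz'))

theorem cj7 (bc : BC D) (a3 a4 a5 a6 : K) {a7 : K} (h7 : a7 ≠ 0) :
    Cj D ⟨0, 0, 0, a3, 0, a4, a5, 0, a6, a7, 0, 0⟩ (x7 T 1) := by
  obtain ⟨t, ht⟩ := sg_surj (T := T) (a3 / a7)
  obtain rfl : a3 = T.σ t * a7 := by rw [ht]; field_simp
  obtain ⟨r, w, z, e1⟩ : ∃ r w z, x1 T t * ⟨0, 0, 0, T.σ t * a7, 0, a4, a5, 0, a6, a7, 0, 0⟩ * (x1 T t)⁻¹ =
      ⟨0, 0, 0, 0, 0, r, w, 0, z, a7, 0, 0⟩ := by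
    refine ⟨_, _, _, Co.ext ?_ ?_ ?_ ?_ ?_ rfl rfl ?_ rfl ?_ ?_ ?_⟩ <;> simp [x1, T.sq] <;> grind
  refine (Cj.s (x1 T t) _).trans ?_
  rw [e1]
  obtain ⟨t, ht⟩ := sg_surj (T := T) (w / a7)
  obtain rfl : w = T.σ t * a7 := by rw [ht]; field_simp
  obtain ⟨r', z', e2⟩ : ∃ r' z', y2 T t * ⟨0, 0, 0, 0, 0, r, T.σ t * a7, 0, z, a7, 0, 0⟩ * (y2 T t)⁻¹ =
      ⟨0, 0, 0, 0, 0, r', 0, 0, z', a7, 0, 0⟩ := by
    refine ⟨_, _, Co.ext ?_ ?_ ?_ ?_ ?_ rfl ?_ ?_ rfl ?_ ?_ ?_⟩ <;> simp [y2, T.sq] <;> grind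
  refine (Cj.s (y2 T t) _).trans ?_
  rw [e2]
  obtain ⟨z, rfl⟩ : ∃ z, z' = z * a7 := ⟨z' / a7, by field_simp⟩
  obtain ⟨r, e3⟩ : ∃ r, y4 T z * ⟨0, 0, 0, 0, 0, r', 0, 0, z * a7, a7, 0, 0⟩ * (y4 T z)⁻¹ =
      ⟨0, 0, 0, 0, 0, r, 0, 0, 0, a7, 0, 0⟩ := by
    refine ⟨_, Co.ext ?_ ?_ ?_ ?_ ?_ rfl ?_ ?_ ?_ ?_ ?_ ?_⟩ <;> simp [y4, T.sq] <;> grind
  refine (Cj.s (y4 T z) _).trans ?_
  rw [e3]
  obtain ⟨r, rfl⟩ : ∃ r', r = r' * a7 := ⟨r / a7, by field_simp⟩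
  have e4 : x2 T r * ⟨0, 0, 0, 0, 0, r * a7, 0, 0, 0, a7, 0, 0⟩ * (x2 T r)⁻¹ = x7 T a7 := by
    ext <;> simp [x2, x7, T.sq] <;> grind
  refine (Cj.s (x2 T r) _).trans ?_
  rw [e4]
  obtain ⟨p, hp, -⟩ := bc.T0_fst (Units.mk0 a7 h7)
  have ha : (p.1.1 : K) = a7 := by rw [hp]; rfl
  have e5 : 1 * dg T p.1.1 p.1.2 (x7 T a7) * 1⁻¹ = x7 T 1 := by
    have e := t7 p
    ext <;> simp [dg, x7]
    rw [← ha]; linear_combination e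
  exact e5 ▸ Cj.B 1 p _

variable (D) in
/-- `c` is conjugate to one of the representatives -/
def Good (c : Co T) : Prop := ∃ c', Cj D c c' ∧
  ((∃ a, c' = x4 T a) ∨ c' = x6 T 1 ∨ c' = x5 T 1 ∨ c' = x7 T 1 ∨ ∃ v, c' = x4 T v * x8 T 1)

theorem Good.of {c c' : Co T} (h : Cj D c c') (h' : Good D c') : Good D c := by
  obtain ⟨c'', e, h''⟩ := h'
  exact ⟨c'', h.trans e, h''⟩

theorem good1 (bc : BC D) {c : Co T} (hc : c ∈ sQ T) (h1 : c.a1 = 0) (hs : c * c = 1) : Good D c := by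
  obtain ⟨a1, b2, a2, a3, b4, a4, a5, b6, a6, a7, b8, a8⟩ := c
  obtain ⟨rfl, rfl⟩ := hc
  obtain rfl : a1 = 0 := h1
  obtain rfl : b2 = 0 := nm_zero (T := T) (by have := congrArg Co.a2 hs; simp at this; grind)
  have e5 : b6 * b4 = 0 := by have := congrArg Co.a5 hs; simp at this; grind
  have e6 : a7 * b4 + b6 * T.σ b6 = 0 := by have := congrArg Co.a6 hs; simp at this; grind
  obtain rfl : b6 = 0 := by
    rcases mul_eq_zero.1 e5 with h | rfl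
    · exact h
    · exact nm_zero (T := T) (by simpa using e6)
  have e4 : a7 * a2 + b4 * T.σ b4 = 0 := by have := congrArg Co.a4 hs; simp at this; grind
  by_cases h7 : a7 = 0
  · subst h7
    obtain rfl : b4 = 0 := nm_zero (T := T) (by simpa using e4)
    by_cases hz : (⟨0, 0, a2, a3, 0, a4, a5, 0, a6, 0, 0, 0⟩ : Co T) ∈ sZ T
    · obtain ⟨-, -, rfl, rfl, -, rfl, -, rfl, -⟩ := hz
      exact ⟨x4 T a4, ⟨1, one_mem _, by simp [x4]⟩, Or.inl ⟨a4, rfl⟩⟩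
    · rcases cjV bc (by simp [mem_sV]) hz with h | h
      · exact ⟨_, h, Or.inr (Or.inl rfl)⟩
      · exact ⟨_, h, Or.inr (Or.inr (Or.inl rfl))⟩
  · obtain rfl : b4 = 0 := by simpa [h7] using e6
    obtain rfl : a2 = 0 := by simpa [h7] using e4
    exact ⟨_, cj7 bc a3 a4 a5 a6 h7, Or.inr (Or.inr (Or.inr (Or.inl rfl)))⟩

theorem goodQ (bc : BC D) {c : Co T} (hc : c ∈ sQ T) (hs : c * c = 1) : Good D c := by
  by_cases h1 : c.a1 = 0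
  · exact good1 bc hc h1 hs
  have k1 := Cj.s (D := D) (y8 T (c.b2 / c.a1)) c
  have q1 := nrm_Q (y8 T (c.b2 / c.a1)) hc
  have f1 : (y8 T (c.b2 / c.a1) * c * (y8 T (c.b2 / c.a1))⁻¹).a1 = c.a1 := by simp [y8]
  have f2 : (y8 T (c.b2 / c.a1) * c * (y8 T (c.b2 / c.a1))⁻¹).b2 = 0 := by simp [y8, h1]; grind
  generalize y8 T (c.b2 / c.a1) * c * (y8 T (c.b2 / c.a1))⁻¹ = d at k1 q1 f1 f2
  rw [← f1] at h1
  have k2 := k1.trans (Cj.s (x8 T (d.b6 / d.a1)) d)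
  have q2 := nrm_Q (x8 T (d.b6 / d.a1)) q1
  have g1 : (x8 T (d.b6 / d.a1) * d * (x8 T (d.b6 / d.a1))⁻¹).a1 = d.a1 := by simp [x8]
  have g2 : (x8 T (d.b6 / d.a1) * d * (x8 T (d.b6 / d.a1))⁻¹).b2 = 0 := by simp [x8, f2]
  have g3 : (x8 T (d.b6 / d.a1) * d * (x8 T (d.b6 / d.a1))⁻¹).b6 = 0 := by simp [x8, h1]; grind
  generalize x8 T (d.b6 / d.a1) * d * (x8 T (d.b6 / d.a1))⁻¹ = e at k2 q2 g1 g2 g3
  rw [← g1] at h1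
  have h7 : e.a7 = 0 := by
    have := congrArg Co.a3 (k2.sq hs)
    simp [q2.1, q2.2, g2, g3, ← two_mul, CharTwo.two_eq_zero, h1] at this
    exact this
  have k3 := k2.trans (Cj.n q2)
  exact Good.of k3 (good1 bc ⟨rfl, rfl⟩ h7 (k3.sq hs))

theorem good8 (bc : BC D) {c : Co T} (h8 : c.a8 ≠ 0) (hs : c * c = 1) (hb : c.b8 = 0) : Good D c := by
  obtain ⟨a1, b2, a2, a3, b4, a4, a5, b6, a6, a7, b8, a8⟩ := c
  obtain rfl : b8 = 0 := hb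
  simp only at h8
  obtain rfl : a1 = 0 := by have := congrArg Co.b6 hs; simp at this; grind
  obtain rfl : b2 = 0 := by have := congrArg Co.a7 hs; simp at this; grind
  obtain ⟨t, rfl⟩ : ∃ t, b6 = t * a8 := ⟨b6 / a8, by field_simp⟩
  obtain ⟨a2', a3', b4', a4', a5', a6', a7', e1⟩ : ∃ a2' a3' b4' a4' a5' a6' a7',
      x1 T t * ⟨0, 0, a2, a3, b4, a4, a5, t * a8, a6, a7, 0, a8⟩ * (x1 T t)⁻¹ =
      ⟨0, 0, a2', a3', b4', a4', a5', 0, a6', a7', 0, a8⟩ := by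
    refine ⟨_, _, _, _, _, _, _, Co.ext ?_ ?_ rfl rfl rfl rfl rfl ?_ rfl rfl ?_ ?_⟩ <;> simp [x1, T.sq] <;> grind
  have k1 := Cj.s (D := D) (x1 T t) ⟨0, 0, a2, a3, b4, a4, a5, t * a8, a6, a7, 0, a8⟩
  rw [e1] at k1
  obtain ⟨t, rfl⟩ : ∃ t, a7' = t * a8 := ⟨a7' / a8, by field_simp⟩
  obtain ⟨a2, a3, b4, a4, a5, a6, e2⟩ : ∃ a2 a3 b4 a4 a5 a6,
      y2 T t * ⟨0, 0, a2', a3', b4', a4', a5', 0, a6', t * a8, 0, a8⟩ * (y2 T t)⁻¹ =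
      ⟨0, 0, a2, a3, b4, a4, a5, 0, a6, 0, 0, a8⟩ := by
    refine ⟨_, _, _, _, _, _, Co.ext ?_ ?_ rfl rfl rfl rfl rfl ?_ rfl ?_ ?_ ?_⟩ <;> simp [y2, T.sq] <;> grind
  have k2 := k1.trans (Cj.s (y2 T t) _)
  rw [e2] at k2
  have s2 := k2.sq hs
  obtain rfl : a2 = 0 := by have := congrArg Co.a5 s2; simp at this; grind
  obtain rfl : a3 = 0 := by have := congrArg Co.a6 s2; simp at this; grind
  obtain rfl : b4 = 0 := nm_zero (T := T) (by have := congrArg Co.a4 s2; simp at this; grind)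
  refine Good.of k2 ?_
  obtain ⟨t, rfl⟩ : ∃ t, a5 = t * a8 := ⟨a5 / a8, by field_simp⟩
  obtain ⟨r, z, e3⟩ : ∃ r z, x2 T t * ⟨0, 0, 0, 0, 0, a4, t * a8, 0, a6, 0, 0, a8⟩ * (x2 T t)⁻¹ =
      ⟨0, 0, 0, 0, 0, r, 0, 0, z, 0, 0, a8⟩ := by
    refine ⟨_, _, Co.ext ?_ ?_ ?_ ?_ ?_ rfl ?_ ?_ rfl ?_ ?_ ?_⟩ <;> simp [x2, T.sq] <;> grind
  refine Good.of (Cj.s (x2 T t) _) ?_
  rw [e3]
  obtain ⟨z, rfl⟩ : ∃ z', z = z' * a8 := ⟨z / a8, by field_simp⟩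
  have e4 : x3 T z * ⟨0, 0, 0, 0, 0, r, 0, 0, z * a8, 0, 0, a8⟩ * (x3 T z)⁻¹ =
      ⟨0, 0, 0, 0, 0, r, 0, 0, 0, 0, 0, a8⟩ := by
    ext <;> simp [x3, T.sq] <;> grind
  refine Good.of (Cj.s (x3 T z) _) ?_
  rw [e4]
  obtain ⟨p, hp, -⟩ := bc.T0_snd (Units.mk0 (a8 / T.σ a8) (div_ne_zero h8 (sg_ne h8)))
  have hb : (p.1.2 : K) = a8 / T.σ a8 := by rw [hp]; rfl
  refine ⟨_, Cj.B 1 p _, Or.inr (Or.inr (Or.inr (Or.inr ⟨r, ?_⟩)))⟩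
  have e := t4 p
  have hs8 : T.σ a8 ≠ 0 := sg_ne h8
  ext <;> simp [dg, x4, x8]
  · rw [e, one_mul]
  · rw [hb, map_div₀, T.sq]; field_simp

theorem good (bc : BC D) {c : Co T} (hs : c * c = 1) : Good D c := by
  have hb : c.b8 = 0 := nm_zero (T := T) (by have := congrArg Co.a8 hs; simp at this; grind)
  by_cases h8 : c.a8 = 0
  · exact goodQ bc ⟨hb, h8⟩ hs
  · exact good8 bc h8 hs hb

theorem cls (bc : BC D) (x : G) (hx : x ∈ D.C) (h : x * x = 1) : ∃ g ∈ D.C,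
    (∃ a, g * x * g⁻¹ = D.ι (x4 T a)) ∨ g * x * g⁻¹ = D.ι (x6 T 1) ∨ g * x * g⁻¹ = D.ι (x5 T 1) ∨
      g * x * g⁻¹ = D.ι (x7 T 1) ∨ ∃ v, g * x * g⁻¹ = D.ι (x4 T v * x8 T 1) := by
  have hP : IsPGroup 2 (zpowers x) := by
    rintro ⟨_, k, rfl⟩
    refine ⟨1, Subtype.ext ?_⟩
    simp only [pow_one, SubgroupClass.coe_pow, OneMemClass.coe_one]
    rw [← zpow_natCast, ← zpow_mul, mul_comm, zpow_mul, zpow_natCast, sq, h, one_zpow]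
  obtain ⟨g, hg, hgx⟩ := bc.syl _ ((zpowers_le_of_mem hx)) hP
  obtain ⟨c, hc⟩ := hgx x (mem_zpowers x)
  have hs : c * c = 1 := D.inj (by rw [map_mul, hc, map_one, conj_mul, h, mul_one, mul_inv_cancel])
  obtain ⟨c', ⟨g', hg', e⟩, h'⟩ := good bc hs
  refine ⟨g' * g, mul_mem hg' hg, ?_⟩
  have e' : g' * g * x * (g' * g)⁻¹ = D.ι c' := by rw [← e, hc]; group
  rw [e']
  rcases h' with ⟨a, rfl⟩ | rfl | rfl | rfl | ⟨v, rfl⟩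
  · exact Or.inl ⟨a, rfl⟩
  · exact Or.inr (Or.inl rfl)
  · exact Or.inr (Or.inr (Or.inl rfl))
  · exact Or.inr (Or.inr (Or.inr (Or.inl rfl)))
  · exact Or.inr (Or.inr (Or.inr (Or.inr ⟨v, rfl⟩)))

theorem ty (bc : BC D) : TY D where
  cls := cls bc
  clsV c hc hz := by
    rcases cjV bc hc hz with ⟨g, hg, e⟩ | ⟨g, hg, e⟩
    · exact ⟨g, hg, Or.inl e⟩
    · exact ⟨g, hg, Or.inr e⟩
  clsW c hc hz := by
    obtain ⟨s, p, e⟩ := bW bc hc fun h6 => by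
      obtain ⟨h1, h2, h3, h4, h5, h7, h8, h9, h10, h11⟩ := hc
      exact hz ⟨h1, h2, h3, h4, h5, h7, h8, h6, h9, h10, h11⟩
    exact ⟨s, p, by rw [B_conj, e]⟩
  clsA c hc hz := by
    obtain ⟨s, p, e⟩ := bA bc hc fun h5 => by
      obtain ⟨h1, h2, h3, h4, h6, h7, h8, h9, h10⟩ := hc
      exact hz ⟨h1, h2, h3, h4, h6, h5, h7, h8, h9, h10⟩
    exact ⟨s, p, by rw [B_conj, e]⟩
  cls26 v hv := by
    have e : x2 T 1 * x6 T v = ⟨0, 0, 1, 0, 0, 0, 0, 0, v, 0, 0, 0⟩ := by ext <;> simp [x2, x6]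
    rw [e]
    exact cj26 bc 0 one_ne_zero hv
  c6 := c6 D bc
  c5 := c5 D bc
  c7 := c7 D bc
  c8 := c8 D bc
  nW := nW D bc

theorem jobTY : JobTY.{u, v} := fun _ _ _ _ _ _ _ _ bc => ty bc

end H19.ParTY
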