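/- counting classes of `π`-elements: tools (representatives, Wielandt, fusion, transfer) -/
import Cfsg.Agent.H46.Coprime
import Cfsg.Agent.H4.WielandtHall
import Cfsg.Agent.H24.ClassCount
import Cfsg.Agent.S4067

set_option autoImplicit false
open Cfsg hiding pRank
open Subgroup H46

namespace H19.PC

universe u
variable {G : Type u} [Group G] [Finite G]

/-- the number of classes of `π`-elements -/
noncomputable abbrev kp (π : Set ℕ) (G : Type u) [Group G] : ℕ :=
  Nat.card {C : ConjClasses G // H24.IsPiClass π C}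

omit [Finite G] in
theorem card_le_of_hit {ι : Type*} [Finite ι] (Q : ConjClasses G → Prop) (F : ι → G)
    (h : ∀ x, Q (ConjClasses.mk x) → ∃ i, IsConj x (F i)) :
    Nat.card {C // Q C} ≤ Nat.card ι := by
  have hF : ∀ C, Q C → C ∈ Set.range fun i => ConjClasses.mk (F i) := by
    intro C hC
    obtain ⟨x, rfl⟩ := ConjClasses.mk_surjective C
    obtain ⟨i, hi⟩ := h x hC
    exact ⟨i, (ConjClasses.mk_eq_mk_iff_isConj.2 hi).symm⟩
  calc Nat.card {C // Q C} ≤ Nat.card (Set.range fun i => ConjClasses.mk (F i)) :=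
        Nat.card_le_card_of_injective (fun C => ⟨C.1, hF C.1 C.2⟩)
          (fun a b h => Subtype.ext (by simpa using h))
    _ ≤ Nat.card ι := Finite.card_range_le _

omit [Finite G] in
theorem kp_le_of_hit {ι : Type*} [Finite ι] {π : Set ℕ} (F : ι → G)
    (h : ∀ x, IsPiElt π x → ∃ i, IsConj x (F i)) : kp π G ≤ Nat.card ι :=
  card_le_of_hit _ F fun x hx => h x (H24.isPiClass_mk.1 hx)

theorem exists_reps (π : Set ℕ) (G : Type u) [Group G] [Finite G] : ∃ r : Fin (kp π G) → G,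
    (∀ i, IsPiElt π (r i)) ∧ ∀ x, IsPiElt π x → ∃ i, IsConj x (r i) := by
  let e := Finite.equivFin {C : ConjClasses G // H24.IsPiClass π C}
  have hrep : ∀ C : ConjClasses G, ConjClasses.mk (Quotient.out C) = C := fun C => Quotient.out_eq C
  refine ⟨fun i => Quotient.out (e.symm i).1, fun i => ?_, fun x hx => ?_⟩
  · exact H24.isPiClass_mk.1 (by rw [hrep]; exact (e.symm i).2)
  · refine ⟨e ⟨ConjClasses.mk x, H24.isPiClass_mk.2 hx⟩, ?_⟩
    rw [← ConjClasses.mk_eq_mk_iff_isConj, hrep, e.symm_apply_apply]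

theorem exists_reps_sub (π : Set ℕ) (M : Subgroup G) : ∃ r : Fin (kp π M) → G,
    ∀ x ∈ M, IsPiElt π x → ∃ i, ∃ c ∈ M, c * x * c⁻¹ = r i := by
  obtain ⟨r, -, h⟩ := exists_reps π M
  refine ⟨fun i => r i, fun x hx hπ => ?_⟩
  obtain ⟨i, hi⟩ := h ⟨x, hx⟩ (by unfold IsPiElt at *; rwa [← orderOf_coe])
  obtain ⟨c, hc⟩ := isConj_iff.1 hi
  exact ⟨i, c, c.2, by simpa using congrArg Subtype.val hc⟩

/-- Wielandt's theorem inside a subgroup -/
theorem wie {π : Set ℕ} {H M K : Subgroup G} (hH : IsPiHallOf π H M) (hn : Group.IsNilpotent H)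
    (hK : IsPi π K) (hle : K ≤ M) : ∃ g ∈ M, cj g K ≤ H := by
  have : Group.IsNilpotent (H.subgroupOf M) :=
    Group.nilpotent_of_mulEquiv (subgroupOfEquivOfLe hH.1).symm
  obtain ⟨x, hx⟩ := H4.le_conj_nilpotent_hall (isPiHallOf_iff.1 hH).2 _ (K.subgroupOf M) rfl
    (hK.subgroupOf M)
  refine ⟨x⁻¹, M.inv_mem x.2, fun y hy => ?_⟩
  rw [mem_cj, inv_inv] at hy
  have := hx (show (⟨_, hle hy⟩ : M) ∈ K.subgroupOf M from hy)
  rw [mem_pointwise_smul_iff_inv_smul_mem] at this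
  have e : ((MulAut.conj x)⁻¹ • (⟨_, hle hy⟩ : M) : M).1 = y := by
    simp [MulAut.smul_def, mul_assoc]
  rw [← e]; exact this

theorem wie1 {π : Set ℕ} {H M : Subgroup G} (hH : IsPiHallOf π H M) (hn : Group.IsNilpotent H)
    {x : G} (hx : IsPiElt π x) (hle : x ∈ M) : ∃ g ∈ M, g * x * g⁻¹ ∈ H := by
  obtain ⟨g, hg, h⟩ := wie hH hn (isPi_zpowers.2 hx) (zpowers_le.2 hle)
  exact ⟨g, hg, h (conj_mem_cj.2 (mem_zpowers x))⟩

theorem wie_eq {π : Set ℕ} {H M K : Subgroup G} (hH : IsPiHallOf π H M) (hn : Group.IsNilpotent H)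
    (hK : IsPiHallOf π K M) : ∃ g ∈ M, cj g K = H := by
  obtain ⟨g, hg, h⟩ := wie hH hn hK.isPi hK.1
  exact ⟨g, hg, eq_of_le_of_card_eq h (by rw [card_cj, hK.card_eq hH])⟩

/-- fusion in an abelian Hall subgroup is controlled by its normalizer -/
theorem fus {π : Set ℕ} {H : Subgroup G} (hH : IsPiHallOf π H ⊤) (hc : IsMulCommutative H)
    {x g : G} (hx : x ∈ H) (hg : g * x * g⁻¹ ∈ H) : ∃ n ∈ Nrm H, n * x * n⁻¹ = g * x * g⁻¹ := by
  have h1 : H ≤ Cent1 (g * x * g⁻¹) := le_cent1_iff.2 (comm_iff_le_cent.1 hc hg)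
  have h2 : cj g H ≤ Cent1 (g * x * g⁻¹) := by
    rw [← cj_cent1]; exact cj_mono g (le_cent1_iff.2 (comm_iff_le_cent.1 hc hx))
  obtain ⟨c, hcm, e⟩ := wie_eq (hH.of_le h1 le_top) (nil_of_comm hc)
    ((hH.cj_of_mem (mem_top g)).of_le h2 le_top)
  refine ⟨c * g, mem_nrm_iff_cj.2 (by rw [cj_mul, e]), ?_⟩
  have := mem_cent1.1 hcm
  calc c * g * x * (c * g)⁻¹ = c * (g * x * g⁻¹) * c⁻¹ := by group
    _ = _ := by rw [this]; group

theorem kp_le_classes {π : Set ℕ} {L : Subgroup G} (h : ∀ x, IsPiElt π x → ∃ g, g * x * g⁻¹ ∈ L) :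
    kp π G ≤ Nat.card (ConjClasses L) := by
  refine kp_le_of_hit (fun C : ConjClasses L => ((Quotient.out C : L) : G)) fun x hx => ?_
  obtain ⟨g, hg⟩ := h x hx
  refine ⟨ConjClasses.mk ⟨_, hg⟩, (isConj_iff.2 ⟨g, rfl⟩).trans ?_⟩
  have : IsConj (⟨_, hg⟩ : L) (Quotient.out (ConjClasses.mk (⟨_, hg⟩ : L))) :=
    ConjClasses.mk_eq_mk_iff_isConj.1 (Quotient.out_eq _).symm
  exact L.subtype.map_isConj this

theorem kp_le_card {π : Set ℕ} {L : Subgroup G} (h : ∀ x, IsPiElt π x → ∃ g, g * x * g⁻¹ ∈ L) :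
    kp π G ≤ Nat.card L := by
  refine kp_le_of_hit (fun l : L => (l : G)) fun x hx => ?_
  obtain ⟨g, hg⟩ := h x hx
  exact ⟨⟨_, hg⟩, isConj_iff.2 ⟨g, rfl⟩⟩

theorem cover {π : Set ℕ} {L : Subgroup G} (hL : IsPiHallOf π L ⊤) (hn : Group.IsNilpotent L) :
    ∀ x, IsPiElt π x → ∃ g, g * x * g⁻¹ ∈ L := fun _ hx =>
  let ⟨g, _, h⟩ := wie1 hL hn hx (mem_top _); ⟨g, h⟩

theorem lemA {t : ℕ} (ht : ∀ d, d ∣ Nat.card G → d ≠ 1 → t ≤ d)
    (h : Nat.card G < t * Nat.card (ConjClasses G)) : Nat.card (commutator G) ≤ t := by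
  have hk := Cfsg.Agent.S4067.kbound ht
  have e := (commutator G).card_mul_index
  have hn : 0 < (commutator G).index := Nat.pos_of_ne_zero FiniteIndex.index_ne_zero
  rw [← e] at h hk
  generalize Nat.card (commutator G) = d at *
  generalize (commutator G).index = n at *
  generalize Nat.card (ConjClasses G) = k at *
  by_contra hd
  obtain ⟨s, rfl⟩ : ∃ s, t = s + 1 := ⟨t - 1, by rcases t with _ | t <;> simp_all⟩
  obtain ⟨r, rfl⟩ : ∃ r, d = s + 2 + r := ⟨d - (s + 2), by omega⟩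
  have e2 : (s + 1) ^ 2 - 1 = s ^ 2 + 2 * s := by
    rw [show (s + 1) ^ 2 = s ^ 2 + 2 * s + 1 by ring]; rfl
  rw [e2] at hk
  have h2 := Nat.mul_lt_mul_of_pos_left h (Nat.succ_pos s)
  nlinarith [Nat.zero_le (s * r * n)]

theorem lemA' {t : ℕ} (ht : ∀ d, d ∣ Nat.card G → d ≠ 1 → t ≤ d)
    (h : Nat.card G < t * Nat.card (ConjClasses G)) : Group.IsNilpotent G := by
  have hd := lemA ht h
  have hz : commutator G ≤ center G := by
    intro x hx
    by_cases h1 : x = 1
    · rw [h1]; exact one_mem _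
    have hlt : {y | IsConj x y} ⊂ (commutator G : Set G) := by
      refine ⟨fun y hy => ?_, fun hs => h1 ?_⟩
      · obtain ⟨c, rfl⟩ := isConj_iff.1 hy
        exact (inferInstance : (commutator G).Normal).conj_mem x hx c
      · exact isConj_one_left.1 (hs (one_mem (commutator G)))
    have h2 : (centralizer ({x} : Set G)).index < t := by
      rw [← H24.card_isConj_eq_index]
      exact lt_of_lt_of_le (Set.ncard_lt_ncard hlt) hd
    have h3 : (centralizer ({x} : Set G)).index = 1 := by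
      by_contra h4
      exact absurd (ht _ (index_dvd_card _) h4) (by omega)
    rw [index_eq_one] at h3
    exact mem_center_iff.2 fun g => mem_centralizer_singleton_iff.1 (h3 ▸ mem_top g)
  exact Subgroup.isNilpotent_of_ker_le_center (Abelianization.of (G := G)) (by rwa [Abelianization.ker_of])

/-- elements of `X` not centralized by `N(X)` are fused in pairs at least -/
theorem two_kp_le {π : Set ℕ} {X : Subgroup G} (h : ∀ x, IsPiElt π x → ∃ g, g * x * g⁻¹ ∈ X) :
    2 * kp π G ≤ Nat.card X + Nat.card ↥(X ⊓ Cent (Nrm X)) := by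
  classical
  have := Fintype.ofFinite G
  set F := X ⊓ Cent (Nrm X) with hF
  let s : Finset G := Finset.univ.filter fun x => x ∈ X ∧ x ∉ F
  let t : Finset G := Finset.univ.filter fun x => x ∈ F
  have h1 : 2 * (s.image ConjClasses.mk).card ≤ s.card := by
    refine Finset.mul_card_image_le_card s 2 fun b hb => ?_
    obtain ⟨x, hx, rfl⟩ := Finset.mem_image.1 hb
    have hx' := (Finset.mem_filter.1 hx).2
    obtain ⟨n, hn, hne⟩ : ∃ n ∈ Nrm X, n * x ≠ x * n := by
      by_contra hc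
      push Not at hc
      exact hx'.2 ⟨hx'.1, mem_cent.2 hc⟩
    refine Finset.one_lt_card.2 ⟨x, by simpa using hx, n * x * n⁻¹, ?_, fun e => hne ?_⟩
    · simp only [s, Finset.mem_filter, Finset.mem_univ, true_and]
      refine ⟨⟨conj_mem_of_mem_nrm hn hx'.1, fun hf => hne ?_⟩,
        (ConjClasses.mk_eq_mk_iff_isConj.2 (isConj_iff.2 ⟨n, rfl⟩)).symm⟩
      have e := mem_cent.1 hf.2 n hn
      have : n * x * n⁻¹ = x := by
        apply mul_left_cancel (a := n)
        rw [e]; group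
      calc n * x = n * x * n⁻¹ * n := by group
        _ = x * n := by rw [this]
    · calc n * x = n * x * n⁻¹ * n := by group
        _ = x * n := by rw [← e]
  have h2 : kp π G ≤ (s.image ConjClasses.mk).card + t.card := by
    refine le_trans ?_ ((Finset.card_union_le _ _).trans
      (Nat.add_le_add_left (Finset.card_image_le (f := ConjClasses.mk)) _))
    rw [← Nat.card_eq_finsetCard]
    refine Nat.card_le_card_of_injective (fun C => ⟨C.1, ?_⟩)
      (fun a b h => Subtype.ext (by simpa using h))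
    obtain ⟨C, hC⟩ := C
    obtain ⟨x, rfl⟩ := ConjClasses.mk_surjective C
    obtain ⟨g, hg⟩ := h x (H24.isPiClass_mk.1 hC)
    have e : ConjClasses.mk (g * x * g⁻¹) = ConjClasses.mk x :=
      (ConjClasses.mk_eq_mk_iff_isConj.2 (isConj_iff.2 ⟨g, rfl⟩)).symm
    rw [Finset.mem_union, Finset.mem_image, Finset.mem_image]
    by_cases hf : g * x * g⁻¹ ∈ F
    · exact Or.inr ⟨_, by simpa [t] using hf, e⟩
    · exact Or.inl ⟨_, Finset.mem_filter.2 ⟨Finset.mem_univ _, hg, hf⟩, e⟩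
  have h3 : s.card + t.card = Nat.card X := by
    rw [← Finset.card_union_of_disjoint (Finset.disjoint_filter.2 fun x _ hx => hx.2),
      Nat.card_eq_fintype_card, Fintype.card_subtype]
    congr 1
    ext x
    simp only [Finset.mem_union, Finset.mem_filter, Finset.mem_univ, true_and]
    exact ⟨fun h => h.elim And.left And.left, fun h => by tauto⟩
  have h4 : t.card = Nat.card F := by
    rw [Nat.card_eq_fintype_card, Fintype.card_subtype]
  omega

/-- Burnside's transfer theorem for an abelian Hall subgroup -/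
theorem compl_of_central {π : Set ℕ} {X : Subgroup G} (hX : IsPiHallOf π X ⊤)
    (h : X ≤ Cent (Nrm X)) : ∃ K, IsSd K X ⊤ ∧ ⊤ ≤ Nrm K := by
  have hc : IsMulCommutative X := comm_iff_le_cent.2 (h.trans (cent_anti le_nrm_self))
  have key : ∀ x ∈ X, ∀ (k : ℕ) (g₀ : G), g₀⁻¹ * x ^ k * g₀ ∈ X → g₀⁻¹ * x ^ k * g₀ = x ^ k := by
    intro x hx k g hg
    obtain ⟨n, hn, e⟩ := fus hX hc (g := g⁻¹) (X.pow_mem hx k) (by rwa [inv_inv])
    rw [inv_inv] at e
    rw [← e, mem_cent.1 (h (X.pow_mem hx k)) n hn]; group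
  let τ : G →* X := open scoped IsMulCommutative in MonoidHom.transfer (MonoidHom.id X)
  have hτ : ∀ x ∈ X, (τ x : G) = x ^ X.index := fun x hx => by
    open scoped IsMulCommutative in
    exact congrArg Subtype.val (MonoidHom.transfer_eq_pow (MonoidHom.id X) x (key x hx))
  have hn : τ.ker ⊴ ⊤ := normalIn_top_iff.2 inferInstance
  refine ⟨τ.ker, isSd_of_card hn le_top ?_ ?_, hn.2⟩
  · refine eq_bot_iff.2 fun x hx => mem_bot.2 ?_
    have e := hτ x hx.2
    rw [MonoidHom.mem_ker.1 hx.1] at e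
    have h1 : orderOf x ∣ X.index := orderOf_dvd_of_pow_eq_one e.symm
    have h2 := hX.idx
    rw [relIndex_top_right] at h2
    exact (hX.isPi.elt hx.2).eq_one (h2.of_dvd h1)
  · rw [card_top, ← τ.ker.card_mul_index, index_ker]
    exact Nat.mul_le_mul_left _ (Nat.le_of_dvd Nat.card_pos (card_subgroup_dvd_card _))

/-- the dichotomy for a nilpotent Hall subgroup -/
theorem dich {π : Set ℕ} {X : Subgroup G} (hX : IsPiHallOf π X ⊤) (hn : Group.IsNilpotent X) {t : ℕ}
    (ht : ∀ d, d ∣ Nat.card X → d ≠ 1 → t ≤ d) :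
    2 * t * kp π G ≤ (t + 1) * Nat.card X ∨
      (IsMulCommutative X ∧ ∃ K, IsSd K X ⊤ ∧ ⊤ ≤ Nrm K) := by
  by_cases h : X ≤ Cent (Nrm X)
  · exact Or.inr ⟨comm_iff_le_cent.2 (h.trans (cent_anti le_nrm_self)), compl_of_central hX h⟩
  left
  have h1 := two_kp_le (cover hX hn)
  have e := card_mul_relIndex (inf_le_left : X ⊓ Cent (Nrm X) ≤ X)
  have h2 := ht _ (Dvd.intro_left _ e) fun h1 => h (relIndex_eq_one.1 h1 |>.trans inf_le_right)
  have h3 := Nat.mul_le_mul_left (Nat.card ↥(X ⊓ Cent (Nrm X))) h2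
  have h4 := Nat.mul_le_mul_left t h1
  nlinarith

end H19.PC
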