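/- many classes of `π`-elements force a nilpotent Hall `π`-subgroup -/
import Cfsg.Agent.H19.PiCls

set_option autoImplicit false
open Cfsg hiding pRank
open Subgroup H46

namespace H19.PC

universe u
variable {G : Type u} [Group G] [Finite G]

/-- an invariant nilpotent Hall subgroup meets the centralizer in a Hall subgroup -/
theorem cent_hall {β : Set ℕ} {K B A : Subgroup G} (hB : IsPiHallOf β B K) (hn : Group.IsNilpotent B)
    (hAK : A ≤ Nrm K) (hAB : A ≤ Nrm B) (hc : (Nat.card A).Coprime (Nat.card K))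
    (hs : Group.IsSolvable A) : IsPiHallOf β (B ⊓ Cent A) (K ⊓ Cent A) := by
  refine isPiHallOf_mk (inf_le_inf_right _ hB.1) hB.isPi.inf_left
    (pnat_compl_iff.2 fun q hq hβ hd => ?_)
  obtain ⟨R, hR⟩ := exists_sylow hq (K ⊓ Cent A)
  obtain ⟨Q, hQ, hQn, hRQ⟩ := coprime_Sylow_subset hq hAK hc (Or.inl hs) (hR.1.trans inf_le_left)
    (hR.isPGroup hq) (nrm_of_le_cent (le_cent_symm (hR.1.trans inf_le_right)))
  obtain ⟨c, hcm, e⟩ := coprime_Sylow_trans hq hAK hc (Or.inl hs) hQ hQn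
    (hB.sylow_trans hβ (nil_piCoreOf_hall {q} hn)) (nrm_piCoreOf _ hAB)
  have h1 := hR.cj_of_mem hcm
  have h2 : cj c R ≤ B ⊓ Cent A :=
    le_inf ((cj_mono c hRQ).trans (e.ge.trans (piCoreOf_le _ _))) (h1.1.trans inf_le_right)
  exact h1.not_dvd hq (hd.trans (relIndex_dvd_of_le_left _ h2))

omit [Finite G] in
theorem hall_sup {α β : Set ℕ} {A B : Subgroup G} (hA : IsPiHallOf α A ⊤) (hB : IsPiHallOf β B ⊤)
    (hn : A ≤ Nrm B) : IsPiHallOf (α ∪ β) (B ⊔ A) ⊤ := by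
  refine isPiHallOf_mk le_top ((hB.isPi.mono Set.subset_union_right).sup
    (hA.isPi.mono Set.subset_union_left) hn) (pnat_compl_iff.2 fun q hq hβ hd => ?_)
  rcases hβ with h | h
  · exact hA.2.2 q hq h (hd.trans (relIndex_dvd_of_le_left _ le_sup_right))
  · exact hB.2.2 q hq h (hd.trans (relIndex_dvd_of_le_left _ le_sup_left))

/-- the case of an abelian Hall subgroup with a normal complement -/
theorem degen {α β : Set ℕ} {A B K : Subgroup G} (hA : IsPiHallOf α A ⊤) (hc : IsMulCommutative A)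
    (hK : IsSd K A ⊤) (hKn : ⊤ ≤ Nrm K) (hB : IsPiHallOf β B ⊤) (hn : Group.IsNilpotent B)
    (hd : β ⊆ αᶜ) : ∃ L : Subgroup G, IsPiHallOf (α ∪ β) L ⊤ ∧
      ∀ z, IsPiElt (α ∪ β) z → ∃ g, g * z * g⁻¹ ∈ L := by
  have hK' : IsPiHallOf αᶜ K ⊤ := hK.hall_compl_left hA
  have hBK : B ≤ K := hK'.le_of_normal hKn (hB.isPi.mono hd) le_top
  have hB' : IsPiHallOf β B K := hB.of_le hBK le_top
  have hfr : A ≤ K ⊔ Nrm B := fun g _ => by
    obtain ⟨k, hk, e⟩ := wie_eq hB' hn (hB'.cj_of_mem_nrm (hKn (mem_top g)))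
    have : k * g ∈ Nrm B := mem_nrm_iff_cj.2 (by rw [cj_mul, e])
    simpa using mul_mem_sup (K.inv_mem hk) this
  obtain ⟨n, -, hAB⟩ := exists_cj_le_of_le_sup (le_top.trans hKn) (le_top.trans hKn)
    (hA.isPi.coprime hK'.isPi) (Or.inl (sol_of_comm hc)) hfr
  have hA1 := hA.cj_of_mem (mem_top n)
  refine ⟨_, hall_sup hA1 hB hAB, fun z hz => ?_⟩
  obtain ⟨g, -, hg⟩ := wie1 hA1 (nil_of_comm (comm_cj hc n)) (isPiElt_piPart α z) (mem_top _)
  have hy : IsPiElt β (piPart αᶜ z) := fun q hq h =>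
    (hz q hq (h.trans (orderOf_piPart_dvd _ z))).resolve_left (isPiElt_piPart αᶜ z q hq h)
  have hcm := commute_piPart α αᶜ z
  have hz' := piPart_mul_piPart_compl α z
  generalize piPart α z = x at *
  generalize piPart αᶜ z = y at *
  have hx := zpowers_le.2 hg
  have hy1 : g * y * g⁻¹ ∈ K ⊓ Cent (zpowers (g * x * g⁻¹)) := by
    refine ⟨hK'.mem_of_normal hKn (isPiElt_conj.2 (hy.mono hd)) (mem_top _), ?_⟩
    rw [cent_zpowers, ← cj_cent1]
    exact conj_mem_cj.2 (mem_cent1.2 hcm.eq.symm)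
  obtain ⟨c, hcm', hc2⟩ := wie1 (cent_hall hB' hn (le_top.trans hKn) (hx.trans hAB)
    ((hA1.isPi.of_le hx).coprime hK'.isPi) (sol_of_comm (comm_of_le (comm_cj hc n) hx)))
    (nil_of_le' hn) (isPiElt_conj.2 hy) hy1
  refine ⟨c * g, ?_⟩
  have e := mem_cent.1 hcm'.2 _ (mem_zpowers _)
  have : c * g * z * (c * g)⁻¹ = g * x * g⁻¹ * (c * (g * y * g⁻¹) * c⁻¹) := by
    rw [← mul_assoc, ← mul_assoc (g * x * g⁻¹), e, ← hz']; group
  rw [this]
  exact mul_mem (le_sup_right (a := B) hg) (le_sup_left (b := cj n A) hc2.1)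
where nil_of_le' {B C : Subgroup G} (h : Group.IsNilpotent B) : Group.IsNilpotent ↥(B ⊓ C) :=
  Group.nilpotent_of_mulEquiv (subgroupOfEquivOfLe (inf_le_left : B ⊓ C ≤ B))

theorem split {π : Set ℕ} (p : ℕ) {z : G} (hz : IsPiElt π z) :
    ∃ u v, Commute u v ∧ u * v = z ∧ IsPiElt {p} u ∧ IsPiElt (π \ {p}) v :=
  ⟨_, _, commute_piPart {p} {p}ᶜ z, piPart_mul_piPart_compl _ z, isPiElt_piPart _ z, fun q hq h =>
    ⟨hz q hq (h.trans (orderOf_piPart_dvd _ z)), isPiElt_piPart {p}ᶜ z q hq h⟩⟩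

omit [Finite G] in
theorem conj_mul_of {z u v g c a : G} (e : u * v = z) (h1 : g * u * g⁻¹ = a) (hc : c ∈ Cent1 a) :
    IsConj z (a * (c * (g * v * g⁻¹) * c⁻¹)) := by
  refine isConj_iff.2 ⟨c * g, ?_⟩
  rw [← mul_assoc a, ← mul_assoc a, ← mem_cent1.1 hc, ← h1, ← e]; group

omit [Finite G] in
theorem conj_mem_cent1 {u v : G} (g : G) (h : Commute u v) : g * v * g⁻¹ ∈ Cent1 (g * u * g⁻¹) := by
  rw [← cj_cent1, conj_mem_cj]; exact mem_cent1.2 h.eq.symm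

theorem kp_le_mul (π : Set ℕ) {p : ℕ} (hp : p.Prime) {P : Subgroup G} (hP : IsSylowOf p P ⊤) :
    kp π G ≤ kp (π \ {p}) G * Nat.card P := by
  obtain ⟨r, -, hr⟩ := exists_reps (π \ {p}) G
  choose Q hQ using fun j => exists_sylow hp (Cent1 (r j))
  refine (kp_le_of_hit (fun s : Σ j, Q j => r s.1 * s.2) fun z hz => ?_).trans ?_
  · obtain ⟨u, v, huv, e, hu, hv⟩ := split p hz
    obtain ⟨j, hj⟩ := hr v hv
    obtain ⟨g, hg⟩ := isConj_iff.1 hj
    obtain ⟨c, hc, h⟩ := wie1 (hQ j) (hQ j).isPi.nil (isPiElt_conj.2 hu)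
      (hg ▸ conj_mem_cent1 g huv.symm)
    exact ⟨⟨j, _, h⟩, conj_mul_of (huv.symm.eq.trans e) hg hc⟩
  · rw [Nat.card_sigma]
    refine (Finset.sum_le_sum fun j _ =>
      Nat.le_of_dvd Nat.card_pos (hP.card_dvd (hQ j).isPi le_top)).trans ?_
    simp

theorem ineq {π : Set ℕ} {p : ℕ} {H P₀ : Subgroup G} (hH : IsPiHallOf (π \ {p}) H ⊤)
    (hc : IsMulCommutative H) (hP : IsSylowOf p P₀ (Cent H))
    (hbad : ∀ y : G, (¬ ∃ g, g * y * g⁻¹ ∈ Cent H) →
      (p + 1) * kp (π \ {p}) (Cent1 y) ≤ Nat.card H) :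
    (p + 1) * kp π G ≤ p * (kp (π \ {p}) G * Nat.card P₀) + kp {p} G * Nat.card H := by
  classical
  have hn := nil_of_comm hc
  obtain ⟨y, hy, hy'⟩ := exists_reps {p} G
  let good : Fin (kp {p} G) → Prop := fun i => ∃ g, g * y i * g⁻¹ ∈ Cent H
  choose r hr using fun i => exists_reps_sub (π \ {p}) (Cent1 (y i))
  have hw : ∀ i, ∃ g, good i → g * y i * g⁻¹ ∈ Cent H := fun i => by
    by_cases h : good i
    · exact h.imp fun _ h _ => h
    · exact ⟨1, fun h' => absurd h' h⟩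
  choose w hw using hw
  have key : ∀ z, IsPiElt π z → (∃ i, ¬ good i ∧ ∃ j, IsConj z (y i * r i j)) ∨
      ∃ i, good i ∧ ∃ x ∈ H, IsConj z (w i * y i * (w i)⁻¹ * x) := fun z hz => by
    obtain ⟨u, v, huv, e, hu, hv⟩ := split p hz
    obtain ⟨i, hi⟩ := hy' u hu
    obtain ⟨g, hg⟩ := isConj_iff.1 hi
    by_cases h : good i
    · have hg' : w i * g * u * (w i * g)⁻¹ = w i * y i * (w i)⁻¹ := by rw [← hg]; group
      obtain ⟨c, hc', h'⟩ := wie1 (hH.of_le (le_cent1_iff.2 (hw i h)) le_top) hn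
        (isPiElt_conj.2 hv) (hg' ▸ conj_mem_cent1 (w i * g) huv)
      exact Or.inr ⟨i, h, _, h', conj_mul_of e hg' hc'⟩
    · obtain ⟨j, c, hc', h'⟩ := hr i _ (hg ▸ conj_mem_cent1 g huv) (isPiElt_conj.2 hv)
      exact Or.inl ⟨i, h, j, h' ▸ conj_mul_of e hg hc'⟩
  let Bd := Σ i : {i // ¬ good i}, Fin (kp (π \ {p}) (Cent1 (y i)))
  have b1 : kp π G ≤ Nat.card (Bd ⊕ {i // good i} × H) := by
    refine kp_le_of_hit (Sum.elim (fun s => y s.1 * r s.1 s.2)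
      fun s => w s.1 * y s.1 * (w s.1)⁻¹ * s.2) fun z hz => ?_
    rcases key z hz with ⟨i, h, j, e⟩ | ⟨i, h, x, hx, e⟩
    · exact ⟨Sum.inl ⟨⟨i, h⟩, j⟩, e⟩
    · exact ⟨Sum.inr ⟨⟨i, h⟩, ⟨x, hx⟩⟩, e⟩
  have b2 : kp π G ≤ Nat.card (Bd ⊕ Fin (kp (π \ {p}) G) × P₀) := by
    obtain ⟨s, hs, hs'⟩ := exists_reps (π \ {p}) G
    choose a ha using fun j => cover hH hn _ (hs j)
    refine kp_le_of_hit (Sum.elim (fun s => y s.1 * r s.1 s.2)
      fun t => a t.1 * s t.1 * (a t.1)⁻¹ * t.2) fun z hz => ?_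
    rcases key z hz with ⟨i, h, j, e⟩ | ⟨i, h, x, hx, e⟩
    · exact ⟨Sum.inl ⟨⟨i, h⟩, j⟩, e⟩
    obtain ⟨j, hj⟩ := hs' x (hH.isPi.elt hx)
    obtain ⟨g, hg⟩ := isConj_iff.1 (hj.trans (isConj_iff.2 ⟨a j, rfl⟩))
    obtain ⟨n, hnn, hn'⟩ := fus hH hc hx (hg ▸ ha j)
    obtain ⟨c, hc', h'⟩ := wie1 hP hP.isPi.nil (isPiElt_conj.2 (isPiElt_conj.2 (hy i)))
      (conj_mem_of_mem_nrm (nrm_le_nrm_cent H hnn) (hw i h))
    exact ⟨Sum.inr ⟨j, _, h'⟩, e.trans (conj_mul_of (mem_cent.1 (hw i h) x hx) (hn'.trans hg)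
      (cent_le_cent1 (ha j) hc'))⟩
  have b3 : (p + 1) * Nat.card Bd ≤ Nat.card {i // ¬ good i} * Nat.card H := by
    rw [Nat.card_sigma, Finset.mul_sum]
    refine (Finset.sum_le_sum fun i _ => ?_).trans (by simp : ∑ _i : {i // ¬ good i}, Nat.card H ≤ _)
    rw [Nat.card_fin]
    exact hbad _ i.2
  have b4 : Nat.card {i // good i} + Nat.card {i // ¬ good i} = kp {p} G := by
    rw [← Nat.card_sum, Nat.card_congr (Equiv.sumCompl good), Nat.card_fin]
  rw [Nat.card_sum, Nat.card_prod] at b1 b2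
  rw [Nat.card_fin] at b2
  rw [← b4]
  nlinarith [Nat.mul_le_mul_left p b2]

omit [Finite G] in
theorem hall_card {π : Set ℕ} {m n : ℕ} (e : Nat.card G = m * n) (hm : PNat π m) (hn : PNat πᶜ n)
    {H : Subgroup G} (hH : IsPiHallOf π H ⊤) : Nat.card H = m :=
  Nat.dvd_antisymm ((PNat.coprime hH.isPi hn).dvd_of_dvd_mul_right (e ▸ card_dvd_card_top H))
    (hH.dvd_card hm (by rw [card_top, e]; exact dvd_mul_right _ _))

omit [Group G] [Finite G] in
theorem le_of_primes {m t : ℕ} (h : ∀ q, q.Prime → q ∣ m → t ≤ q) (hm : m ≠ 0) :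
    ∀ d, d ∣ m → d ≠ 1 → t ≤ d := fun d hd h1 =>
  (h _ (Nat.minFac_prime h1) ((Nat.minFac_dvd d).trans hd)).trans
    (Nat.minFac_le (Nat.pos_of_ne_zero (ne_zero_of_dvd_ne_zero hm hd)))

theorem main (m : ℕ) : ∀ (G : Type u) [Group G] [Finite G] (π : Set ℕ) (n t : ℕ),
    Nat.card G = m * n → PNat π m → PNat πᶜ n → (∀ q, q.Prime → q ∣ m → t ≤ q) → m < t * kp π G →
    ∃ L : Subgroup G, IsPiHallOf π L ⊤ ∧ Group.IsNilpotent L := by
  induction m using Nat.strong_induction_on with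
  | _ m ih =>
  intro G _ _ π n t e hm hn ht hk
  by_cases h1 : m = 1
  · refine ⟨⊥, isPiHallOf_bot ?_, nil_bot⟩
    unfold IsPi
    rwa [card_top, e, h1, one_mul]
  have hG : Nat.card G ≠ 0 := Nat.card_pos.ne'
  have hm0 : m ≠ 0 := left_ne_zero_of_mul (e ▸ hG)
  obtain ⟨p, hp, hpm, hmin⟩ : ∃ p, p.Prime ∧ p ∣ m ∧ ∀ q, q.Prime → q ∣ m → p ≤ q :=
    ⟨_, Nat.minFac_prime h1, Nat.minFac_dvd m, fun q hq h => Nat.minFac_le_of_dvd hq.two_le h⟩
  replace hk : m < p * kp π G := hk.trans_le (Nat.mul_le_mul_right _ (ht p hp hpm))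
  have hpπ := hm p hp hpm
  have hπ : π \ {p} ∪ {p} = π := Set.sdiff_union_of_subset (Set.singleton_subset_iff.2 hpπ)
  obtain ⟨P, hP⟩ := exists_sylow hp (⊤ : Subgroup G)
  obtain ⟨m', rfl⟩ : Nat.card P ∣ m :=
    (PNat.coprime (hP.isPi.of_singleton hpπ) hn).dvd_of_dvd_mul_right (e ▸ card_dvd_card_top P)
  have hpm' : ¬ p ∣ m' := fun h => hP.not_dvd hp (by
    have := P.card_mul_index
    rw [e, mul_assoc] at this
    rw [relIndex_top_right, Nat.eq_of_mul_eq_mul_left Nat.card_pos this]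
    exact h.mul_right _)
  have hpP : p ∣ Nat.card P := (hp.dvd_mul.1 hpm).resolve_right hpm'
  have hm'0 : m' ≠ 0 := right_ne_zero_of_mul hm0
  have hlt : m' < Nat.card P * m' := by
    have := Nat.le_of_dvd Nat.card_pos hpP
    have := hp.two_le
    nlinarith [Nat.pos_of_ne_zero hm'0]
  have hmin' : ∀ q, q.Prime → q ∣ m' → p + 1 ≤ q := fun q hq h =>
    lt_of_le_of_ne (hmin q hq (h.mul_left _)) fun e => hpm' (e ▸ h)
  have e' : Nat.card G = m' * (Nat.card P * n) := by rw [e]; ring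
  have hσ : PNat (π \ {p}) m' := fun q hq h =>
    ⟨hm q hq (h.mul_left _), fun e => hpm' (Set.mem_singleton_iff.1 e ▸ h)⟩
  have hσ' : PNat (π \ {p})ᶜ (Nat.card P * n) :=
    PNat.mul (fun q hq h h' => h'.2 (hP.isPi q hq h)) fun q hq h h' => hn q hq h h'.1
  have hk1 : m' < p * kp (π \ {p}) G := by
    have := Nat.mul_le_mul_left p (kp_le_mul π hp hP)
    exact lt_of_mul_lt_mul_left (a := Nat.card P) (by nlinarith) (Nat.zero_le _)
  obtain ⟨H, hH, hHn⟩ := ih m' hlt G _ _ p e' hσ hσ' (fun q hq h => (hmin' q hq h).trans' p.le_succ) hk1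
  have eH := hall_card e' hσ hσ' hH
  subst eH
  have hd := le_of_primes hmin' hm'0
  have hc : IsMulCommutative H := by
    have h2 := lemA (G := H) (fun d h h' => (hd d h h').trans' p.le_succ)
      (hk1.trans_le (Nat.mul_le_mul_left _ (kp_le_classes (cover hH hHn))))
    have h3 : Nat.card (commutator H) = 1 := by
      by_contra h
      have := hd _ (card_subgroup_dvd_card _) h
      omega
    exact commutator_eq_bot_iff_isMulCommutative' (card_eq_one.1 h3)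
  obtain ⟨P₀, hP₀⟩ := exists_sylow hp (Cent H)
  obtain ⟨d, hd₀⟩ := hP.card_dvd hP₀.isPi le_top
  by_cases hd1 : d = 1
  · have h2 := hall_sup (hP.of_card_eq le_top (by rw [hd₀, hd1, mul_one])) hH (nrm_of_le_cent hP₀.1)
    rw [Set.union_comm, hπ] at h2
    exact ⟨_, h2, nil_sup_of_cent hP₀.1 hHn hP₀.isPi.nil⟩
  have hdP := le_of_primes (fun q hq (h : q ∣ Nat.card P) => hmin q hq (h.mul_right _)) Nat.card_pos.ne'
  have hd2 := hdP d (Dvd.intro_left _ hd₀.symm) hd1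
  have fin : ∀ L : Subgroup G, IsPiHallOf π L ⊤ → (∀ z, IsPiElt π z → ∃ g, g * z * g⁻¹ ∈ L) →
      ∃ L : Subgroup G, IsPiHallOf π L ⊤ ∧ Group.IsNilpotent L := fun L hL h => by
    have eL := hall_card e hm hn hL
    exact ⟨L, hL, lemA' (t := p) (eL ▸ le_of_primes hmin hm0)
      (eL ▸ hk.trans_le (Nat.mul_le_mul_left _ (kp_le_classes h)))⟩
  rcases dich hH hHn hd with d1 | ⟨-, K, hK, hKn⟩
  swap
  · obtain ⟨L, hL⟩ := degen hH hc hK hKn hP hP.isPi.nil fun q hq h => h.2 hq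
    rw [hπ] at hL
    exact fin L hL.1 hL.2
  rcases dich hP hP.isPi.nil hdP with d2 | ⟨hcP, K, hK, hKn⟩
  swap
  · obtain ⟨L, hL⟩ := degen hP hcP hK hKn hH hHn fun q hq h => hq.2 h
    rw [Set.union_comm, hπ] at hL
    exact fin L hL.1 hL.2
  exfalso
  have h3 := ineq hH hc hP₀ fun y hy => by
    by_contra hcon
    obtain ⟨a, b, eab, ha, hb⟩ := H24.exists_pi_factorization (π \ {p}) _
      (Nat.card_pos (α := Cent1 y)).ne'
    have hab : a ∣ Nat.card H :=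
      hH.dvd_card ha ((Dvd.intro _ eab.symm).trans (card_dvd_of_le le_top))
    have hle := Nat.le_of_dvd Nat.card_pos hab
    obtain ⟨L, hL, hLn⟩ := ih a (hle.trans_lt hlt) (Cent1 y) _ b (p + 1) eab ha hb
      (fun q hq h => hmin' q hq (h.trans hab)) (by omega)
    have eL := hall_card eab ha hb hL
    have h4 := kp_le_card (cover hL hLn)
    obtain ⟨g, -, hg⟩ := wie hH hHn (hL.isPi.map (Cent1 y).subtype) le_top
    obtain ⟨c, hc⟩ := hab
    by_cases hc1 : c = 1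
    · refine hy ⟨g, ?_⟩
      rw [← eq_of_le_of_card_eq hg (by rw [card_cj, card_map_subtype, eL, hc, hc1, mul_one]),
        ← cj_cent, conj_mem_cj, ← le_cent1_iff]
      exact map_subtype_le _
    · have := hd c (Dvd.intro_left _ hc.symm) hc1
      apply hcon
      rw [hc, mul_comm]
      exact Nat.mul_le_mul (eL ▸ h4) this
  have h4 : p * (kp (π \ {p}) G * Nat.card P₀) ≤ kp (π \ {p}) G * Nat.card P := by
    rw [hd₀]; nlinarith [Nat.mul_le_mul_left (kp (π \ {p}) G * Nat.card P₀) hd2]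
  generalize kp (π \ {p}) G = k1 at *
  generalize kp {p} G = k2 at *
  generalize kp π G = k at *
  have h5 := Nat.mul_le_mul_left (2 * p * (p + 1)) (h3.trans (Nat.add_le_add_right h4 _))
  have h6 := Nat.mul_le_mul_left (p * Nat.card P) d1
  have h7 := Nat.mul_le_mul_left ((p + 1) * Nat.card H) d2
  have h8 := Nat.mul_le_mul_left (2 * (p + 1) ^ 2) (Nat.succ_le_of_lt hk)
  nlinarith
where commutator_eq_bot_iff_isMulCommutative' {G : Type u} [Group G] (h : commutator G = ⊥) :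
    IsMulCommutative G := ⟨⟨fun a b => commutatorElement_eq_one_iff_mul_comm.1
      (mem_bot.1 (h ▸ commutator_mem_commutator (mem_top a) (mem_top b)))⟩⟩

/-- the form used by the statements -/
theorem final {π : Set ℕ} {p m : ℕ} (hmin : ∀ q ∈ π, p ≤ q) (hm : m ∣ Nat.card G)
    (hmπ : ∀ q : ℕ, q.Prime → q ∣ m → q ∈ π) (hm' : ∀ q ∈ π, ¬ q ∣ Nat.card G / m)
    (hk : m < p * kp π G) : ∃ L : Subgroup G, Nat.card L = m ∧ Group.IsNilpotent L ∧
      kp π G ≤ Nat.card (ConjClasses L) ∧ ∀ d, d ∣ Nat.card L → d ≠ 1 → p ≤ d := by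
  have e := (Nat.mul_div_cancel' hm).symm
  have hn : PNat πᶜ (Nat.card G / m) := fun q _ h h' => hm' q h' h
  obtain ⟨L, hL, hn'⟩ := main m G π _ p e hmπ hn (fun q hq h => hmin q (hmπ q hq h)) hk
  exact ⟨L, hall_card e hmπ hn hL, hn', kp_le_classes (cover hL hn'),
    le_of_primes (fun q hq h => hmin q (hL.isPi q hq h)) Nat.card_pos.ne'⟩

end H19.PC
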