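import Cfsg.Agent.H74.RESpec
import Cfsg.Agent.S0205

/-! # S1308, chapter RE: the solvability step. -/

set_option autoImplicit false

namespace H19.ReSV0

open Cfsg Subgroup H14 H98 H1.Gold H31.S2 H14.GC H14.FE H14.NF
open scoped commutatorElement

universe u

variable {G : Type u} [Group G] [Finite G]

omit [Finite G] in
theorem solv_subgroupOf {A B : Subgroup G} (hA : Group.IsSolvable A) :
    Group.IsSolvable (A.subgroupOf B) :=
  Group.isSolvable_of_isSolvable_injective
    (f := (B.subtype.comp (A.subgroupOf B).subtype).codRestrict A fun x => x.2)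
    fun _ _ h => Subtype.ext (Subtype.ext (congrArg (Subtype.val : A → G) h))

theorem solv_odd {A B T : Subgroup G} [A.Normal] (hA : Group.IsSolvable A) (hT : IsSyl 2 T B)
    (hTA : T ≤ A) : Group.IsSolvable B := by
  have : Fact (Nat.Prime 2) := ⟨Nat.prime_two⟩
  have h1 : ¬ 2 ∣ A.relIndex B := fun h =>
    hT.not_dvd_relIndex (h.trans (relIndex_dvd_of_le_left B hTA))
  have h2 : Group.IsSolvable (B ⧸ A.subgroupOf B) :=
    Cfsg.Agent.S0205.result (Nat.odd_iff.2 (Nat.two_dvd_ne_zero.1 h1))
  exact (Group.isSolvable_iff_subgroup_quotient (A.subgroupOf B)).2 ⟨solv_subgroupOf hA, h2⟩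

omit [Finite G] in
theorem solv_comm {A B : Subgroup G} (hA : Group.IsSolvable A) (h : ⁅B, B⁆ ≤ A) :
    Group.IsSolvable B := by
  have := solv_subgroupOf (B := B) hA
  refine Group.isSolvable_of_ker_le_range (A.subgroupOf B).subtype (Abelianization.of (G := B)) ?_
  rw [Abelianization.ker_of, range_subtype]
  intro x hx
  apply h
  have h1 : (commutator B).map B.subtype = ⁅B, B⁆ := by
    rw [commutator_def, map_commutator, ← MonoidHom.range_eq_map, range_subtype]
  exact h1 ▸ mem_map_of_mem _ hx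

theorem sv0 : H74.RE.SV0.{u} := by
  intro G _ _ Q R F hQ hF hR hp h1 h2
  have : Fact (Nat.Prime 2) := ⟨Nat.prime_two⟩
  have hW : Group.IsSolvable ↥(Q ⊓ cen F) := by
    have hs : Group.IsSolvable F := by
      have := hp.isNilpotent
      infer_instance
    refine solv_odd (A := F) hs (hR.inf_of_le_normalizer inf_le_left le_normalizer_of_normal) ?_
    exact (inf_le_inf_left R inf_le_right).trans h2
  have hc : ⁅Q ⊓ cen (F ⊓ Q), F⁆ ≤ F ⊓ Q :=
    (commutator_le_inf _ _).trans (le_inf inf_le_right (inf_le_left.trans inf_le_left))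
  have hb : ⁅⁅Q ⊓ cen (F ⊓ Q), F⁆, Q ⊓ cen (F ⊓ Q)⁆ = ⊥ :=
    commutator_eq_bot_iff_le_centralizer.2 (hc.trans (le_centralizer_iff.1 inf_le_right))
  have hY : Group.IsSolvable ↥(Q ⊓ cen (F ⊓ Q)) := by
    refine solv_comm hW (le_inf ((commutator_le_inf _ _).trans (inf_le_left.trans inf_le_left)) ?_)
    refine commutator_eq_bot_iff_le_centralizer.1 (commutator_commutator_eq_bot_of_rotate hb ?_)
    rwa [commutator_comm F]
  exact solv_odd hY hR (le_inf hR.le (le_centralizer_iff.1 h1))

end H19.ReSV0
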