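import Cfsg.Agent.H19.S8B
import Cfsg.Agent.H28.D8Final
import Cfsg.Agent.H3.DihQuat

/-! The `3`-local data of `S₈`: normal form and the centralizer of `τ`. -/

set_option autoImplicit false
set_option synthInstance.maxSize 5000
set_option synthInstance.maxHeartbeats 200000

namespace H19.S8

open Subgroup H98 H14 H56.L3 H42.L3 Equiv
open H19.A8 (mem_zp3 Ce_inv Ce_symm pow_of_six Ce_le_Nz)

attribute [local instance 2000] List.decidableBAll List.decidableBEx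

theorem l_set : ∀ k : L, (k ^ 3 = 1 → (k.2 = 1 → k = 1 ∨ k = z0 ∨ k = z0⁻¹) ∧
    (k.2 ≠ 1 → (∃ c : Perm (Fin 5), c * k.2 * c⁻¹ = z1.2) ∧ ∃ i, (1, H75.adjSwap i) * k *
      (1, H75.adjSwap i)⁻¹ * k ≠ k * ((1, H75.adjSwap i) * k * (1, H75.adjSwap i)⁻¹))) ∧
    (k * z0 = z0 * k → k * z1 * k⁻¹ = z1⁻¹ → k * k = 1 →
      ∃ c ∈ [1, z1, z1⁻¹], c * k * c⁻¹ = t6 ∨ c * k * c⁻¹ = τ0 * t6) ∧
    (k * z1 * k⁻¹ * z1 = z1 * (k * z1 * k⁻¹) ∨ k * τ0 = τ0 * k →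
      k * z1 * k⁻¹ = z1 ∨ k * z1 * k⁻¹ = z1⁻¹) := by
  decide +kernel

theorem l_card :
    (Finset.univ.filter fun k : L => k * z1 * k⁻¹ * z1 = z1 * (k * z1 * k⁻¹)).card = 72 := by
  decide +kernel

variable {G : Type*} [Group G] [Finite G] {φ : L →* G} {s : G}

theorem move (hi : Function.Injective φ) (hn : Nz (φ z0) = φ.range)
    (h2 : φ.range.relIndex (nr (DD φ)) = 2) {g : G} (hg : g ∈ nr (DD φ)) (h : g ∉ φ.range) :
    g * φ z0 * g⁻¹ = φ z1 ∨ g * φ z0 * g⁻¹ = (φ z1)⁻¹ := by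
  obtain ⟨a, ha, b, hb, e⟩ := mem_DD.1 (conj_mem_of_mem_normalizer hg z0_mem)
  have h3 : g⁻¹ * φ t0 * g ∈ Nz (φ z0) := by
    rw [hn, H28.OT.mul_mem_of_two h2 (mul_mem (inv_mem hg) t0_nr) hg,
      φ.range.mul_mem_cancel_right ⟨_, rfl⟩, inv_mem_iff]
  have key : ∀ a ∈ [1, z0, z0⁻¹], ∀ b ∈ [1, z1, z1⁻¹], ∀ c ∈ [1, a * b, (a * b)⁻¹],
      t0 * (a * b) * t0⁻¹ = c → a * b ∈ [1, z0, z0⁻¹] ∨ a * b = z1 ∨ a * b = z1⁻¹ := by
    decide +kernel
  have h4 : ∃ c ∈ [1, a * b, (a * b)⁻¹], t0 * (a * b) * t0⁻¹ = c := by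
    refine ⟨_, ?_, rfl⟩
    have : φ (t0 * (a * b) * t0⁻¹) = g * (g⁻¹ * φ t0 * g * φ z0 * (g⁻¹ * φ t0 * g)⁻¹) * g⁻¹ := by
      rw [map_mul, map_mul, ← e, map_inv]; group
    simp only [List.mem_cons, List.not_mem_nil, or_false, ← hi.eq_iff, this, map_inv, ← e, map_one]
    rcases (mem_zp3 (map_cube z3.1)).1 (mem_Nz.1 h3) with f | f | f <;> rw [f] <;> simp [mul_assoc]
  obtain ⟨c, hc, h4⟩ := h4
  rcases key a ha b hb c hc h4 with f | f | f
  · refine absurd (hn.le (mem_Nz.2 ((mem_zp3 (map_cube z3.1)).2 ?_))) h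
    simpa [e, ← hi.eq_iff] using f
  · exact .inl (f ▸ e)
  · exact .inr (by rw [e, f, map_inv])

theorem exists_phi {y z : G} (hy : y ^ 3 = 1) (hz : z ^ 3 = 1) (h1 : z ≠ 1) (h2 : y ∉ zpowers z)
    (hc : y ∈ Ce z) (eL : Nz z ≃* L) : ∃ φ : L →* G, Function.Injective φ ∧
      Nz (φ z0) = φ.range ∧ zpowers (φ z0) = zpowers z ∧ ∃ b ∈ [1, z0, z0⁻¹], y = φ (b * z1) := by
  let ψ : L →* G := (Nz z).subtype.comp eL.symm.toMonoidHom
  have hi : Function.Injective ψ := Subtype.val_injective.comp eL.symm.injective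
  have hr : ψ.range = Nz z := le_antisymm (by rintro _ ⟨k, rfl⟩; exact (eL.symm k).2)
    fun g hg => ⟨eL ⟨g, hg⟩, congrArg Subtype.val (eL.symm_apply_apply _)⟩
  clear_value ψ
  clear eL
  obtain ⟨k, rfl⟩ := hr.ge (Ce_le_Nz _ (mem_Ce.2 (rfl : z * z = z * z)))
  obtain ⟨l, rfl⟩ := hr.ge (Ce_le_Nz _ hc)
  have hk : ∀ m, ψ (m * k * m⁻¹) ∈ zpowers (ψ k) := fun m => by
    simpa using mem_Nz.1 (hr.le ⟨m, rfl⟩)
  have k3 := (l_set k).1 (hi (by simpa using hz))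
  have l3 : l ^ 3 = 1 := hi (by simpa using hy)
  have e : zpowers (ψ z0) = zpowers (ψ k) := by
    rcases k3.1 (by_contra fun e => let ⟨i, f⟩ := (k3.2 e).2; f (hi (by
        obtain ⟨n, e⟩ := hk (1, H75.adjSwap i)
        rw [map_mul, map_mul ψ k, ← e]; group))) with rfl | rfl | rfl
    exacts [absurd ψ.map_one h1, rfl, by rw [map_inv, zpowers_inv]]
  obtain ⟨c, hm⟩ := (((l_set l).1 l3).2 fun h => h2 (by
    rw [← e, mem_zp3 (map_cube z3.1)]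
    simpa [← hi.eq_iff] using ((l_set l).1 l3).1 h)).1
  let m : L := (1, c)
  have e' : zpowers (ψ (m⁻¹ * z0 * m)) = zpowers (ψ k) := by
    rw [← e, show m⁻¹ * z0 * m = z0 by simp [m, z0]]
  refine ⟨ψ.comp (MulAut.conj m).symm.toMonoidHom, hi.comp (MulAut.conj m).symm.injective, ?_,
    e', (l.1, 1), by
      simpa using ((l_set (l.1, 1)).1 (Prod.ext (congrArg Prod.fst l3 :) (one_pow 3))).1 rfl,
    congrArg ψ (Prod.ext (by simp [m, z1]) (by simp [m, ← hm, mul_assoc]))⟩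
  rw [MonoidHom.range_comp, MonoidHom.range_eq_top.2 (MulAut.conj m).symm.surjective,
    ← MonoidHom.range_eq_map, hr]
  exact congrArg (fun X : Subgroup G => nr X) e'

omit [Finite G] in
theorem DD_range : DD φ ≤ φ.range := DD_le ⟨_, rfl⟩ ⟨_, rfl⟩

omit [Finite G] in
theorem mem_cn {g : G} : g ∈ cn (DD φ) ↔ g ∈ Ce (φ z0) ∧ g ∈ Ce (φ z1) :=
  ⟨fun e => ⟨mem_Ce.2 (e _ z0_mem).symm, mem_Ce.2 (e _ z1_mem).symm⟩,
    fun e _ hd => mem_Ce.1 (DD_le (Ce_symm e.1) (Ce_symm e.2) hd)⟩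

omit [Finite G] in
theorem Hyp.conj (h : Hyp φ s) {d : G} (hd : d ∈ DD φ) : Hyp φ (d * s * d⁻¹) := by
  have hr := DD_range hd
  refine ⟨h.inj, h.nor, h.syl, by rw [conj_mul, h.ss]; simp, ?_, fun g hg => ?_, h.cy⟩
  · have := mem_Ce'.1 (Ce_symm (D_comm (inv_mem hd) z0_mem))
    rw [← mem_Ce'.1 (Ce_symm (D_comm hd z1_mem)), ← h.sz]
    nth_rewrite 2 [← this]
    group
  · exact (h.nD _ (mul_mem hg (le_normalizer hd))).imp (mul_mem_cancel_right hr).1 fun e => by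
      simpa [mul_assoc] using mul_mem e (inv_mem hr)

theorem Hyp.norm (h : Hyp φ s) : ∃ s, Hyp φ s ∧ ∃ c, (c = t6 ∨ c = τ0 * t6) ∧
    s * φ t0 * s⁻¹ = φ c := by
  have h1 : s * φ t0 * s⁻¹ ∈ Ce (φ z0) :=
    h.sz' ▸ conj_mem_Ce (mem_Ce'.2 ((map_conj _ _).trans (congrArg φ z3.2.2.2.2.2.2.1))) s
  obtain ⟨k, hk⟩ := h.pull h1
  obtain ⟨c, hc, e⟩ := (l_set k).2.1 (h.comm (hk ▸ h1)) (h.inj (by
    rw [← map_conj, hk, map_inv, ← h.sz, conj_inv (a := φ z0), ← map_inv, ← z3.2.2.2.2.2.1,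
      ← map_conj]
    group)) (h.inj (by rw [map_mul, hk, conj_mul, map_sq (by decide)]; simp))
  have c0 : c⁻¹ * t0 * c⁻¹⁻¹ = t0 := by clear e; revert c; decide +kernel
  refine ⟨_, h.conj (d := φ c) (mem_DD.2 ⟨1, by simp, c, hc, by rw [one_mul]⟩), _, e, ?_⟩
  rw [← map_conj, hk]
  nth_rewrite 2 [← c0]
  simp [mul_assoc]

theorem exists_hyp {D : Subgroup G} (hD : IsSyl 3 D ⊤) {y z : G} (hgen : closure {y, z} = D)
    (hc : ∀ a ∈ D, ∀ b ∈ D, a ∈ Ce b) (hcard : Nat.card D = 9) (hexp : ∀ a ∈ D, a ^ 3 = 1)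
    (hC : Nat.card (cn D) = 18) (hN : Nat.card (nr D) = 144) (hyn : Ce y ≤ nr D)
    (hy : Nat.card (Ce y) = 36) (hq : ∀ g ∈ Ce y, g ^ 2 ∈ D) (eL : Nz z ≃* L) :
    ∃ (φ : L →* G) (s : G), Hyp φ s ∧ D = DD φ := by
  have yD : y ∈ D := hgen ▸ subset_closure (by simp)
  have zD : z ∈ D := hgen ▸ subset_closure (by simp)
  have nc : ∀ a ∈ D, y ∈ zpowers a → z ∈ zpowers a → False := fun a ha h1 h2 => by
    have := card_dvd_of_le (show D ≤ zpowers a from hgen ▸ (closure_le _).2 (by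
      rintro _ (rfl | rfl) <;> assumption))
    rw [hcard, Nat.card_zpowers] at this
    exact absurd (this.trans (orderOf_dvd_of_pow_eq_one (hexp a ha))) (by decide)
  obtain ⟨φ, hi, hn, e, b, hb, rfl⟩ := exists_phi (hexp y yD) (hexp z zD)
    (fun h => nc y yD (mem_zpowers y) (h ▸ one_mem _)) (fun h => nc z zD h (mem_zpowers z))
    (hc y yD z zD) eL
  have hb' : φ b ∈ zpowers (φ z0) := by simpa [mem_zp3 (map_cube z3.1), ← hi.eq_iff] using hb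
  have h0 : φ z0 ∈ D := zpowers_le_of_mem zD (e ▸ mem_zpowers _)
  obtain rfl : D = DD φ := by
    rw [map_mul, D.mul_mem_cancel_left (zpowers_le_of_mem h0 hb')] at yD
    refine le_antisymm (hgen ▸ (closure_le _).2 ?_) (DD_le h0 yD)
    rintro _ (rfl | rfl)
    exacts [mem_DD.2 ⟨b, hb, z1, by simp, rfl⟩, mem_sup_left (e ▸ mem_zpowers _)]
  have h2 : φ.range.relIndex (nr (DD φ)) = 2 := by
    have h3 : Nat.card ((nr (DD φ)).comap φ) = 72 := (Nat.subtype_card _ fun k => by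
      simp only [Finset.mem_filter, Finset.mem_univ, true_and]
      refine ⟨fun e => mem_nr_DD (mem_sup_left (mem_Nz.1 (hn.ge ⟨k, rfl⟩))) ?_, fun h => hi (by
        simpa using mem_Ce.1 (D_comm z1_mem (conj_mem_of_mem_normalizer h z1_mem)))⟩
      rcases (l_set k).2.2 (.inl e) with e | e <;> rw [map_conj, e]
      exacts [z1_mem, map_inv φ _ ▸ inv_mem z1_mem]).trans l_card
    have h4 := (φ.range.subgroupOf (nr (DD φ))).index_mul_card
    rw [← card_map_of_injective hi, map_comap_eq,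
      ← Nat.card_congr (subgroupOfEquivOfLe inf_le_right).toEquiv, inf_subgroupOf_right] at h3
    rw [h3, hN] at h4
    exact Nat.eq_of_mul_eq_mul_right (by decide) h4
  have hY : Ce (φ (z0 * z1)) ≤ nr (DD φ) ∧ Nat.card (Ce (φ (z0 * z1))) = 36 ∧
      ∀ g ∈ Ce (φ (z0 * z1)), g ^ 2 ∈ DD φ := by
    simp only [List.mem_cons, List.not_mem_nil, or_false] at hb
    rcases hb with rfl | rfl | rfl
    · obtain ⟨g, hg, h⟩ := H28.OT.exists_not_mem_of_two h2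
      obtain ⟨k, h1, -, h3, h5⟩ := l_five
      have h4 : g * φ k * g⁻¹ ∈ Ce (φ (1 * z1)) := by
        have := conj_mem_Ce (map_mem_Ce (φ := φ) h1) g
        rcases move hi hn h2 hg h with f | f <;> rw [f] at this
        exacts [by rwa [one_mul], by rwa [one_mul, ← Ce_inv]]
      have := congrArg Subtype.val (hy ▸ pow_card_eq_one' (x := (⟨_, h4⟩ : Ce _)))
      exact absurd ((pow_eq_one_iff_of_coprime (show Nat.Coprime 5 36 by decide)).1
        ⟨h3, hi (by simpa [conj_pow] using this)⟩) h5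
    · exact ⟨hyn, hy, hq⟩
    · have e : Ce (φ (z0 * z1)) = cj (φ t0) (Ce (φ (z0⁻¹ * z1))) := by
        rw [H14.cj_centralizer_singleton, map_conj]
        exact congrArg (fun x => Ce (φ x)) (by decide +kernel)
      refine ⟨e ▸ cj_le_of_le_of_mem hyn t0_nr, by rw [e, card_cj, hy], e ▸ ?_⟩
      rintro _ ⟨g, hg, rfl⟩
      exact map_pow (MulAut.conj (φ t0)).toMonoidHom g 2 ▸ conj_mem_of_mem_normalizer t0_nr (hq g hg)
  obtain ⟨g, hg, hg'⟩ : ∃ g ∈ Ce (φ (z0 * z1)), g ∉ φ.range := SetLike.not_le_iff_exists.1 fun e => by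
    have : Ce (φ (z0 * z1)) ≤ cn (DD φ) := fun g hg => by
      obtain ⟨k, rfl⟩ := e hg
      have := (l_all k).2.1 (hi (by simpa using mem_Ce.1 hg))
      exact mem_cn.2 (this.imp map_mem_Ce map_mem_Ce)
    exact absurd (hC ▸ hY.2.1 ▸ card_le_of_le this) (by decide)
  have hs := pow_mem hg 3
  have ss : g ^ 3 * g ^ 3 = 1 := by
    rw [← pow_add, show 3 + 3 = 2 * 3 from rfl, pow_mul, hexp _ (hY.2.2 g hg)]
  have hs' : g ^ 3 ∉ φ.range := fun e => hg' ((mul_mem_cancel_left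
    (DD_range (hY.2.2 g hg))).1 (pow_succ g 2 ▸ e))
  generalize g ^ 3 = s at hs ss hs'
  refine ⟨φ, s, ⟨hi, hn, hD, ss, (move hi hn h2 (hY.1 hs) hs').resolve_right fun f => ?_,
    fun g hg => by rw [H28.OT.mul_mem_of_two h2 hg (hY.1 hs)]; tauto, hY.1⟩, rfl⟩
  have f' : s * φ z1 * s⁻¹ = (φ z0)⁻¹ := by
    rw [← inv_inv (φ z1), ← f, inv_eq_of_mul_eq_one_right ss]
    simp [mul_assoc, inv_eq_of_mul_eq_one_right ss, ← mul_assoc s s, ss]
  refine (by decide +kernel : (z0 * z1) ^ 2 ≠ 1) (hi ?_)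
  rw [map_pow, sq, map_one]
  nth_rewrite 1 [← mem_Ce'.1 hs]
  rw [map_mul, ← conj_mul, f, f']; group

theorem Hyp.mem_D (h : Hyp φ s) {g : G} (hg : g ∈ cn (DD φ)) (h3 : g ^ 3 = 1) : g ∈ DD φ :=
  (h.cD (mem_cn.1 hg).1 (mem_cn.1 hg).2).2.2.resolve_right fun e => h.tau_ne (by
    have := (cases_D h.cy e).1
    rwa [(show Commute g (φ τ0) from mem_Ce.1 (h.nr_le (centralizer_le_normalizer _ hg))).mul_pow,
      h3, one_mul, pow_succ, sq, Hyp.tau_sq, one_mul] at this)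

theorem Hyp.cen_le (h : Hyp φ s) {d g : G} (hd : d ∈ DD φ) (h1 : d ≠ 1) (h2 : g ∈ Ce d)
    (h3 : g ∈ Ce (φ τ0)) : g ∈ nr (DD φ) := by
  have key : ∀ g ∈ Ce (φ z0), g ∈ Ce (φ τ0) → g ∈ nr (DD φ) := fun g a b => by
    obtain ⟨k, rfl⟩ := h.pull a
    refine mem_nr_DD ((mem_Ce'.1 a).symm ▸ z0_mem) ?_
    rcases (l_set k).2.2 (.inr (h.comm b)) with e | e <;> rw [map_conj, e]
    exacts [z1_mem, map_inv φ _ ▸ inv_mem z1_mem]
  rcases (cases_D h.cy hd).2 h1 with e | e | e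
  · exact key g (e ▸ h2) h3
  · simpa [mul_assoc] using mul_mem (mul_mem (inv_mem h.s_nr) (key _ (h.sz' ▸ conj_mem_Ce (e ▸ h2) s)
      (mul_mem (mul_mem h.st h3) (inv_mem h.st)))) h.s_nr
  · exact e h2

theorem Hyp.dich (h : Hyp φ s) (h9 : Nat.card (DD φ) = 9) (hN : Nat.card (nr (DD φ)) = 144) {c : L}
    (hc : c = t6 ∨ c = τ0 * t6) (e : s * φ t0 * s⁻¹ = φ c) : Ce (φ τ0) ≤ nr (DD φ) ∨
    ∃ θ : Ce (φ τ0) →* Perm (Fin 6), Function.Surjective θ ∧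
      ∀ n, θ n = 1 ↔ (n : G) = 1 ∨ (n : G) = φ τ0 := by
  have hτ : φ τ0 ∈ Ce (φ τ0) := mem_Ce.2 rfl
  have : ((zpowers (φ τ0)).subgroupOf (Ce (φ τ0))).Normal :=
    (normal_subgroupOf_iff_le_normalizer (zpowers_le_of_mem hτ)).2 (Ce_le_Nz _)
  let f := QuotientGroup.mk' ((zpowers (φ τ0)).subgroupOf (Ce (φ τ0)))
  have f1 : ∀ a, f a = 1 ↔ (a : G) = 1 ∨ (a : G) = φ τ0 := fun a =>
    (QuotientGroup.eq_one_iff _).trans (H42.Ree.mem_zpowers_two Hyp.tau_sq)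
  have hs : Function.Surjective f := QuotientGroup.mk'_surjective _
  obtain ⟨P, hP⟩ := isSyl_top_iff.1 (map_top_of_surjective f hs ▸
    (h.syl.of_le D_tau le_top).subgroupOf_top.map f)
  have tD : φ τ0 ∈ cn (DD φ) := fun d hd => mem_Ce.1 (D_tau hd)
  have h1 : ∀ n, f n ∈ P.1 ↔ (n : G) ∈ cn (DD φ) := fun n => by
    refine hP ▸ ⟨fun ⟨a, ha, e⟩ => ?_, fun e => (h.cD (mem_cn.1 e).1 (mem_cn.1 e).2).2.2.elim
      (⟨n, ·, rfl⟩) fun e => ⟨n * ⟨_, hτ⟩, e, by rw [map_mul, (f1 ⟨_, hτ⟩).2 (.inr rfl), mul_one]⟩⟩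
    refine ((cn (DD φ)).mul_mem_cancel_left (y := n) (inv_mem (x := (a : G))
      fun d hd => mem_Ce.1 (D_comm ha hd))).1 (?_ : (a⁻¹ * n : Ce (φ τ0)).1 ∈ _)
    rcases (f1 (a⁻¹ * n)).1 (by rw [map_mul, map_inv, e, inv_mul_cancel]) with e | e <;> rw [e]
    exacts [one_mem _, tD]
  have h2 : ∀ n, f n ∈ nr P.1 ↔ (n : G) ∈ nr (DD φ) := fun n => by
    refine ⟨fun e => mem_normalizer_of_cj_le ?_, fun e => mem_normalizer_of_cj_le ?_⟩
    · rintro _ ⟨x, hx, rfl⟩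
      have := conj_mem_of_mem_normalizer e (hP.ge ⟨⟨x, D_tau hx⟩, hx, rfl⟩)
      rw [← map_inv, ← map_mul, ← map_mul, h1] at this
      exact h.mem_D this (by rw [← map_pow, (cases_D h.cy hx).1, map_one])
    · rintro _ ⟨x, hx, rfl⟩
      obtain ⟨x, rfl⟩ := hs x
      show f n * f x * (f n)⁻¹ ∈ _
      rw [← map_inv, ← map_mul, ← map_mul, h1]
      exact conj_mem_of_mem_normalizer (normalizer_le_normalizer_centralizer _ e) ((h1 x).1 hx)
  have h3 : ∀ n d : Ce (φ τ0), (d : G) ∈ DD φ → f n * f d = f d * f n → (n : G) ∈ Ce (d : G) :=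
    fun n d hd e => mem_Ce'.2 (mul_inv_eq_one.1 (((f1 (n * d * n⁻¹ * d⁻¹)).1 (by
      simp [e])).resolve_right fun e => h.tau_ne (by
        have h4 : (n * d * (n : G)⁻¹) ^ 3 = 1 := by rw [conj_pow, (cases_D h.cy hd).1]; simp
        rwa [show n * d * (n : G)⁻¹ = φ τ0 * d from eq_mul_of_mul_inv_eq e, (show Commute (φ τ0) d
          from (mem_Ce.1 d.2).symm).mul_pow, (cases_D h.cy hd).1, mul_one, pow_succ, sq, Hyp.tau_sq,
          one_mul] at h4)))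
  have t2 : Nat.card (zpowers (φ τ0)) = 2 := by
    rw [Nat.card_zpowers, H42.Ree.two_of_sq Hyp.tau_sq h.tau_ne]
  have c9 : Nat.card P.1 = 9 := by
    rw [hP, ← relIndex_ker, QuotientGroup.ker_mk', relIndex_subgroupOf D_tau, ← inf_relIndex_right,
      (Subgroup.disjoint_of_coprime_natCard (by rw [t2, h9]; decide)).eq_bot, relIndex_bot_left, h9]
  have c72 : Nat.card (nr P.1) = 72 := by
    have := ((zpowers (φ τ0)).subgroupOf (nr (DD φ))).index_mul_card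
    rw [Nat.card_congr (subgroupOfEquivOfLe (zpowers_le_of_mem
      (centralizer_le_normalizer _ tD))).toEquiv, t2, hN, ← relIndex] at this
    rw [show nr P.1 = ((nr (DD φ)).subgroupOf _).map f from Subgroup.ext fun x => by
      obtain ⟨x, rfl⟩ := hs x
      exact ⟨fun e => ⟨x, (h2 x).1 e, rfl⟩, fun ⟨y, hy, e⟩ => e ▸ (h2 y).2 hy⟩, ← relIndex_ker,
      QuotientGroup.ker_mk', relIndex_subgroupOf h.nr_le]
    omega
  let a : Ce (φ τ0) := ⟨s * φ t0, mul_mem h.st (map_mem_Ce (by decide))⟩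
  have a2 : ((a ^ 2 : Ce (φ τ0)) : G) = φ (c * t0) := by
    rw [map_mul, ← e, h.sinv, sq]; exact (mul_assoc _ _ _).symm
  have a4 : f a ^ 4 = 1 := by
    rw [← map_pow, show 4 = 2 * 2 from rfl, pow_mul, f1, coe_pow, a2, ← map_pow]
    exact .inl (by rcases hc with rfl | rfl <;> exact (congrArg φ (by decide)).trans φ.map_one)
  have a1 : f a ^ 2 ≠ 1 := by
    rw [← map_pow, Ne, f1, a2, h.inj.eq_iff, map_eq_one_iff φ h.inj]
    rcases hc with rfl | rfl <;> decide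
  have b2 : f ⟨s, h.st⟩ ^ 2 = 1 := by rw [← map_pow, f1]; exact .inl ((sq s).trans h.ss)
  have ab : f ⟨s, h.st⟩ * f a * (f ⟨s, h.st⟩)⁻¹ = (f a)⁻¹ := by
    rw [← map_inv, ← map_mul, ← map_mul, ← map_inv]
    refine congrArg f (Subtype.ext ?_)
    simp [a, ← mul_assoc, h.ss, inv_eq_of_mul_eq_one_right (map_sq (φ := φ) (k := t0) (by decide))]
  obtain ⟨ι, key⟩ := H28.exists_emb72 (H28.syl3_of_sylow P
    (by rw [hP]; rintro _ ⟨a, ha, rfl⟩ _ ⟨b, hb, rfl⟩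
        rw [← map_mul, ← map_mul]; exact congrArg f (Subtype.ext (mem_Ce.1 (D_comm hb ha))))
    (by rw [hP]; rintro _ ⟨a, ha, rfl⟩
        rw [← map_pow, show a ^ 3 = 1 from Subtype.ext (cases_D h.cy ha).1, map_one])
    fun a ha a1 g hg => by
      obtain ⟨a, hb, rfl⟩ := hP.le ha
      obtain ⟨g, rfl⟩ := hs g
      exact (h2 g).2 (h.cen_le hb (fun e => a1 ((f1 a).2 (.inl e))) (h3 g a hb (mem_Ce.1 hg)) g.2))
    c9 (fun g hg => by
      obtain ⟨g, rfl⟩ := hs g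
      exact (h1 g).2 fun d hd =>
        (mem_Ce.1 (h3 g ⟨d, D_tau hd⟩ hd (hg _ (hP.ge ⟨_, hd, rfl⟩)))).symm) c72
    (H3.dihedralHom _ _ a4 b2 ab) (H3.dihedralHom_injective a4 b2 ab
      (orderOf_eq_prime_pow (p := 2) (n := 1) a1 a4) fun ⟨n, e⟩ => a1 (by
        rw [← e] at ab; rw [sq, ← eq_inv_iff_mul_eq_one, ← ab]; group))
    fun q => (H3.dihedralHom_range a4 b2 ab ▸ (closure_le _).2 (by
      rintro _ (rfl | rfl)
      exacts [(h2 _).2 (mul_mem h.s_nr t0_nr), (h2 _).2 h.s_nr]) : MonoidHom.range _ ≤ _) ⟨q, rfl⟩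
  exact (key.normal_or_sym c9).imp (fun e g hg => (h2 ⟨g, hg⟩).1 ((normalizer_eq_top_iff.2 e).ge
    (mem_top _))) fun ⟨e⟩ => ⟨e.toMonoidHom.comp f, e.surjective.comp hs,
      fun n => e.map_eq_one_iff.trans (f1 n)⟩

end H19.S8
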