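import Cfsg.Agent.H19.S8C
import Cfsg.Agent.H86.AltAut

/-! The `3`-local data of `S₈`: the model `2 × S₆` of the centralizer of `τ`. -/

set_option autoImplicit false
set_option synthInstance.maxSize 5000
set_option synthInstance.maxHeartbeats 200000

namespace H19.S8

open Subgroup H98 H14 H56.L3 H42.L3 Equiv H75
open H19.A8 (mem_zp3 Ce_inv Ce_symm pow_of_six Ce_le_Nz)

attribute [local instance 2000] List.decidableBAll List.decidableBEx

abbrev P6 := Perm (Fin 6)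

/-- `(0 1 2)` -/
def c0 : P6 := swap 0 1 * swap 1 2

/-- `(3 4 5)` -/
def c1 : P6 := swap 3 4 * swap 4 5

/-- Triple transpositions satisfying the Coxeter relations. -/
def ox : Fin 5 → P6 := ![swap 0 1 * swap 2 3 * swap 4 5, swap 0 2 * swap 1 4 * swap 3 5,
  swap 0 1 * swap 2 5 * swap 3 4, swap 0 2 * swap 1 3 * swap 4 5, swap 0 1 * swap 2 4 * swap 3 5]

theorem exists_outer : ∃ o : P6 ≃* P6, o c0 = ox 0 * ox 1 := by
  obtain ⟨o, ho⟩ := exists_hom_perm ox (by decide) (by decide) (by unfold Commute SemiconjBy; decide)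
  have key : ∀ i, ∃ w ∈ [[0, 2, 4], [2, 1, 0, 3, 2, 1, 4, 3, 2], [0, 3, 2, 4, 3],
      [0, 1, 0, 2, 1, 0, 3, 2, 1, 0, 4, 3, 2, 1, 0], [0, 2, 3, 2, 4, 3, 2]],
      (w.map ox).prod = adjSwap i := by decide +kernel
  refine ⟨.ofBijective o (Finite.surjective_iff_bijective.1 (MonoidHom.range_eq_top.1
    (top_le_iff.1 (adjSwap_closure 5 ▸ (closure_le _).2 ?_)))), (map_mul o _ _).trans ?_⟩
  · rintro _ ⟨i, rfl⟩
    obtain ⟨w, -, e⟩ := key i
    exact e ▸ list_prod_mem (by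
      simp only [List.mem_map]; rintro _ ⟨j, -, rfl⟩; exact ⟨_, ho j⟩)
  · rw [← ho 0, ← ho 1]; rfl

theorem norm6 {x z z' x' : P6} (z3 : z ^ 3 = 1) (z1 : z ≠ 1) (h1 : x' * z = z * x')
    (h2 : x' * x' = 1) (h3 : z' * z = z * z') (h4 : z' ^ 3 = 1) (h5 : z' ≠ 1)
    (h6 : x' * z' * x'⁻¹ = z'⁻¹) (h7 : x * z * x⁻¹ = z⁻¹) (h8 : x * z' = z' * x) (h9 : x * x = 1) :
    ∃ e : P6 ≃* P6, e z = c0 ∧ e z' = c1 ∧ e x = swap 0 1 ∧ e x' = swap 3 4 := by
  have key : ∀ x' : P6, x' * c0 = c0 * x' → x' * x' = 1 → ∀ z', z' * c0 = c0 * z' → z' ^ 3 = 1 →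
      z' ≠ 1 → x' * z' * x'⁻¹ = z'⁻¹ → ∀ x, x * c0 * x⁻¹ = c0⁻¹ → x * z' = z' * x → x * x = 1 →
      ∃ a ∈ [1, c0, c0⁻¹], ∃ b ∈ [1, c1, c1⁻¹, swap 3 4, swap 3 5, swap 4 5], ∃ c ∈ [a * b],
        c * c0 * c⁻¹ = c0 ∧ c * z' * c⁻¹ = c1 ∧ c * x * c⁻¹ = swap 0 1 ∧
          c * x' * c⁻¹ = swap 3 4 := by decide +kernel
  obtain ⟨e, he⟩ : ∃ e : P6 ≃* P6, e z = c0 := by
    have cj : ∀ y : P6, y ^ 3 = 1 → y ≠ 1 → y.support.card = z.support.card →
        ∃ c, MulAut.conj c z = y := fun y a b c => by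
      obtain ⟨n, e, f⟩ := H86.cycleType_of_orderOf_three (orderOf_eq_prime z3 z1)
      obtain ⟨m, e', f'⟩ := H86.cycleType_of_orderOf_three (orderOf_eq_prime a b)
      obtain rfl : m = n := by omega
      exact isConj_iff.1 (Perm.isConj_iff_cycleType_eq.2 (e.trans e'.symm))
    obtain ⟨n, -, f⟩ := H86.cycleType_of_orderOf_three (orderOf_eq_prime z3 z1)
    have : z.support.card ≤ 6 := (Finset.card_le_univ _).trans (by simp)
    obtain rfl | rfl : n = 0 ∨ n = 1 := by omega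
    · exact let ⟨c, e⟩ := cj c0 (by decide) (by decide) (f.symm ▸ by decide); ⟨_, e⟩
    · obtain ⟨c, e⟩ := cj (ox 0 * ox 1) (by decide) (by decide) (f.symm ▸ by decide)
      obtain ⟨o, ho⟩ := exists_outer
      exact ⟨(MulAut.conj c).trans o.symm, o.symm_apply_eq.2 (e.trans ho.symm)⟩
  obtain ⟨_, -, _, -, c, -, k⟩ := key (e x') (by rw [← he, ← map_mul, h1, map_mul])
    (by rw [← map_mul, h2, map_one]) (e z') (by rw [← he, ← map_mul, h3, map_mul])
    (by rw [← map_pow, h4, map_one]) (by simpa using h5)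
    (by rw [← map_inv, ← map_mul, ← map_mul, h6, map_inv]) (e x)
    (by rw [← he, ← map_inv, ← map_mul, ← map_mul, h7, map_inv])
    (by rw [← map_mul, h8, map_mul]) (by rw [← map_mul, h9, map_one])
  exact ⟨e.trans (MulAut.conj c), he ▸ k.1, k.2⟩

abbrev M6 := Multiplicative (ZMod 2) × P6

/-- the generator of the first factor -/
abbrev ε : Multiplicative (ZMod 2) := .ofAdd 1

variable {G : Type*} [Group G] [Finite G] {φ : L →* G} {s : G}

/-- The model `2 × S₆` of `C(τ)`. -/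
structure Mod (φ : L →* G) (s : G) (μ : M6 →* G) : Prop where
  inj : Function.Injective μ
  range : μ.range = Ce (φ τ0)
  eτ : μ (ε, 1) = φ τ0
  e0 : μ (1, c0) = φ z0
  e1 : μ (1, c1) = φ z1
  e6 : μ (1, swap 3 4) = φ t6
  es : μ (1, swap 0 1) = s * φ t6 * s⁻¹

theorem k6 : t6 * τ0 = τ0 * t6 ∧ t6 * t6 = 1 ∧ t6 * z0 = z0 * t6 ∧ t6 * z1 * t6⁻¹ = z1⁻¹ ∧
    z1 ≠ 1 ∧ z1 ≠ τ0 ∧ z0 ≠ τ0 := by decide +kernel

omit [Finite G] in
theorem tau_t6 : IsConj (φ τ0) (φ t6) :=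
  φ.map_isConj (isConj_iff.2 ⟨(1, swap 0 2 * swap 1 3), by decide +kernel⟩)

omit [Finite G] in
theorem u_t6 : IsConj (φ u0) (φ (τ0 * t6)) :=
  φ.map_isConj (isConj_iff.2 ⟨(1, swap 0 2 * swap 0 4), by decide +kernel⟩)

theorem Hyp.exists_mod (h : Hyp φ s) (θ : Ce (φ τ0) →* P6) (hs : Function.Surjective θ)
    (hk : ∀ n, θ n = 1 ↔ (n : G) = 1 ∨ (n : G) = φ τ0) : ∃ μ, Mod φ s μ := by
  obtain ⟨k1, k2, k3, k4, k5, k6, k7⟩ := k6
  let τ : Ce (φ τ0) := ⟨_, mem_Ce.2 rfl⟩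
  let A : Ce (φ τ0) := ⟨_, map_mem_Ce k1⟩
  let Z : Ce (φ τ0) := ⟨_, D_tau z0_mem⟩
  let Z' : Ce (φ τ0) := ⟨_, D_tau z1_mem⟩
  let S : Ce (φ τ0) := ⟨s, h.st⟩
  have a1 : A * Z = Z * A := Subtype.ext (mem_Ce.1 (map_mem_Ce k3))
  have a2 : A * A = 1 := Subtype.ext (map_sq k2)
  have a3 : A * Z' * A⁻¹ = Z'⁻¹ := Subtype.ext ((map_conj _ _).trans (k4 ▸ map_inv φ _))
  have s1 : S * Z * S⁻¹ = Z' := Subtype.ext h.sz
  have s2 : S * Z' * S⁻¹ = Z := Subtype.ext h.sz'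
  have y0 : Z ^ 3 = 1 := Subtype.ext (map_cube z3.1)
  have y1 : Z' ^ 3 = 1 := Subtype.ext (map_cube z3.2.1)
  obtain ⟨e, e0, e1, es, e6⟩ := norm6 (x := θ (S * A * S⁻¹)) (z := θ Z) (z' := θ Z') (x' := θ A)
    (by rw [← map_pow, y0, map_one])
    (fun e => ((hk _).1 e).elim (z3.2.2.2.1 <| (map_eq_one_iff φ h.inj).1 ·) (k7 <| h.inj ·))
    (by rw [← map_mul, a1, map_mul]) (by rw [← map_mul, a2, map_one])
    (by rw [← map_mul, ← map_mul]
        exact congrArg θ (Subtype.ext (mem_Ce.1 (map_mem_Ce z3.2.2.1.symm))))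
    (by rw [← map_pow, y1, map_one])
    (fun e => ((hk _).1 e).elim (k5 <| (map_eq_one_iff φ h.inj).1 ·) (k6 <| h.inj ·))
    (by rw [← map_inv, ← map_mul, ← map_mul, a3, map_inv])
    (by rw [← map_inv, ← map_mul, ← map_mul, ← map_inv, ← s2, conj_inv (a := Z'), ← a3]; group)
    (by rw [← map_mul, ← map_mul, ← s1, conj_mul, conj_mul, a1])
    (by rw [← map_mul, conj_mul, a2]; simp)
  let η := e.toMonoidHom.comp θ
  replace hs : Function.Surjective η := e.surjective.comp hs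
  have t1 : η τ = 1 := e.map_eq_one_iff.2 ((hk τ).2 (.inr rfl))
  replace hk : ∀ x y, η x = η y → y = x ∨ y = τ * x := fun x y f =>
    ((hk (y * x⁻¹)).1 (e.map_eq_one_iff.1 (show η _ = 1 by rw [map_mul, map_inv, f]; simp))).imp
      (fun e => mul_inv_eq_one.1 (Subtype.ext e)) fun e => eq_mul_of_mul_inv_eq (Subtype.ext e)
  have uq : ∀ x y, IsConj A x → IsConj A y → η x = η y → y = x := fun x y a b f =>
    (hk x y f).resolve_right fun e => h.not_ut (by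
      obtain ⟨c, rfl⟩ := isConj_iff.1 a
      refine (u_t6.trans (isConj_iff.2 ⟨(c : G), ?_⟩)).trans
        (((Ce (φ τ0)).subtype.map_isConj b).symm.trans tau_t6.symm)
      rw [e, map_mul φ, ← conj_mul, mem_Ce'.1 c.2]; rfl)
  have ex : ∀ i, ∃ b, IsConj A b ∧ η b = adjSwap i := fun i => by
    obtain ⟨c, hc⟩ := isConj_iff.1 (Perm.isConj_swap (show (3 : Fin 6) ≠ 4 by decide)
      (Fin.castSucc_lt_succ (i := i)).ne)
    obtain ⟨c, rfl⟩ := hs c
    exact ⟨_, isConj_iff.2 ⟨c, rfl⟩, by rw [map_mul, map_mul, map_inv, adjSwap, ← hc, ← e6]; rfl⟩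
  choose b hb hb' using ex
  have b2 : ∀ i, b i * b i = 1 := fun i => by
    obtain ⟨c, e⟩ := isConj_iff.1 (hb i); rw [← e, conj_mul, a2]; simp
  have cb : ∀ i c, IsConj A (c * b i * c⁻¹) := fun i c => (hb i).trans (isConj_iff.2 ⟨c, rfl⟩)
  obtain ⟨σ, hσ⟩ := exists_hom_perm b b2 (fun i j f => by
    have := uq _ _ (cb i (b j)) (cb j (b i)) (by
      simp only [map_mul, map_inv, hb']; revert i j; decide)
    rw [inv_eq_of_mul_eq_one_right (b2 i), inv_eq_of_mul_eq_one_right (b2 j)] at this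
    calc _ = b i * b j * b i * (b j * b i * b j) := by simp only [pow_three, mul_assoc]
      _ = 1 := by rw [← this]; simp only [mul_assoc, ← mul_assoc (b j) (b j),
        ← mul_assoc (b i) (b i), b2, one_mul])
    fun i j f => mul_inv_eq_iff_eq_mul.1 (uq _ _ (hb j) (cb j (b i)) (by
      simp only [map_mul, map_inv, hb']; revert i j; decide))
  have ησ : ∀ x, η (σ x) = x := DFunLike.congr_fun (MonoidHom.eq_of_eqOn_dense
    (f := η.comp σ) (g := .id _) (adjSwap_closure 5) (by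
      rintro _ ⟨i, rfl⟩; exact (congrArg η (hσ i)).trans (hb' i)))
  have t2 : τ * τ = 1 := Subtype.ext Hyp.tau_sq
  have tc : ∀ x, x * τ = τ * x := fun x => Subtype.ext (mem_Ce.1 x.2)
  have c2 : ∀ a : Multiplicative (ZMod 2), a = 1 ∨ a = ε := by decide
  let κ : Multiplicative (ZMod 2) →* Ce (φ τ0) := MonoidHom.mk' (fun a => if a = 1 then 1 else τ)
    fun a b => by
      rcases c2 a with rfl | rfl <;> rcases c2 b with rfl | rfl <;>
        simp [show ε ≠ 1 by decide, show ε * ε = 1 by decide, t2]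
  have κ1 : κ ε = τ := rfl
  let ν : M6 →* Ce (φ τ0) := κ.noncommCoprod σ fun a x => by
    rcases c2 a with rfl | rfl
    exacts [κ.map_one ▸ .one_left _, κ1 ▸ (tc _).symm]
  have n1 : ∀ x, ν (1, x) = σ x := fun x => by simp [ν]
  have n2 : ∀ x, ν (ε, x) = τ * σ x := fun x => by simp [ν, κ1]
  have c3 : ∀ x y, x ^ 3 = 1 → y ^ 3 = 1 → η y = x → σ x = y := fun x y a b f =>
    (hk _ _ (f.trans (ησ x).symm)).resolve_right fun e => h.tau_ne (congrArg Subtype.val (by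
      have := congrArg σ a
      rwa [map_pow, map_one, e, (show Commute τ y from (tc y).symm).mul_pow, b, mul_one, pow_succ,
        sq, t2, one_mul] at this : τ = 1))
  refine ⟨(Ce (φ τ0)).subtype.comp ν, Subtype.val_injective.comp ((injective_iff_map_eq_one ν).2 ?_),
    le_antisymm (by rintro _ ⟨m, rfl⟩; exact (ν m).2) fun g hg => ?_,
    congrArg Subtype.val ((n2 1).trans (by simp : _ = τ)),
    congrArg Subtype.val ((n1 _).trans (c3 _ Z (by decide) y0 e0)),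
    congrArg Subtype.val ((n1 _).trans (c3 _ Z' (by decide) y1 e1)),
    congrArg Subtype.val ((n1 _).trans ((hσ 3).trans (uq _ _ (IsConj.refl _) (hb 3)
      (e6.trans (hb' 3).symm)))),
    congrArg Subtype.val ((n1 _).trans ((hσ 0).trans (uq _ _ (isConj_iff.2 ⟨S, rfl⟩) (hb 0)
      (es.trans (hb' 0).symm))))⟩
  · rintro ⟨a, x⟩ f
    rcases c2 a with rfl | rfl
    · rw [← ησ x, ← n1, f, map_one]; rfl
    · have := congrArg η f
      rw [n2, map_mul, t1, one_mul, ησ, map_one] at this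
      rw [this, n2, map_one, mul_one] at f
      exact absurd (congrArg Subtype.val f) h.tau_ne
  · rcases hk _ _ (ησ (η ⟨g, hg⟩)) with f | f
    exacts [⟨_, congrArg Subtype.val ((n1 _).trans f.symm)⟩,
      ⟨_, congrArg Subtype.val ((n2 _).trans f.symm)⟩]

end H19.S8
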