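import Cfsg.Agent.Base

/-! The theorem of Sylvester and Schur: for `n ≥ 2 k` the binomial coefficient `C(n, k)` has a prime
divisor greater than `k`. -/

set_option autoImplicit false

namespace H19.Syl

open Nat Finset

theorem dvd_choose {n k p : ℕ} (hp : p.Prime) (h1 : k < p) (h2 : n % p < k) : p ∣ n.choose k := by
  have := Fact.mk hp
  have e := Choose.choose_modEq_choose_mod_mul_choose_div_nat (n := n) (k := k) (p := p)
  rw [Nat.mod_eq_of_lt h1, choose_eq_zero_of_lt h2, zero_mul] at e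
  exact (Nat.modEq_zero_iff_dvd).1 e

theorem pow_mul_choose_le {a n : ℕ} (h : a ≤ n) (k : ℕ) :
    n ^ k * a.choose k ≤ a ^ k * n.choose k := by
  have : n ^ k * a.descFactorial k ≤ a ^ k * n.descFactorial k := by
    induction k with
    | zero => simp
    | succ k ih =>
      have e : n * (a - k) ≤ a * (n - k) := by
        rw [Nat.mul_sub, Nat.mul_sub, mul_comm n a]
        exact Nat.sub_le_sub_left (Nat.mul_le_mul_right k h) _
      calc n ^ (k + 1) * a.descFactorial (k + 1) = n * (a - k) * (n ^ k * a.descFactorial k) := by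
            rw [descFactorial_succ]; ring
        _ ≤ a * (n - k) * (a ^ k * n.descFactorial k) := Nat.mul_le_mul e ih
        _ = _ := by rw [descFactorial_succ]; ring
  rw [descFactorial_eq_factorial_mul_choose, descFactorial_eq_factorial_mul_choose,
    mul_left_comm, mul_left_comm (a ^ k)] at this
  exact Nat.le_of_mul_le_mul_left this k.factorial_pos

theorem pi_eq (x : ℕ) : primeCounting x = #{p ∈ range (x + 1) | p.Prime} :=
  Nat.count_eq_card_filter_range ..

theorem choose_eq {n k t : ℕ} (hk : k ≤ n) (h : ∀ p, p.Prime → p ∣ n.choose k → p ≤ t) :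
    n.choose k = ∏ p ∈ {p ∈ range (t + 1) | p.Prime}, p ^ (n.choose k).factorization p := by
  have h0 := (choose_pos hk).ne'
  conv_lhs => rw [← Nat.prod_factorization_pow_eq_self h0]
  refine Finsupp.prod_of_support_subset _ (fun p hp => ?_) _ (fun _ _ => pow_zero _)
  have := Nat.mem_primeFactors.1 hp
  exact mem_filter.2 ⟨mem_range.2 (Nat.lt_succ_of_le (h p this.1 this.2.1)), this.1⟩

theorem up1 {n k t : ℕ} (hn : 0 < n) (hk : k ≤ n) (h : ∀ p, p.Prime → p ∣ n.choose k → p ≤ t) :
    n.choose k ≤ n ^ primeCounting t := by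
  rw [choose_eq hk h, pi_eq, ← prod_const]
  exact prod_le_prod' fun p _ => pow_factorization_choose_le hn

theorem up2 {n k t : ℕ} (hn : 0 < n) (hk : k ≤ n) (h : ∀ p, p.Prime → p ∣ n.choose k → p ≤ t) :
    n.choose k ≤ n ^ primeCounting (sqrt n) * 4 ^ t := by
  rw [choose_eq hk h, ← prod_filter_mul_prod_filter_not _ (· ≤ sqrt n)]
  refine mul_le_mul' ?_ (le_trans ?_ (primorial_le_four_pow t))
  · refine (prod_le_prod' fun p _ => pow_factorization_choose_le hn).trans ?_
    rw [prod_const, pi_eq]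
    refine pow_right_mono₀ hn (card_le_card fun x hx => ?_)
    obtain ⟨h1, h2⟩ := mem_filter.1 hx
    exact mem_filter.2 ⟨mem_range.2 (Nat.lt_succ_of_le h2), (mem_filter.1 h1).2⟩
  · refine (prod_le_prod' fun p hp => (?_ : _ ≤ p)).trans ?_
    · obtain ⟨h1, h2⟩ := mem_filter.1 hp
      refine (pow_right_mono₀ (mem_filter.1 h1).2.one_lt.le ?_).trans (pow_one p).le
      exact Nat.factorization_choose_le_one (sqrt_lt'.mp <| not_le.1 h2)
    · exact prod_le_prod_of_subset_of_one_le' (filter_subset _ _)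
        fun p hp _ => (mem_filter.1 hp).2.one_lt.le

/-- a computable upper bound for the prime counting function -/
def Q (x : ℕ) : ℕ :=
  #{y ∈ range (x + 1) | 2 ≤ y ∧ (y = 2 ∨ y % 2 ≠ 0) ∧ (y = 3 ∨ y % 3 ≠ 0) ∧ (y = 5 ∨ y % 5 ≠ 0)}

theorem pi_le (x : ℕ) : primeCounting x ≤ Q x := by
  rw [pi_eq]
  have k : ∀ {y q : ℕ}, y.Prime → q.Prime → y = q ∨ y % q ≠ 0 := fun hy hq =>
    or_iff_not_imp_right.2 fun e =>
      ((prime_dvd_prime_iff_eq hq hy).1 (Nat.dvd_of_mod_eq_zero (not_not.1 e))).symm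
  refine card_le_card fun y hy => ?_
  obtain ⟨h1, h2⟩ := mem_filter.1 hy
  exact mem_filter.2 ⟨h1, h2.two_le, k h2 prime_two, k h2 prime_three, k h2 prime_five⟩

theorem three_pi {x : ℕ} (h : 38 ≤ x) : 3 * primeCounting x ≤ x := by
  rcases lt_or_ge x 158 with l | l
  · have : ∀ x < 158, 38 ≤ x → 3 * Q x ≤ x := by decide +kernel
    exact (Nat.mul_le_mul_left 3 (pi_le x)).trans (this x l h)
  · obtain ⟨y, rfl⟩ := Nat.exists_eq_add_of_le h
    have h1 := primeCounting_add_le (a := 30) (k := 38) (by norm_num) (by norm_num) y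
    have h2 : primeCounting 38 ≤ 12 := (pi_le 38).trans (by decide +kernel)
    rw [show totient 30 = 8 by decide +kernel] at h1
    omega

/-- no divisor between `2` and `d` -/
def noDiv (p : ℕ) : ℕ → Bool
  | 0 => true
  | d + 1 => (d == 0 || p % (d + 1) != 0) && noDiv p d

theorem noDiv_spec {p d : ℕ} (h : noDiv p d = true) {m : ℕ} (h2 : 2 ≤ m) (hm : m ≤ d) : ¬ m ∣ p := by
  induction d with
  | zero => omega
  | succ d ih =>
    simp only [noDiv, Bool.and_eq_true, Bool.or_eq_true, beq_iff_eq, bne_iff_ne] at h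
    rcases hm.eq_or_lt with rfl | l
    · exact fun e => h.1.elim (by omega) fun c => c (Nat.mod_eq_zero_of_dvd e)
    · exact ih h.2 (by omega)

/-- a primality test for numbers below `513 ^ 2` -/
def pr (p : ℕ) : Bool := 2 ≤ p && p < 513 ^ 2 && noDiv p (min (p - 1) 512)

theorem pr_spec {p : ℕ} (h : pr p = true) : p.Prime := by
  simp only [pr, Bool.and_eq_true, decide_eq_true_eq] at h
  refine prime_def_le_sqrt.2 ⟨h.1.1, fun m h2 hm => noDiv_spec h.2 h2 (le_min ?_ ?_)⟩
  · have := sqrt_lt_self h.1.1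
    omega
  · have := sqrt_lt'.2 h.1.2
    omega

/-- a chain of primes with small gaps reaching `2 ^ 18` -/
def chain (p : ℕ) : List ℕ → Bool
  | [] => 2 ^ 18 ≤ p
  | q :: l => pr p && (q - p ≤ 38 || (q - p) ^ 3 ≤ p ^ 2) && chain q l

theorem chain_spec {n k : ℕ} (hn : n < 2 ^ 18) (h1 : 38 ≤ k) (h2 : n ^ 2 ≤ k ^ 3) (l : List ℕ) :
    ∀ p, chain p l = true → p ≤ n → ∃ q, q.Prime ∧ q ≤ n ∧ n < q + k := by
  induction l with
  | nil => intro p h hp; simp only [chain, decide_eq_true_eq] at h; omega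
  | cons q l ih =>
    intro p h hp
    simp only [chain, Bool.and_eq_true, Bool.or_eq_true, decide_eq_true_eq] at h
    rcases le_or_gt q n with e | e
    · exact ih q h.2 e
    · refine ⟨p, pr_spec h.1.1, hp, ?_⟩
      have : q - p ≤ k := h.1.2.elim (·.trans h1) fun c =>
        (Nat.pow_le_pow_iff_left (by norm_num)).1 (c.trans ((Nat.pow_le_pow_left hp 2).trans h2))
      omega

theorem chain_ok : chain 73 [
   109, 139, 173, 211, 241, 277, 317, 359, 409, 463, 521, 577, 643, 709, 787, 863, 953, 1049,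
   1151, 1259, 1373, 1493, 1621, 1753, 1889, 2039, 2179, 2347, 2521, 2699, 2887, 3089, 3301,
   3517, 3739, 3967, 4217, 4463, 4733, 5011, 5303, 5591, 5903, 6229, 6563, 6911, 7253, 7621,
   7993, 8389, 8783, 9203, 9631, 10079, 10531, 11003, 11497, 11987, 12503, 13037, 13577, 14143,
   14723, 15319, 15923, 16553, 17191, 17851, 18523, 19219, 19927, 20641, 21391, 22159, 22943,
   23747, 24571, 25411, 26267, 27143, 28031, 28949, 29881, 30841, 31817, 32803, 33827, 34871,
   35933, 37021, 38119, 39251, 40387, 41549, 42743, 43963, 45197, 46457, 47743, 49057, 50387,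
   51749, 53129, 54541, 55967, 57427, 58913, 60427, 61961, 63521, 65111, 66721, 68351, 70019,
   71713, 73433, 75181, 76961, 78737, 80567, 82421, 84313, 86209, 88129, 90107, 92111, 94121,
   96181, 98269, 100393, 102551, 104729, 106949, 109201, 111467, 113783, 116131, 118493, 120899,
   123341, 125813, 128321, 130859, 133417, 136027, 138661, 141319, 144031, 146777, 149551,
   152363, 155209, 158077, 160997, 163927, 166919, 169943, 172999, 176089, 179213, 182389,
   185599, 188843, 192133, 195457, 198823, 202219, 205663, 209147, 212669, 216217, 219809,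
   223441, 227113, 230833, 234589, 238373, 242201, 246073, 249989, 253951, 257953, 261983,
   266059] = true := by
  decide +kernel

/-- the primes up to `211` -/
def sp : List ℕ := [
   2, 3, 5, 7, 11, 13, 17, 19, 23, 29, 31, 37, 41, 43, 47, 53, 59, 61, 67, 71, 73, 79, 83, 89,
   97, 101, 103, 107, 109, 113, 127, 131, 137, 139, 149, 151, 157, 163, 167, 173, 179, 181, 191,
   193, 197, 199, 211]

theorem sp_pr : sp.all pr = true := by decide +kernel

theorem small : ∀ k < 38, ∀ n < 211, 1 ≤ k → 2 * k ≤ n →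
    sp.any (fun p => k < p && n % p < k) = true := by
  decide +kernel

theorem aux1 {L : ℕ} (h : 18 ≤ L) : (22 * (L + 1) + 4) ^ 2 ≤ 2 ^ L := by
  induction L, h using Nat.le_induction with
  | base => norm_num
  | succ L h ih => rw [pow_succ 2]; nlinarith

theorem aux2 {L : ℕ} (h : 18 ≤ L) : (L + 1) ^ 6 ≤ 729 * 2 ^ L := by
  induction L, h using Nat.le_induction with
  | base => norm_num
  | succ L h ih =>
    have e : (19 * (L + 1 + 1)) ^ 6 ≤ (20 * (L + 1)) ^ 6 := Nat.pow_le_pow_left (by omega) 6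
    rw [mul_pow, mul_pow] at e
    rw [pow_succ 2]
    omega

theorem sylvester {n k : ℕ} (hk : 1 ≤ k) (h : 2 * k ≤ n) : ∃ p, p.Prime ∧ k < p ∧ p ∣ n.choose k := by
  by_contra c
  have H : ∀ p, p.Prime → p ∣ n.choose k → p ≤ k := fun p hp d =>
    not_lt.1 fun l => c ⟨p, hp, l, d⟩
  have n0 : 0 < n := by omega
  have u1 : n ^ k ≤ k ^ k * n ^ primeCounting k := by
    have := pow_mul_choose_le (show k ≤ n by omega) k
    rw [choose_self, mul_one] at this
    exact this.trans (Nat.mul_le_mul_left _ (up1 n0 (by omega) H))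
  have u2 : ∀ a, primeCounting k ≤ a → n ^ (k - a) ≤ k ^ k := fun a ha => by
    rcases le_total a k with l | l
    · refine Nat.le_of_mul_le_mul_right ?_ (pow_pos n0 a)
      rw [← pow_add, Nat.sub_add_cancel l]
      exact u1.trans (Nat.mul_le_mul_left _ (pow_right_mono₀ n0 ha))
    · rw [Nat.sub_eq_zero_of_le l, pow_zero]; exact Nat.one_le_pow _ _ hk
  rcases lt_or_ge k 38 with k1 | k1
  · have b : ∀ k < 38, 1 ≤ k → k ^ k < 211 ^ (k - Q k) := by decide +kernel
    have : n < 211 := lt_of_pow_lt_pow_left₀ _ (Nat.zero_le _) ((u2 _ (pi_le k)).trans_lt (b k k1 hk))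
    obtain ⟨p, p0, p2⟩ := List.any_eq_true.1 (small k k1 n this hk h)
    have p1 := pr_spec (List.all_eq_true.1 sp_pr p p0)
    simp only [Bool.and_eq_true, decide_eq_true_eq] at p2
    exact c ⟨p, p1, p2.1, dvd_choose p1 p2.1 p2.2⟩
  have n3 : n ^ 2 ≤ k ^ 3 := by
    have t := three_pi k1
    refine (Nat.pow_le_pow_iff_left (show k ≠ 0 by omega)).1 ?_
    rw [← pow_mul, ← pow_mul, mul_comm 3, pow_mul k]
    refine le_trans ?_ (Nat.pow_le_pow_left (u2 _ le_rfl) 3)
    rw [← pow_mul]
    exact pow_right_mono₀ n0 (by omega)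
  rcases lt_or_ge n (2 ^ 18) with n1 | n1
  · obtain ⟨p, p1, p2, p3⟩ := chain_spec n1 k1 n3 _ _ chain_ok (by omega)
    exact c ⟨p, p1, by omega, p1.dvd_choose (by omega) (by omega) p2⟩
  obtain ⟨L, l1, l2, l3⟩ : ∃ L, 18 ≤ L ∧ 2 ^ L ≤ n ∧ n < 2 ^ (L + 1) :=
    ⟨log 2 n, le_log_of_pow_le one_lt_two n1, pow_log_le_self 2 n0.ne', lt_pow_succ_log_self one_lt_two n⟩
  have s1 : 22 * (L + 1) + 4 ≤ sqrt n := le_sqrt'.2 ((aux1 l1).trans l2)
  have s2 := sqrt_le' n
  have s3 := three_pi (show 38 ≤ sqrt n by omega)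
  have U := fun t => up2 (t := t) n0 (show k ≤ n by omega)
  generalize primeCounting (sqrt n) = A at s3 U
  generalize sqrt n = s at s1 s2 s3
  have cb : 4 ^ k < k * (2 * k).choose k := four_pow_lt_mul_centralBinom k (by omega)
  have fin : ∀ e, (L + 1) * (A + 1) ≤ e → k * n ^ A ≤ 2 ^ e := fun e he =>
    calc k * n ^ A ≤ n ^ (A + 1) := by rw [_root_.pow_succ']; exact Nat.mul_le_mul_right _ (by omega)
      _ ≤ (2 ^ (L + 1)) ^ (A + 1) := Nat.pow_le_pow_left l3.le _
      _ ≤ _ := by rw [← pow_mul]; exact pow_right_mono₀ one_le_two he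
  have big : n ^ k < (2 * k) ^ k * (k * n ^ A) := by
    refine Nat.lt_of_mul_lt_mul_right (a := 4 ^ k) ?_
    calc n ^ k * 4 ^ k < n ^ k * (k * (2 * k).choose k) :=
          Nat.mul_lt_mul_of_pos_left cb (pow_pos n0 k)
      _ = k * (n ^ k * (2 * k).choose k) := by ring
      _ ≤ k * ((2 * k) ^ k * (n ^ A * 4 ^ k)) := Nat.mul_le_mul_left _
          ((pow_mul_choose_le h k).trans (Nat.mul_le_mul_left _ (U k H)))
      _ = _ := by ring
  rcases le_total n (16 * k) with r | r
  · have f := fin (k / 4) (by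
      have : 64 * ((L + 1) * (A + 1)) + 64 ≤ s ^ 2 := by nlinarith
      omega)
    rcases le_total (2 * n) (5 * k) with r' | r'
    · have u := U (n / 3) fun p hp d => by
        by_contra l
        have := H p hp d
        exact (hp.factorization_pos_of_dvd (choose_pos (by omega)).ne' d).ne'
          (factorization_choose_of_lt_three_mul (by omega) this (by omega) (by omega))
      have : 4 ^ k < 2 ^ (k / 4) * 4 ^ (n / 3) :=
        calc 4 ^ k < k * (n ^ A * 4 ^ (n / 3)) :=
              cb.trans_le (Nat.mul_le_mul_left _ ((choose_le_choose k h).trans u))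
          _ ≤ _ := by rw [← mul_assoc]; exact Nat.mul_le_mul_right _ f
      rw [show 4 = 2 ^ 2 by rfl, ← pow_mul, ← pow_mul, ← pow_add] at this
      have := (Nat.pow_lt_pow_iff_right one_lt_two).1 this
      omega
    · have e1 : (5 * k) ^ k < (2 * (2 * k)) ^ k * 2 ^ (k / 4) :=
        calc (5 * k) ^ k ≤ (2 * n) ^ k := Nat.pow_le_pow_left r' k
          _ < 2 ^ k * ((2 * k) ^ k * (k * n ^ A)) := by
              rw [mul_pow]; exact Nat.mul_lt_mul_of_pos_left big (pow_pos two_pos k)
          _ ≤ _ := by rw [mul_pow 2 (2 * k), mul_assoc]; gcongr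
      rw [← mul_assoc, mul_pow, mul_pow, mul_right_comm] at e1
      have e2 := Nat.lt_of_mul_lt_mul_right e1
      have e3 : (2 * 2) ^ k * 2 ^ (k / 4) ≤ 5 ^ k := by
        refine (Nat.pow_le_pow_iff_left (n := 4) (by norm_num)).1 ?_
        calc ((2 * 2) ^ k * 2 ^ (k / 4)) ^ 4 = 256 ^ k * 2 ^ (k / 4 * 4) := by
              rw [mul_pow, ← pow_mul, ← pow_mul, mul_comm k, pow_mul]; rfl
          _ ≤ 256 ^ k * 2 ^ k := by gcongr <;> omega
          _ ≤ 625 ^ k := by rw [← mul_pow]; gcongr; norm_num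
          _ = _ := by rw [← pow_mul, mul_comm k, pow_mul]; rfl
      omega
  · have g : (L + 1) * s ≤ 3 * k := by
      refine (Nat.pow_le_pow_iff_left (n := 6) (by norm_num)).1 ?_
      calc ((L + 1) * s) ^ 6 = (L + 1) ^ 6 * (s ^ 2) ^ 3 := by ring
        _ ≤ 729 * n * n ^ 3 :=
            Nat.mul_le_mul ((aux2 l1).trans (by omega)) (Nat.pow_le_pow_left s2 3)
        _ = 729 * (n ^ 2) ^ 2 := by ring
        _ ≤ 729 * (k ^ 3) ^ 2 := by gcongr
        _ = _ := by ring
    have f := fin (3 * k) (by nlinarith)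
    have : (16 * k) ^ k < (2 * k) ^ k * 2 ^ (3 * k) :=
      (Nat.pow_le_pow_left r k).trans_lt (big.trans_le (Nat.mul_le_mul_left _ f))
    rw [pow_mul, ← mul_pow] at this
    exact absurd this (not_lt.2 (Nat.pow_le_pow_left (by omega) k))

end H19.Syl
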