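import Cfsg.Agent.H28.TESpec

/-! # S1308, chapter TE: the step `G3`. -/

set_option autoImplicit false

open Cfsg Subgroup H14 H98 H1.Gold H31.S2 H14.GC H14.FE H14.NF H28.TE
open scoped commutatorElement

namespace H19.TeG3

universe u

theorem cj_eq {G : Type u} [Group G] {t : G} (h : t * t = 1) (w : G) :
    w * t * w⁻¹ = t * ⁅t, w⁆ := by
  have e : t⁻¹ = t := inv_eq_of_mul_eq_one_right h
  rw [commutatorElement_def, e]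
  calc w * t * w⁻¹ = (t * t) * (w * t * w⁻¹) := by rw [h, one_mul]
    _ = _ := by simp only [mul_assoc]

theorem jobG3 : JobG3.{u} := by
  intro _ kp g1 g2 G _ _ Q Q₁ E Q₂ T ln R ar w hw t0 ht0
  have kp := kp G Q Q₁ E Q₂ T ln R ar
  have g1 := g1 G Q Q₁ E Q₂ T ln R ar
  have g2 := g2 G Q Q₁ E Q₂ T ln R ar
  by_contra hx
  have hinv : ∀ t ∈ T, t⁻¹ = t := fun t ht => inv_eq_of_mul_eq_one_right (ln.elT t ht)
  have hab : ∀ s ∈ T, ∀ t ∈ T, s * t = t * s := fun s hs t ht => by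
    have := hinv _ (T.mul_mem hs ht)
    rw [mul_inv_rev, hinv s hs, hinv t ht] at this
    exact this.symm
  have hEP : E ≤ PP E T R := kp.lt.le
  obtain ⟨hxR, hxT⟩ := hw t0 ht0
  obtain ⟨hxE, hxx⟩ := g2 _ hxR hx hxT
  obtain ⟨s, hs, hs1, hs0⟩ : ∃ s ∈ T, s ≠ 1 ∧ s ≠ t0 := by
    obtain ⟨a, ha, b, hb, a1, b1, hne, -⟩ := ln.fT
    by_cases e : a = t0
    · exact ⟨b, hb, b1.1, fun e' => hne (e.trans e'.symm)⟩
    · exact ⟨a, ha, a1.1, e⟩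
  obtain ⟨t1, ht1, ht11, hb⟩ : ∃ t1 ∈ T, t1 ≠ 1 ∧ ⁅t1, w⁆ ∈ PP E T R := by
    by_cases h : ⁅s, w⁆ ∈ PP E T R
    · exact ⟨s, hs, hs1, h⟩
    refine ⟨t0 * s, T.mul_mem ht0 hs, fun e => hs0 ?_, ?_⟩
    · rw [← hinv t0 ht0]; exact eq_inv_of_mul_eq_one_right e
    · have e : ⁅t0 * s, w⁆ = ⁅s, ⁅t0, w⁆⁆ * (⁅t0, w⁆ * ⁅s, w⁆) := by
        rw [hab t0 ht0 s hs]
        have h1 : ⁅s * t0, w⁆ = s * ⁅t0, w⁆ * s⁻¹ * ⁅s, w⁆ := by
          simp only [commutatorElement_def]; group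
        rw [h1, commutatorElement_def s ⁅t0, w⁆]
        group
      rw [e]
      exact mul_mem (hxT s hs) (hxx _ (hw s hs).1 h (hw s hs).2)
  have hi := cj_eq (ln.elT t0 ht0) w
  have hj := cj_eq (ln.elT t1 ht1) w
  have hij : t0 * ⁅t0, w⁆ * (t1 * ⁅t1, w⁆) * (t0 * ⁅t0, w⁆)⁻¹ = t1 * ⁅t1, w⁆ := by
    rw [← hi, ← hj]
    calc w * t0 * w⁻¹ * (w * t1 * w⁻¹) * (w * t0 * w⁻¹)⁻¹ = w * (t0 * t1 * t0⁻¹) * w⁻¹ := by group
      _ = _ := by rw [hab t0 ht0 t1 ht1, mul_inv_cancel_right]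
  have hjj : t1 * ⁅t1, w⁆ * (t1 * ⁅t1, w⁆) = 1 := by
    rw [← hj]
    calc w * t1 * w⁻¹ * (w * t1 * w⁻¹) = w * (t1 * t1) * w⁻¹ := by group
      _ = 1 := by rw [ln.elT t1 ht1]; group
  generalize ⁅t0, w⁆ = x at *
  generalize ⁅t1, w⁆ = b at *
  have nE : ∀ y ∈ R, y ∉ PP E T R → ∃ t ∈ T, ⁅t, y⁆ ∉ E := fun y hy hy' => by
    by_contra hn
    push Not at hn
    exact hy' ((kp.mem y hy).2 hn)
  by_cases hbE : b ∈ E
  · apply (g1 x hxT (nE x hxR hx)).1 t1 ht1 ht11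
    have ha := hxT t1 ht1
    have h1 := cj_eq (ln.elT t1 ht1) x
    have h2 : ⁅t0, ⁅t1, x⁆⁆ ∈ E := (kp.mem _ ha.1).1 ha t0 ht0
    have h3 : x * b * x⁻¹ ∈ E := conj_mem_of_mem_normalizer hxE hbE
    generalize ⁅t1, x⁆ = a at *
    have h4 : t1 * b = t1 * (⁅t0, a⁆ * a * (x * b * x⁻¹)) := by
      calc t1 * b = t0 * x * (t1 * b) * (t0 * x)⁻¹ := hij.symm
        _ = t0 * (x * t1 * x⁻¹) * (x * b * x⁻¹ * t0⁻¹) := by group
        _ = t0 * (t1 * a) * (t0⁻¹ * (x * b * x⁻¹)) := by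
          rw [h1, ln.comm _ h3 _ (T.inv_mem ht0)]
        _ = t0 * t1 * (a * t0⁻¹ * (x * b * x⁻¹)) := by group
        _ = t1 * t0 * (a * t0⁻¹ * (x * b * x⁻¹)) := by rw [hab t0 ht0 t1 ht1]
        _ = _ := by rw [commutatorElement_def]; group
    have h5 : a = ⁅t0, a⁆⁻¹ * b * (x * b * x⁻¹)⁻¹ := by
      calc a = ⁅t0, a⁆⁻¹ * (⁅t0, a⁆ * a * (x * b * x⁻¹)) * (x * b * x⁻¹)⁻¹ := by group
        _ = _ := by rw [← mul_left_cancel h4]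
    rw [h5]
    exact mul_mem (mul_mem (inv_mem h2) hbE) (inv_mem h3)
  · have hp : x * x ∈ PP E T R := hxx x hxR hx hxT
    have hy : ∀ t ∈ T, ⁅t, x⁻¹⁆ ∈ PP E T R := fun t ht => by
      have h1 : ⁅t, (x * x)⁻¹⁆ ∈ E := (kp.mem _ (inv_mem hp).1).1 (inv_mem hp) t ht
      have h2 : ⁅t, x⁻¹⁆ = ⁅t, (x * x)⁻¹⁆ * (x * x)⁻¹ * ⁅t, x⁆ * (x * x) := by
        simp only [commutatorElement_def]; group
      rw [h2]
      exact mul_mem (mul_mem (mul_mem (hEP h1) (inv_mem hp)) (hxT t ht)) hp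
    have h0 := (g1 x⁻¹ hy (nE _ (R.inv_mem hxR) fun h => hx (inv_mem_iff.1 h))).2.2.2 t1 ht1 b hb
      hbE hjj
    have h1 := cj_eq (ln.elT t1 ht1) x⁻¹
    generalize ⁅t1, x⁻¹⁆ = c at *
    have h3 : x * (c * b⁻¹)⁻¹ * x⁻¹ ∈ E := conj_mem_of_mem_normalizer hxE (inv_mem h0)
    have h4 : x * (t1 * b) * x⁻¹ = x * (c * b⁻¹)⁻¹ * x⁻¹ * t1 := by
      calc x * (t1 * b) * x⁻¹ = x * (t1 * (c * b⁻¹)⁻¹) * c * x⁻¹ := by group
        _ = x * ((c * b⁻¹)⁻¹ * t1) * c * x⁻¹ := by rw [ln.comm _ (inv_mem h0) _ ht1]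
        _ = x * (c * b⁻¹)⁻¹ * (t1 * c) * x⁻¹ := by group
        _ = _ := by rw [← h1]; group
    generalize x * (c * b⁻¹)⁻¹ * x⁻¹ = e at *
    have h5 : t1 * b = t1 * e := by
      calc t1 * b = t0 * x * (t1 * b) * (t0 * x)⁻¹ := hij.symm
        _ = t0 * (x * (t1 * b) * x⁻¹) * t0⁻¹ := by group
        _ = t0 * e * (t1 * t0⁻¹) := by rw [h4]; group
        _ = e * t0 * (t0⁻¹ * t1) := by
          rw [ln.comm e h3 t0 ht0, hab t1 ht1 _ (T.inv_mem ht0)]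
        _ = e * t1 := by group
        _ = t1 * e := ln.comm e h3 t1 ht1
    exact hbE (mul_left_cancel h5 ▸ h3)

end H19.TeG3
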