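/- `p`-subgroups fixing two points, and groups with few classes of maximal subgroups -/
import Cfsg.Agent.H46.Coprime

set_option autoImplicit false
open Cfsg hiding pRank
open Subgroup H46 MulAction

namespace H19.TM

universe u
variable {G : Type u} [Group G] [Finite G] {Ω : Type*} [MulAction G Ω]

omit [Finite G] in
theorem stab_smul (g : G) (a : Ω) : stabilizer G (g • a) = cj g (stabilizer G a) :=
  stabilizer_smul_eq_stabilizer_map_conj g a

omit [Finite G] in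
/-- if all orbits of `P` other than `{a}` have length divisible by `d` then `d ∣ |Ω| - 1` -/
theorem dvd_card_sub_one [Finite Ω] {P : Subgroup G} {a : Ω} (ha : P ≤ stabilizer G a) {d : ℕ}
    (h : ∀ b, b ≠ a → d ∣ (stabilizer G b).relIndex P) : d ∣ Nat.card Ω - 1 := by
  classical
  have := Fintype.ofFinite Ω
  have := Fintype.ofFinite (orbitRel.Quotient P Ω)
  rw [Nat.card_eq_fintype_card, ← Finset.card_univ, ← Finset.card_erase_of_mem (Finset.mem_univ a),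
    Finset.card_eq_sum_card_fiberwise (f := Quotient.mk (orbitRel P Ω)) (t := Finset.univ)
      fun _ _ => Finset.mem_univ _]
  refine Finset.dvd_sum fun o _ => ?_
  rcases Finset.eq_empty_or_nonempty
    ((Finset.univ.erase a).filter fun x => Quotient.mk (orbitRel P Ω) x = o) with e | ⟨b, hb⟩
  · rw [e]; exact dvd_zero d
  simp only [Finset.mem_filter, Finset.mem_erase, Finset.mem_univ, and_true] at hb
  obtain ⟨hb, rfl⟩ := hb
  have e : (stabilizer G b).relIndex P = (orbit P b).ncard := by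
    rw [← index_stabilizer]; rfl
  have h1 := h b hb
  rw [e, Set.ncard_eq_toFinset_card'] at h1
  refine h1.trans (dvd_of_eq (congrArg Finset.card (Finset.ext fun x => Iff.symm ?_)))
  simp only [Finset.mem_filter, Finset.mem_erase, Finset.mem_univ, and_true, Set.mem_toFinset]
  refine ⟨fun hx => Quotient.exact hx.2, fun hx => ⟨?_, Quotient.sound hx⟩⟩
  rintro rfl
  obtain ⟨g, hg⟩ := hx
  apply hb
  have h2 : (g : G)⁻¹ • x = x := ha (P.inv_mem g.2)
  rw [← h2, ← hg]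
  exact (inv_smul_smul (g : G) b).symm

/-- the normalizer of a largest `p`-subgroup fixing two points fixes no point -/
theorem nrm_not_le [IsPretransitive G Ω] [Finite Ω] {p : ℕ} (hp : p.Prime) (hΩ : ¬ p ∣ Nat.card Ω)
    {X : Subgroup G} (hX : IsPi {p} X) {a b : Ω} (hab : a ≠ b) (ha : X ≤ stabilizer G a)
    (hb : X ≤ stabilizer G b)
    (hm : ∀ (Y : Subgroup G) (a b : Ω), IsPi {p} Y → a ≠ b → Y ≤ stabilizer G a →
      Y ≤ stabilizer G b → Nat.card Y ≤ Nat.card X) (c : Ω) : ¬ Nrm X ≤ stabilizer G c := by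
  intro hc
  wlog hac : a ≠ c generalizing a b
  · exact this hab.symm hb ha fun e => hab ((not_not.1 hac).trans e.symm)
  obtain ⟨S, hS, hXS⟩ := exists_sylow_ge hp (hX.isPGroup hp) ha
  have e : X = S := nil_eq_of_inf_nrm_le hS.isPi.nil hXS (eq_of_le_of_card_ge (le_inf hXS le_nrm_self)
    (hm _ a c hS.isPi.inf_left hac (inf_le_left.trans hS.1) (inf_le_right.trans hc))).ge
  subst e
  have hG : IsSylowOf p X ⊤ := hS.trans_idx le_top (by
    rwa [relIndex_top_right, index_stabilizer_of_transitive, pnat_compl_singleton hp])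
  obtain ⟨g, rfl⟩ := exists_smul_eq G c a
  obtain ⟨h, hh, e⟩ := sylow_trans hp ((hG.cj_of_mem (mem_top g)).of_le
    (by rw [stab_smul]; exact cj_mono g (le_nrm_self.trans hc)) le_top) hS
  have h1 : (h * g) • c = c := hc (mem_nrm_iff_cj.2 (by rw [cj_mul, ← e]))
  rw [mul_smul, mem_stabilizer_iff.1 hh] at h1
  exact hac h1

/-- the congruence for one prime -/
theorem pow_dvd_card_sub_one [IsPretransitive G Ω] [Finite Ω] [Nontrivial Ω] {p : ℕ} (hp : p.Prime)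
    (hΩ : ¬ p ∣ Nat.card Ω) {d : ℕ} (hd : PNat {p} d)
    (h : ∀ X : Subgroup G, IsPi {p} X → (∀ c : Ω, ¬ Nrm X ≤ stabilizer G c) →
      d * Nat.card X ∣ Nat.card G) : d ∣ Nat.card Ω - 1 := by
  obtain ⟨a, b, hab⟩ := exists_pair_ne Ω
  obtain ⟨X, ⟨hX, a₁, b₁, h1, h2, h3⟩, hm⟩ := Set.exists_max_image
    {Y : Subgroup G | IsPi {p} Y ∧ ∃ a b : Ω, a ≠ b ∧ Y ≤ stabilizer G a ∧ Y ≤ stabilizer G b}
    (fun Y => Nat.card Y) (Set.toFinite _) ⟨⊥, IsPi.bot, a, b, hab, bot_le, bot_le⟩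
  have h4 := h X hX (nrm_not_le hp hΩ hX h1 h2 h3 fun Y a b i1 i2 i3 i4 => hm Y ⟨i1, a, b, i2, i3, i4⟩)
  obtain ⟨P, hP⟩ := exists_sylow hp (stabilizer G a)
  have hG : IsSylowOf p P ⊤ := hP.trans_idx le_top (by
    rwa [relIndex_top_right, index_stabilizer_of_transitive, pnat_compl_singleton hp])
  refine dvd_card_sub_one hP.1 fun c hc => ?_
  have h5 := hG.dvd_card (hd.mul hX) (by rwa [card_top])
  have h6 := hm (stabilizer G c ⊓ P) ⟨hP.isPi.inf_right, c, a, hc, inf_le_left, inf_le_right.trans hP.1⟩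
  obtain ⟨i, hi⟩ := hX.exists_pow hp
  obtain ⟨j, hj⟩ := (hP.isPi.inf_right (H := stabilizer G c)).exists_pow hp
  have h7 : Nat.card ↥(stabilizer G c ⊓ P) ∣ Nat.card X := by
    rw [hi, hj] at h6 ⊢
    exact pow_dvd_pow p ((Nat.pow_le_pow_iff_right hp.one_lt).1 h6)
  rw [← card_inf_mul_relIndex (stabilizer G c) P, mul_comm] at h5
  exact Nat.dvd_of_mul_dvd_mul_left Nat.card_pos ((Nat.mul_dvd_mul_right h7 d).trans h5)

omit [Finite G] in
theorem le_cj_iff_stab {M K : Subgroup G} :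
    (∃ g, K ≤ cj g M) ↔ ∃ c : G ⧸ M, K ≤ stabilizer G c := by
  have e : ∀ g : G, stabilizer G (g : G ⧸ M) = cj g M := fun g => by
    rw [show (g : G ⧸ M) = g • ((1 : G) : G ⧸ M) by simp, stab_smul, stabilizer_quotient]
  refine ⟨fun ⟨g, h⟩ => ⟨g, e g ▸ h⟩, fun ⟨c, h⟩ => ?_⟩
  obtain ⟨g, rfl⟩ := QuotientGroup.mk_surjective c
  exact ⟨g, e g ▸ h⟩

/-- the congruence for the index of a subgroup -/
theorem pow_dvd_index_sub_one {M : Subgroup G} (hM : M ≠ ⊤) {p : ℕ} (hp : p.Prime)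
    (hΩ : ¬ p ∣ M.index) {d : ℕ} (hd : PNat {p} d)
    (h : ∀ X : Subgroup G, IsPi {p} X → (∀ g, ¬ Nrm X ≤ cj g M) → d * Nat.card X ∣ Nat.card G) :
    d ∣ M.index - 1 := by
  have : Nontrivial (G ⧸ M) := Finite.one_lt_card_iff_nontrivial.1 (one_lt_index_of_ne_top hM)
  exact pow_dvd_card_sub_one (Ω := G ⧸ M) hp hΩ hd fun X hX hc =>
    h X hX fun g hg => let ⟨c, h⟩ := le_cj_iff_stab.1 ⟨g, hg⟩; hc c h

omit [Finite G] in
theorem not_dvd_index_of_le {p : ℕ} (hp : p.Prime) {P M : Subgroup G} (hP : IsSylowOf p P ⊤) {g : G}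
    (h : P ≤ cj g M) : ¬ p ∣ M.index := fun hd => hP.not_dvd hp (by
  rw [relIndex_top_right]; exact (index_cj g M ▸ hd).trans (index_dvd_of_le h))

theorem index_dvd {M N : Subgroup G} (hM : M ≠ ⊤)
    (hall : ∀ K : Subgroup G, K ≠ ⊤ → ∃ g, K ≤ cj g M ∨ K ≤ cj g N)
    (hG : ∀ p : ℕ, p.Prime → ¬ IsPi {p} (⊤ : Subgroup G))
    (hn : ∀ (p : ℕ) (X : Subgroup G), p.Prime → IsPi {p} X → Nrm X = ⊤ → X ≤ N) :
    N.index ∣ M.index - 1 := by
  refine (Nat.dvd_iff_prime_pow_dvd_dvd _ _).2 fun p k hp hk => ?_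
  rcases k with _ | k
  · simp
  obtain ⟨P, hP⟩ := exists_sylow hp (⊤ : Subgroup G)
  obtain ⟨g, hg⟩ := hall P fun e => hG p hp (e ▸ hP.isPi)
  have hM' := not_dvd_index_of_le hp hP (hg.resolve_right fun h =>
    not_dvd_index_of_le hp hP h ((dvd_pow_self p k.succ_ne_zero).trans hk))
  refine pow_dvd_index_sub_one hM hp hM' (pnat_singleton_pow hp _) fun X hX h => ?_
  rw [← N.index_mul_card]
  refine Nat.mul_dvd_mul hk ?_
  by_cases e : Nrm X = ⊤
  · exact card_dvd_of_le (hn p X hp hX e)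
  obtain ⟨g, hg⟩ := hall _ e
  rw [← card_cj g N]
  exact card_dvd_of_le (le_nrm_self.trans (hg.resolve_left (h g)))

/-- a normal `p`-subgroup outside `N` has a Sylow subgroup as a supplement -/
theorem sup_sylow {M N : Subgroup G} (hM : M ≠ ⊤)
    (hall : ∀ K : Subgroup G, K ≠ ⊤ → ∃ g, K ≤ cj g M ∨ K ≤ cj g N)
    {X : Subgroup G} (hn : Nrm X = ⊤) (hX : ¬ X ≤ N) :
    ∃ (q : ℕ) (Q : Subgroup G), q.Prime ∧ IsPi {q} Q ∧ X ⊔ Q = ⊤ := by
  obtain ⟨q, hq, hd⟩ := Nat.exists_prime_and_dvd (mt index_eq_one.1 hM)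
  obtain ⟨Q, hQ⟩ := exists_sylow hq (⊤ : Subgroup G)
  refine ⟨q, Q, hq, hQ.isPi, by_contra fun h => ?_⟩
  obtain ⟨g, hg | hg⟩ := hall _ h
  · exact not_dvd_index_of_le hq hQ (le_sup_right.trans hg) hd
  · refine hX ?_
    rw [← cj_of_mem_nrm (hn ▸ mem_top g⁻¹ : g⁻¹ ∈ Nrm X)]
    exact le_cj_iff.1 (le_sup_left.trans hg)

theorem two_classes {M N : Subgroup G} (hM : M ≠ ⊤) (hN : N ≠ ⊤)
    (hall : ∀ K : Subgroup G, K ≠ ⊤ → ∃ g, K ≤ cj g M ∨ K ≤ cj g N)
    (hG : ∀ p : ℕ, p.Prime → ¬ IsPi {p} (⊤ : Subgroup G)) :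
    ∃ (p q : ℕ) (X Q : Subgroup G), p.Prime ∧ q.Prime ∧ IsPi {p} X ∧ IsPi {q} Q ∧ Nrm X = ⊤ ∧
      X ⊔ Q = ⊤ := by
  have hall' : ∀ K : Subgroup G, K ≠ ⊤ → ∃ g, K ≤ cj g N ∨ K ≤ cj g M := fun K hK =>
    (hall K hK).imp fun _ => Or.symm
  by_contra hc
  have h1 := index_dvd hM hall hG fun p X hp hX hn => by_contra fun h =>
    let ⟨q, Q, h1, h2, h3⟩ := sup_sylow hM hall hn h; hc ⟨p, q, X, Q, hp, h1, hX, h2, hn, h3⟩
  have h2 := index_dvd hN hall' hG fun p X hp hX hn => by_contra fun h =>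
    let ⟨q, Q, h1, h2, h3⟩ := sup_sylow hN hall' hn h; hc ⟨p, q, X, Q, hp, h1, hX, h2, hn, h3⟩
  have h3 := one_lt_index_of_ne_top hM
  have h4 := one_lt_index_of_ne_top hN
  have := Nat.le_of_dvd (by omega) h1
  have := Nat.le_of_dvd (by omega) h2
  omega

end H19.TM
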