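import Cfsg.Agent.H67.UAK0

/-! STD-UM (row S3128), job FG: generation of `Qk k` by involutions. -/

set_option autoImplicit false
set_option linter.unusedSectionVars false

namespace H19.UMFG

open H64.SG (Cz Cs Ns mem_Cs mem_Cz)
open Matrix Subgroup H67 H67.UA

variable {n : ℕ} {K : Type} [Field K] [StarRing K] [CharP K 2] [Finite K]

theorem wk_ind {k : ℕ} (P : Vn n K → Prop) (h0 : P 0) (ha : ∀ x y, P x → P y → P (x + y))
    (h : ∀ i : Fin (n + 1), i.val < k → ∀ a : K, P (a • ev i)) {x : Vn n K} (hx : Wk k x) : P x := by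
  rw [show x = ∑ i, x i • ev i by ext j; simp [ev_apply, Finset.sum_apply]]
  refine Finset.sum_induction _ P ha h0 fun i _ => ?_
  by_cases c : i.val < k
  · exact h i c _
  · rwa [hx i (by omega), zero_smul]

theorem add_add (v w : Vn n K) : v + w + w = v := by rw [add_assoc, v_add_self, add_zero]

theorem sq_EE {u x : Vn n K} (h : Pp u x) : EE u x 0 * EE u x 0 = 1 := by
  rw [EE_mul h.ok h.ok, v_add_self, h.r]; simp

/-- the span of the `e_j`, `l < j` -/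
def Up (l : ℕ) (u : Vn n K) : Prop := ∀ j : Fin (n + 1), j.val ≤ l → u j = 0

theorem Up.add {l : ℕ} {u v : Vn n K} (h : Up l u) (h' : Up l v) : Up l (u + v) := fun i hi => by
  simp [h i hi, h' i hi]
theorem Up.smul {l : ℕ} {u : Vn n K} (h : Up l u) (a : K) : Up l (a • u) := fun i hi => by
  simp [h i hi]
theorem up_ev {l : ℕ} (hn : n = 2 * l) {i : Fin (n + 1)} (h : i.val < l) :
    Up l (ev i.rev : Vn n K) := fun j hj => by
  rw [ev_apply, if_neg]; rintro rfl; rw [Fin.val_rev] at hj; omega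
theorem Up.iso {l : ℕ} (hn : n = 2 * l) {u : Vn n K} (h : Up l u) : Iso u :=
  Finset.sum_eq_zero fun i _ => by
    by_cases c : i.val ≤ l
    · rw [h i c, zero_mul]
    · rw [h i.rev (by rw [Fin.val_rev]; omega), star_zero, mul_zero]

variable [FV n K]

theorem mem_M_of_fix {k : ℕ} (hk : 2 * k ≤ n + 1) {g : XU n K}
    (h : ∀ v, Wk (n + 1 - k) v → ac g v = v) : g ∈ GA.Mk (XU n K) k := by
  refine (FV.mem_M k hk g).2 fun v => ?_
  have := (FV.wk_perp (n + 1 - k) (by omega) (ac g v + v)).2 fun w hw => by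
    rw [hf_add_left, ← hf_ac g v, h w hw, CharTwo.add_self_eq_zero]
  rwa [show n + 1 - (n + 1 - k) = k by omega] at this

theorem conj_M {k : ℕ} (hk : 2 * k ≤ n + 1) {s g : XU n K} (hs : ∀ v, Wk k v → Wk k (ac s v))
    (hg : g ∈ GA.Mk (XU n K) k) : s * g * s⁻¹ ∈ GA.Mk (XU n K) k := by
  refine (FV.mem_M k hk _).2 fun v => ?_
  have := hs _ ((FV.mem_M k hk g).1 hg (ac s⁻¹ v))
  rwa [ac_add, ac_ac_inv, ← ac_mul, ← ac_mul] at this

theorem conj_Q {k : ℕ} (hk : 2 * k ≤ n + 1) {s g : XU n K} (h2 : s⁻¹ = s)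
    (hs : ∀ v, Wk k v → Wk k (ac s v)) (hg : g ∈ GA.Qk (XU n K) k) :
    s * g * s⁻¹ ∈ GA.Qk (XU n K) k := by
  obtain ⟨a, b⟩ := (FV.mem_Qk k hk g).1 hg
  refine (FV.mem_Qk k hk _).2 ⟨fun v hv => ?_, fun v hv => ?_⟩
  · rw [ac_mul, ac_mul, a _ (h2.symm ▸ hs v hv), ac_ac_inv]
  · have := hs _ (b (ac s⁻¹ v) ((FV.wk_perp k (by omega) _).2 fun w hw => by
      rw [hf_ac_left, inv_inv]; exact (FV.wk_perp k (by omega) _).1 hv _ (hs w hw)))
    rwa [ac_add, ac_ac_inv, ← ac_mul, ← ac_mul] at this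

theorem xk_ev {k : ℕ} (hk : 2 * k ≤ n + 1) {r t : Fin (n + 1)} (h : r.val + t.val + 1 = k) :
    ac (GA.xk (XU n K) k) (ev r.rev) = ev r.rev + ev t := by
  ext i
  rw [ac_ev, UA.mt, FV.xk_val k hk, SA.xk_apply, Pi.add_apply, ev_apply, ev_apply]
  congr 1
  refine if_congr ?_ rfl rfl
  simp only [Fin.lt_def, Fin.ext_iff, Fin.val_rev]
  omega

section Odd

variable {l : ℕ} (hn : n = 2 * l) {μ : Fin (n + 1)} (hμ : μ.val = l)
include hn hμ

theorem wμ : Wk (n + 1 - l) (ev μ : Vn n K) := wk_ev (by omega)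

theorem hfμ (v : Vn n K) : hf (ev μ) v = star (v μ) := by
  rw [hf_ev_left, show μ.rev = μ from Fin.ext (by rw [Fin.val_rev]; omega)]

theorem mem_M_of_mu {g : XU n K} (hg : g ∈ GA.Qk (XU n K) l) (h : ac g (ev μ) = ev μ) :
    g ∈ GA.Mk (XU n K) l := mem_M_of_fix (by omega) fun v hv => by
  refine wk_ind (fun v => ac g v = v) (ac_zero g) (fun x y a b => by rw [ac_add, a, b])
    (fun i hi a => ?_) hv
  rw [ac_smul]
  by_cases c : i = μ
  · rw [c, h]
  · rw [Qk_fix (by omega) hg (wk_ev (by have := mt Fin.ext c; omega))]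

omit hn hμ in
/-- `w` is realised in `H`. -/
def DD (l : ℕ) (μ : Fin (n + 1)) (H : Subgroup (XU n K)) (w : Vn n K) : Prop :=
  ∃ g ∈ GA.Qk (XU n K) l, g ∈ H ∧ ac g (ev μ) = ev μ + w

variable {H : Subgroup (XU n K)}

omit hn hμ in
theorem DD.zero : DD l μ H 0 := ⟨1, one_mem _, one_mem _, by simp⟩

theorem Q_wk {g : XU n K} (hg : g ∈ GA.Qk (XU n K) l) : Wk l (ac g (ev μ) + ev μ) :=
  ((FV.mem_Qk l (by omega) g).1 hg).2 _ (wμ hn hμ)

theorem DD.add {v w : Vn n K} (a : DD l μ H v) (b : DD l μ H w) : DD l μ H (v + w) := by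
  obtain ⟨g, g1, g2, g3⟩ := a
  obtain ⟨h, h1, h2, h3⟩ := b
  have := Q_wk hn hμ h1
  rw [h3, add_comm (ev μ), add_add] at this
  exact ⟨g * h, mul_mem g1 h1, mul_mem g2 h2, by
    rw [ac_mul, h3, ac_add, g3, Qk_fix (by omega) g1 this, add_assoc]⟩

theorem Q_le (hM : GA.Mk (XU n K) l ≤ H) (h : ∀ i : Fin (n + 1), i.val < l → ∀ a : K,
    DD l μ H (a • ev i)) : GA.Qk (XU n K) l ≤ H := fun g hg => by
  obtain ⟨g', g1, g2, g3⟩ := wk_ind _ DD.zero (fun _ _ => DD.add hn hμ) h (Q_wk hn hμ hg)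
  rw [add_comm (ev μ), add_add] at g3
  have := hM (mem_M_of_mu hn hμ (mul_mem (inv_mem g1) hg) (by rw [ac_mul, ← g3, ac_inv_ac]))
  exact (H.mul_mem_cancel_left (inv_mem g2)).1 this

theorem s_mu {a u : Vn n K} (ha : Wk l a) (hu : Up l u) (p : Pp a u) :
    ac (EE a u 0) (ev μ) = ev μ :=
  ac_EE_fix p.ok (by rw [hfμ hn hμ, ha μ hμ.ge, star_zero]) (by rw [hfμ hn hμ, hu μ hμ.le, star_zero])

theorem DD_of [FQ K] {a u : Vn n K} (ha : Wk l a) (hu : Up l u) (u0 : u ≠ 0) (p : Pp a u)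
    (h : ∀ g ∈ GA.Qk (XU n K) l, g * EE a u 0 * g⁻¹ ∈ H) : DD l μ H a := by
  obtain ⟨j, hj⟩ := Function.ne_iff.1 u0
  obtain ⟨η, hη⟩ := FQ.eta (K := K)
  have hk : 2 * l ≤ n + 1 := by omega
  obtain ⟨w, w1, w2⟩ : ∃ w, Wk l w ∧ hf w u = 1 := ⟨(star (u j))⁻¹ • ev j.rev,
    (wk_ev (by have := mt (hu j) hj; rw [Fin.val_rev]; omega)).smul _, by
      rw [hf_smul_left, hf_ev_left, Fin.rev_rev, inv_mul_cancel₀ (by simpa using hj)]⟩
  have e1 : hf (ev μ : Vn n K) (ev μ) = 1 := by simp [hfμ hn hμ, ev_apply]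
  have ok : ∀ v, Wk l v → Ok v (ev μ) η := fun v hv =>
    ⟨(hv.pp hv hk).l, (wμ hn hμ).perp hv (by omega), hη.trans e1.symm⟩
  have q : ∀ v, Wk l v → EE v (ev μ) η ∈ GA.Qk (XU n K) l := fun v hv =>
    FV.EE_Q l hk _ _ _ (ok v hv) hv (wμ hn hμ)
  have e2 : EE a u 0 * EE w (ev μ) η * (EE a u 0)⁻¹ = EE (w + a) (ev μ) η := by
    rw [EE_conj (ok w w1), s_mu hn hμ ha hu p, ac_EE_perp p.ok (w1.pp ha hk).p, w2, one_smul]
  refine ⟨EE (w + a) (ev μ) η * (EE w (ev μ) η)⁻¹, mul_mem (q _ (w1.add ha)) (inv_mem (q w w1)),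
    ?_, ?_⟩
  · have := mul_mem (h 1 (one_mem _)) (inv_mem (h _ (q w w1)))
    rw [← e2]
    convert this using 1
    group
  · rw [ac_mul, EE_inv (ok w w1), ac_EE_perp (ok w w1).star (ok w w1).perp, e1, one_smul, ac_add,
      Qk_fix hk (q _ (w1.add ha)) w1, ac_EE_perp (ok _ (w1.add ha)) (ok _ (w1.add ha)).perp, e1,
      one_smul, add_comm w, ← add_assoc, add_add]

end Odd

variable [FQ K] [GA.FB (XU n K)] [hp : Par n K]

theorem ig3 (k : ℕ) (hr : GA.Rg (XU n K) k) :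
    GA.Qk (XU n K) k ≤ GA.Iv (Cz (GA.xk (XU n K) k)) := by
  obtain ⟨k1, hk⟩ := rg_iff.1 hr
  have h5 := hp.five
  have xM := GA.FB.xM k hr
  have QC : GA.Qk (XU n K) k ≤ Cz (GA.xk (XU n K) k) := fun g hg =>
    mem_Cz.2 (mem_Cs.1 (GA.FB.QM k hr hg) _ xM)
  have MH : GA.Mk (XU n K) k ≤ GA.Iv (Cz (GA.xk (XU n K) k)) := fun g hg =>
    GA.mem_Iv (QC (GA.FB.MQ k hr hg)) (GA.FB.sqM k hr g hg)
  by_cases hn : n = 2 * k
  · obtain ⟨μ, hμ⟩ : ∃ μ : Fin (n + 1), μ.val = k := ⟨⟨k, by omega⟩, rfl⟩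
    have key : ∀ u v, Up k u → Wk k v → ac (GA.xk (XU n K) k) u = u + v → hf v u = 0 →
        DD k μ (GA.Iv (Cz (GA.xk (XU n K) k))) v := fun u v hu hv e h => by
      by_cases u0 : u = 0
      · rw [u0, ac_zero, zero_add] at e
        exact e ▸ DD.zero
      have p : Pp v u := ⟨(hv.pp hv hk).l, hu.iso hn, h⟩
      have c : EE v u 0 ∈ Cz (GA.xk (XU n K) k) := by
        refine mem_Cz.2 (mul_inv_eq_iff_eq_mul.1 ?_)
        rw [EE_conj p.ok, Qk_fix hk (GA.FB.MQ k hr xM) hv, e]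
        simpa [tr_eq_zero.2 (star_one K)] using EE_shift 1 v u 0
      refine DD_of hn hμ hv hu u0 p fun g hg => GA.mem_Iv
        (mul_mem (mul_mem (QC hg) c) (inv_mem (QC hg))) ?_
      rw [conj_mul, sq_EE p, mul_one, mul_inv_cancel]
    have k2 : ∀ i t : Fin (n + 1), t.val + i.val + 1 = k → i ≠ t → ∀ a : K,
        DD k μ (GA.Iv (Cz (GA.xk (XU n K) k))) (a • ev i) := fun i t e c a =>
      key (a • ev t.rev) _ ((up_ev hn (by omega)).smul a) ((wk_ev (by omega)).smul a)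
        (by rw [ac_smul, xk_ev hk e, smul_add])
        (by rw [hf_smul_left, hf_smul_right, hf_ev, if_neg (by simpa using c.symm)]; simp)
    refine Q_le hn hμ MH fun i hi a => ?_
    by_cases c : 2 * i.val + 1 = k
    swap
    · exact k2 i ⟨k - 1 - i, by omega⟩ (by simp only; omega) (fun e => c (by
        have := congrArg Fin.val e; simp only at this; omega)) a
    obtain ⟨z, hz⟩ : ∃ z : Fin (n + 1), z.val + 1 = k := ⟨⟨k - 1, by omega⟩, by simp only; omega⟩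
    obtain ⟨η, hη⟩ := FQ.trs (nm a) (star_nm a)
    have n1 : (0 : Fin (n + 1)) ≠ z := fun e => by rw [← e, Fin.val_zero] at hz; omega
    have n2 : i ≠ 0 := fun e => by rw [e, Fin.val_zero] at c; omega
    have n3 : i ≠ z := fun e => by rw [e] at c; omega
    have a1 := key (a • ev i.rev + (1 : K) • ev (0 : Fin (n + 1)).rev + η • ev z.rev)
      (a • ev i + (1 : K) • ev z + η • ev 0)
      ((((up_ev hn hi).smul a).add ((up_ev hn (i := 0) k1).smul 1)).add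
        ((up_ev hn (by omega)).smul η))
      ((((wk_ev hi).smul a).add ((wk_ev (by omega)).smul 1)).add ((wk_ev (i := 0) k1).smul η))
      (by
        rw [ac_add, ac_add, ac_smul, ac_smul, ac_smul, xk_ev hk (t := i) (by omega),
          xk_ev hk (t := z) (by simpa using hz), xk_ev hk (t := 0) (by simpa using hz)]
        module)
      (by
        simp only [hf_add_left, hf_add_right, hf_smul_left, hf_smul_right, hf_ev, Fin.rev_inj, n1, n2,
          n3, n1.symm, n2.symm, n3.symm, if_true, if_false, star_one]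
        linear_combination hη + a * star a * two0 K)
    have := (a1.add hn hμ (k2 0 z (by simpa using hz) n1 η)).add hn hμ
      (k2 z 0 (by simpa using hz) n1.symm 1)
    rwa [add_add, add_add] at this
  refine FV.gen_Q k hk _ fun u x c ok hu hx => ?_
  have iu := (hu.pp hu hk).l
  have a0 : ∀ y, Wk (n + 1 - k) y → Iso y →
      ∃ c, Ok u y c ∧ EE u y c ∈ GA.Iv (Cz (GA.xk (XU n K) k)) := fun y hy iy => by
    have p : Pp u y := ⟨iu, iy, hu.perp hy (by omega)⟩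
    exact ⟨0, p.ok, GA.mem_Iv (QC (FV.EE_Q k hk _ _ _ p.ok hu hy)) (sq_EE p)⟩
  have ad : ∀ y z, (∃ c, Ok u y c ∧ EE u y c ∈ GA.Iv (Cz (GA.xk (XU n K) k))) →
      (∃ c, Ok u z c ∧ EE u z c ∈ GA.Iv (Cz (GA.xk (XU n K) k))) →
      ∃ c, Ok u (y + z) c ∧ EE u (y + z) c ∈ GA.Iv (Cz (GA.xk (XU n K) k)) :=
    fun y z ⟨c, c1, c2⟩ ⟨d, d1, d2⟩ => ⟨_, c1.add d1, EE_mul c1 d1 ▸ mul_mem c2 d2⟩
  obtain ⟨d, d1, d2⟩ := wk_ind _ (a0 0 (fun _ _ => rfl) (hf_zero_left _)) ad (fun i hi a => by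
    by_cases c : i = i.rev
    swap
    · exact a0 _ ((wk_ev hi).smul a) ((ev_iso c).smul a)
    have c' := congrArg Fin.val c
    rw [Fin.val_rev] at c'
    obtain ⟨z, hz⟩ : ∃ z : Fin (n + 1), z.val = k := ⟨⟨k, by omega⟩, rfl⟩
    obtain ⟨η, hη⟩ := FQ.trs (nm a) (star_nm a)
    have n1 : z ≠ z.rev := fun e => by have := congrArg Fin.val e; rw [Fin.val_rev] at this; omega
    have n2 : i ≠ z := fun e => n1 (e ▸ c)
    have n3 : i ≠ z.rev := fun e => n2 (Fin.rev_injective (c.symm.trans e))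
    have b1 : Wk (n + 1 - k) (ev z : Vn n K) := wk_ev (by omega)
    have b2 : Wk (n + 1 - k) (ev z.rev : Vn n K) := wk_ev (by rw [Fin.val_rev]; omega)
    have a1 := a0 (a • ev i + ev z + η • ev z.rev) ((((wk_ev hi).smul a).add b1).add (b2.smul η)) (by
      simp only [Iso, hf_add_left, hf_add_right, hf_smul_left, hf_smul_right, hf_ev, Fin.rev_rev, ← c,
        n1, n2, n3, n1.symm, n2.symm, n3.symm, if_true, if_false]
      linear_combination hη + a * star a * two0 K)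
    have := ad _ _ (ad _ _ a1 (a0 _ (b2.smul η) ((ev_iso (by simpa using n1.symm)).smul η)))
      (a0 _ b1 (ev_iso n1))
    rwa [add_add, add_add] at this) hx
  have r : star (c + d) = c + d := tr_eq_zero.1 (by
    have := ok.tr.trans d1.tr.symm
    simp only [tr, star_add] at this ⊢
    linear_combination this + (d + star d) * two0 K)
  have := mul_mem d2 (MH (Tc_mem hk hu r))
  rwa [EE_mul d1 (ok_zero iu r), add_zero, hf_zero_left, add_zero,
    show d + (c + d) = c by linear_combination d * two0 K] at this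

theorem ig4 (y : XU n K) (hy : y ∈ GA.Qk (XU n K) (GA.ll (XU n K))) :
    GA.Qk (XU n K) (GA.ll (XU n K)) ≤ closure {v | v * v = 1 ∧
      v ∈ Ns (GA.Mk (XU n K) (GA.ll (XU n K))) ∧ GA.cm v y ∈ GA.Mk (XU n K) (GA.ll (XU n K))} := by
  have hr : GA.Rg (XU n K) (GA.ll (XU n K)) := GA.rgl
  have hl := ll_eq (n := n) (K := K)
  generalize GA.ll (XU n K) = l at *
  have h5 := hp.five
  have hk : 2 * l ≤ n + 1 := by omega
  have QN : GA.Qk (XU n K) l ≤ Ns (GA.Mk (XU n K) l) :=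
    (GA.FB.QM l hr).trans (centralizer_le_normalizer _)
  have MH : GA.Mk (XU n K) l ≤ closure {v | v * v = 1 ∧ v ∈ Ns (GA.Mk (XU n K) l) ∧
      GA.cm v y ∈ GA.Mk (XU n K) l} := fun g hg => subset_closure
    ⟨GA.FB.sqM l hr g hg, QN (GA.FB.MQ l hr hg), GA.FB.cmQ l hr _ (GA.FB.MQ l hr hg) _ hy⟩
  by_cases hn : n = 2 * l
  swap
  · exact fun g hg => MH (mem_M_of_fix hk fun v hv => Qk_fix hk hg (hv.mono (by omega)))
  obtain ⟨μ, hμ⟩ : ∃ μ : Fin (n + 1), μ.val = l := ⟨⟨l, by omega⟩, rfl⟩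
  have w1 := Q_wk hn hμ hy
  obtain ⟨w, hw⟩ : ∃ w, w = ac y (ev μ) + ev μ := ⟨_, rfl⟩
  rw [← hw] at w1
  refine Q_le hn hμ MH fun i hi a => ?_
  obtain ⟨u, hu, u0, u1, u2⟩ : ∃ u, Up l u ∧ u ≠ 0 ∧ hf (ev i) u = 0 ∧ hf w u = 0 := by
    obtain ⟨r, t, r1, t1, n1, n2, n3⟩ : ∃ r t : Fin (n + 1), r.val < l ∧ t.val < l ∧ r ≠ t ∧ i ≠ r ∧
        i ≠ t := by
      simp only [ne_eq, Fin.ext_iff]
      by_cases c : i.val = 0
      · exact ⟨⟨1, by omega⟩, ⟨2, by omega⟩, by simp only; omega⟩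
      by_cases c : i.val = 1
      · exact ⟨⟨0, by omega⟩, ⟨2, by omega⟩, by simp only; omega⟩
      · exact ⟨⟨0, by omega⟩, ⟨1, by omega⟩, by simp only; omega⟩
    by_cases c : w r = 0
    · exact ⟨ev r.rev, up_ev hn r1, ev_ne _, by rw [hf_ev, if_neg (by simpa using n2.symm)], by
        rw [hf_ev_right, Fin.rev_rev, c]⟩
    · refine ⟨star (w t) • ev r.rev + star (w r) • ev t.rev,
        ((up_ev hn r1).smul _).add ((up_ev hn t1).smul _), fun e => c ?_, ?_, ?_⟩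
      · simpa [ev_apply, n1.symm] using congrFun e t.rev
      · simp [hf_add_right, hf_smul_right, hf_ev, n2.symm, n3.symm]
      · simp only [hf_add_right, hf_smul_right, hf_ev_right, Fin.rev_rev, star_star]
        linear_combination w r * w t * two0 K
  have ha : Wk l (a • ev i : Vn n K) := (wk_ev hi).smul a
  have p : Pp (a • ev i) u := ⟨(ha.pp ha hk).l, hu.iso hn, by rw [hf_smul_left, u1, mul_zero]⟩
  have s2 := inv_eq_of_mul_eq_one_right (sq_EE p)
  have s1 : ∀ v, Wk l v → Wk l (ac (EE (a • ev i) u 0) v) := fun v hv => by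
    rw [ac_EE_perp p.ok (hv.pp ha hk).p]; exact hv.add (ha.smul _)
  have s3 := s_mu hn hμ ha hu p
  have s4 := ac_EE_fix p.ok (w1.pp ha hk).p u2
  refine DD_of hn hμ ha hu u0 p fun g hg => subset_closure ⟨?_, ?_, ?_⟩
  · rw [conj_mul, sq_EE p, mul_one, mul_inv_cancel]
  all_goals generalize EE (a • ev i) u 0 = s at *
  · refine mul_mem (mul_mem (QN hg) (mem_normalizer_iff.2 fun m => ⟨conj_M hk s1, fun h => ?_⟩))
      (inv_mem (QN hg))
    have := conj_M (s := s⁻¹) hk (s2.symm ▸ s1) h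
    convert this using 1
    group
  · have e : ac y (ev μ + w) = ev μ := by rw [ac_add, Qk_fix hk hy w1, hw, add_comm, add_comm _ (ev μ), add_add]
    have m := mem_M_of_mu hn hμ (mul_mem (conj_Q hk s2 s1 hy) (inv_mem hy)) (by
      rw [ac_mul, ac_mul, ac_mul, s2]
      nth_rewrite 1 [← e]
      rw [ac_inv_ac, ac_add, s3, s4, e, s3])
    have q := mul_mem hg (conj_Q hk s2 s1 (inv_mem hg))
    have := mul_mem ((mem_normalizer_iff.1 (QN q) _).1 m) (GA.FB.cmQ l hr _ q _ hy)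
    convert this using 1
    simp only [GA.cm]
    group

theorem jobFG : JobFG := fun _ _ _ _ _ _ _ _ => ⟨ig3, ig4⟩

end H19.UMFG
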