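import Cfsg.Agent.H64.YESpec

/-! STD-SP (row S3129), endgame: the slot `BG`. -/

set_option autoImplicit false
set_option linter.unusedSectionVars false

namespace H19.YeBG

open H64.SG (O2 Syl Cz Cs Ns cjs Is2 Inv2 UF IsO2 fx mem_Cz mem_fx)
open Subgroup H67.UA H67.SP H64.YE
open H59.SO (Ind CE NS)

universe u

theorem two_mul_card_aut (F : Type) [Field F] [CharP F 2] [Finite F] :
    2 * Nat.card (RingAut F) ≤ Nat.card F := by
  have := Fintype.ofFinite F
  obtain ⟨f, -, hf⟩ := FiniteField.card F 2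
  rw [H57.card_ringAut_finite_field hf, Nat.card_eq_fintype_card, hf]
  obtain ⟨f, f0⟩ := f
  obtain ⟨m, rfl⟩ : ∃ m, f = m + 1 := ⟨f - 1, by omega⟩
  change 2 * (m + 1) ≤ 2 ^ (m + 1)
  have := @Nat.lt_two_pow_self m
  rw [pow_succ]; omega

theorem card_inner {X : Type} [Group X] [Finite X] {G : Type u} [Group G] [Finite G] {e : X →* G}
    {t : G} (h : CE e t) {U : Subgroup X} (hU : Syl U ⊤) {K : Subgroup G} (h1 : K ≤ Cz t)
    (h2 : IsPGroup 2 K) (h3 : ∀ g ∈ K, ∃ s, g = e s ∨ g = t * e s) :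
    Nat.card K ≤ 2 * Nat.card U := by
  have hp : IsPGroup 2 (K ⊔ zpowers t : Subgroup G) := by
    refine h2.to_sup_of_normal_right' (H64.SG.is2_of_sq h.inv.1).zpowers fun g hg => ?_
    refine centralizer_le_normalizer _ fun a ha => ?_
    obtain ⟨k, rfl⟩ := mem_zpowers_iff.1 ha
    exact (Commute.zpow_left (mem_Cz.1 (h1 hg)) k).eq
  have hA := (H64.SG.syl_iff.1 hU).card_le (H59.SO.isP_comap h.inj hp) le_top
  have key : ∀ g : K, ∃ x : Bool × (K ⊔ zpowers t : Subgroup G).comap e,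
      g.1 = (if x.1 then t else 1) * e x.2 := fun g => by
    obtain ⟨s, hs | hs⟩ := h3 g g.2
    · exact ⟨(false, ⟨s, mem_sup_left (hs ▸ g.2)⟩), by simpa using hs⟩
    · refine ⟨(true, ⟨s, ?_⟩), by simpa using hs⟩
      have : e s = t⁻¹ * g.1 := by rw [hs, inv_mul_cancel_left]
      rw [mem_comap, this]
      exact mul_mem (mem_sup_right (inv_mem (mem_zpowers t))) (mem_sup_left g.2)
  choose f hf using key
  have := Nat.card_le_card_of_injective f fun a b hab => Subtype.ext (by rw [hf a, hf b, hab])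
  rw [Nat.card_prod, Nat.card_eq_fintype_card (α := Bool), Fintype.card_bool] at this
  omega

variable {n : ℕ} {F : Type} [Field F] [StarRing F] [TrivialStar F] [CharP F 2] [Finite F]
  {G : Type u} [Group G] [Finite G] {e : XU n F →* G} {t : G}

theorem bg0 (b : Base n F) (h : CE e t) {P : Subgroup G} (h1 : P ≤ Cz t) (h2 : IsPGroup 2 P) :
    Nat.card P ≤ bq n F := by
  obtain ⟨o, ho⟩ := b.out
  have f1 : fs n F 1 = 1 := by
    have := b.fs_mul 1 1
    rw [mul_one] at this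
    exact left_eq_mul.1 this
  let f : P →* RingAut F := o.comp ((H59.SO.indH h.inj).comp (inclusion (h1.trans h.cz)))
  have hK : Nat.card (f.ker.map P.subtype) ≤ 2 * Nat.card (UU n F) := by
    refine card_inner h b.sylU ((map_subtype_le _).trans h1) (h2.to_le (map_subtype_le _)) ?_
    rintro _ ⟨g, hg, rfl⟩
    have i := H59.SO.ind_indH h.inj (inclusion (h1.trans h.cz) g)
    obtain ⟨s, σ, hs⟩ := b.semi (H59.SO.indH h.inj (inclusion (h1.trans h.cz) g))
    have : σ = 1 := by rw [← ho s σ, ← hs]; exact hg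
    rw [hs, this, f1, mul_one] at i
    exact ⟨s, h.inner b.ns (h1 g.2) (H64.SG.isPGroup_iff_is2.1 h2 _ g.2) i⟩
  rw [card_map_of_injective P.subtype_injective, b.cardU] at hK
  have h4 : Nat.card P = Nat.card f.ker * Nat.card f.range := by
    rw [← index_ker, f.ker.card_mul_index]
  have h5 : Nat.card f.range ≤ Nat.card (RingAut F) := card_le_card_group _
  have h6 := two_mul_card_aut F
  rw [h4, bq, pow_succ]
  calc _ ≤ 2 * Nat.card F ^ (kk n ^ 2) * Nat.card (RingAut F) := Nat.mul_le_mul hK h5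
    _ = Nat.card F ^ (kk n ^ 2) * (2 * Nat.card (RingAut F)) := by ring
    _ ≤ _ := Nat.mul_le_mul_left _ h6

theorem bg (b : Base n F) (h : CE e t) : BG n F t := fun s hs P h1 h2 => by
  obtain ⟨g, rfl⟩ := isConj_iff.1 hs
  exact bg0 b (h.cje g) h1 h2

theorem jobBG : JobBG.{u} := by
  intro n F _ _ _ _ _ _ G _ _ e t b _ _ Y _ _ _ ι τ Gd U Φ h
  have hb := bg b h.toCE
  refine ⟨hb, fun hy y c => ?_⟩
  have i2 : Inv2 (Φ y) := by
    obtain ⟨g, hg⟩ := isConj_iff.1 c
    rw [← hg]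
    exact ⟨by rw [← MulAut.conj_apply, ← map_mul, h.inv.1, map_one],
      fun h1 => h.inv.2 (by simpa [mul_inv_eq_one] using h1)⟩
  obtain ⟨s, s2, hs⟩ := exists_sq_range h.ker ⟨y, rfl⟩ i2.1
  obtain ⟨P, p1, p2, p3⟩ := hy s ⟨s2, fun h1 => i2.2 (by rw [← hs, h1, map_one])⟩
  have := hb _ c (P.map Φ) ?_ (p2.map Φ)
  · rw [card_map2 h.ker p2] at this
    omega
  · rintro _ ⟨a, ha, rfl⟩
    have h3 : s * a * s⁻¹ = a := mem_fx.1 (p1 ha)
    rw [mem_Cz, ← hs, ← map_mul, ← map_mul, mul_inv_eq_iff_eq_mul.1 h3]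

end H19.YeBG
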